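import Mathlib
import Cfsg.Prelude.Def_LieTypeDatum
import Cfsg.Agent.AutPSL.Induced
import Cfsg.Agent.AutPSL.Descent
import Cfsg.Agent.Lib.Reflections.Siegel

/-!
The orthogonal carrier `Ω(Q)` as a matrix group: semisimilarities normalise it, and a semilinear map
inducing the identity on `PΩ(Q)` is a scalar as soon as `Q` has three hyperbolic pairs and `Ω(Q)`
contains the Siegel transformations (helper60).
-/

set_option autoImplicit false

namespace Cfsg.Agent.FieldAutGen.Orth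

open Matrix QuadraticMap
open Cfsg.Agent.AutPSL (Normalises Induced fieldMap act act_apply)

universe u

variable {ι : Type} [Fintype ι] [DecidableEq ι] {F : Type u} [Field F]

/-- The inclusion of `Ω(Q)` into the matrices. -/
def rho (Q : (ι → F) → F) : ↥(Cfsg.Omega F Q) →* GL ι F :=
  (Cfsg.isometryGroup F Q).subtype.comp (Cfsg.Omega F Q).subtype

theorem rho_injective (Q : (ι → F) → F) : Function.Injective (rho Q) :=
  fun _ _ h => Subtype.ext (Subtype.ext h)

theorem induced_iff {Q : (ι → F) → F} {g : GL ι F} {σ : F ≃+* F} {β : MulAut (Cfsg.POmega F Q)} :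
    Cfsg.IsInducedBySemilinearPOmega Q g σ β ↔ Induced (rho Q) g σ β :=
  ⟨fun h s s' hs => h s s' (congrArg Units.val hs), fun h s s' hs => h s s' (Units.ext hs)⟩

theorem isFieldAut_iff {Q : (ι → F) → F} {σ : F ≃+* F} {β : MulAut (Cfsg.POmega F Q)} :
    Cfsg.IsFieldAutPOmegaOf Q σ β ↔ Induced (rho Q) 1 σ β := by
  refine ⟨fun h s s' hs => h s s' ?_, fun h s s' hs => h s s' (Units.ext ?_)⟩
  · have := congrArg Units.val hs
    rwa [AutPSL.act_coe, inv_one, Units.val_one, one_mul, mul_one] at this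
  · rw [AutPSL.act_coe, inv_one, Units.val_one, one_mul, mul_one]
    exact hs

theorem mem_iso {Q : (ι → F) → F} {g : GL ι F} :
    g ∈ Cfsg.isometryGroup F Q ↔ ∀ v, Q ((g : Matrix ι ι F) *ᵥ v) = Q v :=
  ⟨fun h v => h v v, fun h v _ => h v⟩

theorem map_mulVec (σ : F ≃+* F) (M : Matrix ι ι F) (v : ι → F) :
    M.map σ *ᵥ (σ ∘ v) = σ ∘ (M *ᵥ v) :=
  funext fun i => (RingHom.map_mulVec σ.toRingHom M v i).symm

theorem exists_preimage (g : GL ι F) (σ : F ≃+* F) (x : ι → F) :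
    ∃ v, x = (g : Matrix ι ι F) *ᵥ (σ ∘ v) := by
  refine ⟨σ.symm ∘ (((g⁻¹ : GL ι F) : Matrix ι ι F) *ᵥ x), ?_⟩
  rw [show σ ∘ (σ.symm ∘ (((g⁻¹ : GL ι F) : Matrix ι ι F) *ᵥ x)) = ((g⁻¹ : GL ι F) : Matrix ι ι F) *ᵥ x
    from funext fun i => σ.apply_symm_apply _, mulVec_mulVec, ← Units.val_mul,
    mul_inv_cancel, Units.val_one, one_mulVec]

theorem act_mulVec (g : GL ι F) (σ : F ≃+* F) (h : GL ι F) (v : ι → F) :
    ((act g σ h : GL ι F) : Matrix ι ι F) *ᵥ ((g : Matrix ι ι F) *ᵥ (σ ∘ v)) =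
      (g : Matrix ι ι F) *ᵥ (σ ∘ ((h : Matrix ι ι F) *ᵥ v)) := by
  rw [AutPSL.act_coe, mulVec_mulVec, mul_assoc, ← Units.val_mul, inv_mul_cancel, Units.val_one,
    mul_one, ← mulVec_mulVec, map_mulVec]

theorem act_mem_iso {Q : (ι → F) → F} {g : GL ι F} {σ : F ≃+* F}
    (hg : Cfsg.IsSemisimilarityPair Q g σ) {h : GL ι F} (hh : h ∈ Cfsg.isometryGroup F Q) :
    act g σ h ∈ Cfsg.isometryGroup F Q := by
  obtain ⟨c, hc⟩ := hg
  refine mem_iso.2 fun x => ?_
  obtain ⟨v, rfl⟩ := exists_preimage g σ x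
  rw [act_mulVec]
  exact (hc _).trans ((congrArg (fun a => (c : F) * σ a) (mem_iso.1 hh v)).trans (hc v).symm)

/-- Semisimilarities normalise `Ω(Q)`. -/
theorem normalises {Q : (ι → F) → F} {g : GL ι F} {σ : F ≃+* F}
    (hg : Cfsg.IsSemisimilarityPair Q g σ) : Normalises (rho Q) g σ := by
  intro s
  let f : ↥(Cfsg.isometryGroup F Q) →* ↥(Cfsg.isometryGroup F Q) :=
    ((act g σ).comp (Cfsg.isometryGroup F Q).subtype).codRestrict _ fun h => act_mem_iso hg h.2
  have hs : f (s : ↥(Cfsg.isometryGroup F Q)) ∈ Cfsg.Omega F Q := by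
    have h1 : (Cfsg.Omega F Q).map f ≤ Cfsg.Omega F Q := by
      rw [Cfsg.Omega, commutator_def, Subgroup.map_commutator]
      exact Subgroup.commutator_mono le_top le_top
    exact h1 ⟨_, s.2, rfl⟩
  exact ⟨⟨_, hs⟩, rfl⟩

theorem isSemi_one_iff {Q : (ι → F) → F} {g : GL ι F} :
    Cfsg.IsSemisimilarityPair Q g 1 ↔ g ∈ Cfsg.Geo.quadSimilarityGroup (F := F) Q :=
  Iff.rfl

theorem isSemi_std {Q : (ι → F) → F} {σ : F ≃+* F} (hσ : ∀ v : ι → F, Q (σ ∘ v) = σ (Q v)) :
    Cfsg.IsSemisimilarityPair Q 1 σ :=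
  ⟨1, fun v => by rw [Units.val_one, Units.val_one, one_mul, one_mulVec]; exact hσ v⟩

theorem IsSemi_comp {Q : (ι → F) → F} {g h : GL ι F} {σ τ : F ≃+* F}
    (hg : Cfsg.IsSemisimilarityPair Q g σ) (hh : Cfsg.IsSemisimilarityPair Q h τ) :
    Cfsg.IsSemisimilarityPair Q (g * fieldMap σ h) (σ * τ) := by
  obtain ⟨c, hc⟩ := hg
  obtain ⟨d, hd⟩ := hh
  refine ⟨c * Units.map (σ.toRingHom : F →* F) d, fun v => ?_⟩
  have e : (fun i => (σ * τ) (v i)) = σ ∘ (τ ∘ v) := rfl
  rw [Units.val_mul, ← mulVec_mulVec, e, AutPSL.fieldMap_coe, map_mulVec]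
  refine (hc _).trans ?_
  show (c : F) * σ (Q ((h : Matrix ι ι F) *ᵥ (τ ∘ v))) = _
  rw [show Q ((h : Matrix ι ι F) *ᵥ (τ ∘ v)) = (d : F) * τ (Q v) from hd v, map_mul, Units.val_mul]
  exact (mul_assoc _ _ _).symm

theorem isSemi_inverse {Q : (ι → F) → F} {g : GL ι F} {σ : F ≃+* F}
    (hg : Cfsg.IsSemisimilarityPair Q g σ) :
    Cfsg.IsSemisimilarityPair Q (fieldMap σ⁻¹ g⁻¹) σ⁻¹ := by
  obtain ⟨c, hc⟩ := hg
  refine ⟨(Units.map (σ.symm.toRingHom : F →* F) c)⁻¹, fun v => ?_⟩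
  obtain ⟨w, rfl⟩ := exists_preimage g σ v
  have e : ((fieldMap σ⁻¹ g⁻¹ : GL ι F) : Matrix ι ι F) *ᵥ
      (fun i => σ⁻¹ (((g : Matrix ι ι F) *ᵥ (σ ∘ w)) i)) = w := by
    rw [show (fun i => σ⁻¹ (((g : Matrix ι ι F) *ᵥ (σ ∘ w)) i)) =
        ((σ⁻¹ : F ≃+* F) : F → F) ∘ ((g : Matrix ι ι F) *ᵥ (σ ∘ w)) from rfl, AutPSL.fieldMap_coe, map_mulVec,
      mulVec_mulVec, ← Units.val_mul, inv_mul_cancel, Units.val_one, one_mulVec,
      ← Function.comp_assoc]
    exact funext fun i => σ.symm_apply_apply (w i)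
  rw [e]
  have h2 : σ⁻¹ (Q ((g : Matrix ι ι F) *ᵥ (σ ∘ w))) = σ.symm c * Q w := by
    show σ.symm (Q ((g : Matrix ι ι F) *ᵥ (σ ∘ w))) = _
    rw [show Q ((g : Matrix ι ι F) *ᵥ (σ ∘ w)) = (c : F) * σ (Q w) from hc w, map_mul,
      σ.symm_apply_apply]
  rw [h2, Units.val_inv_eq_inv_val]
  exact (inv_mul_cancel_left₀ ((map_ne_zero σ.symm).2 c.ne_zero) _).symm

/-- Semisimilarities normalise the similarity group. -/
theorem conj_similarity {Q : (ι → F) → F} {g : GL ι F} {σ : F ≃+* F}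
    (hg : Cfsg.IsSemisimilarityPair Q g σ) {h : GL ι F}
    (hh : h ∈ Cfsg.Geo.quadSimilarityGroup (F := F) Q) :
    g * fieldMap σ h * g⁻¹ ∈ Cfsg.Geo.quadSimilarityGroup (F := F) Q := by
  have h3 := IsSemi_comp (IsSemi_comp hg (isSemi_one_iff.2 hh)) (isSemi_inverse hg)
  rw [mul_one, mul_inv_cancel, AutPSL.fieldMap_apply_inv] at h3
  exact h3

/-- `Ω(Q)` contains the Siegel transformations. -/
def HasSiegel (Q : QuadraticForm F (ι → F)) : Prop :=
  ∀ u v : ι → F, Q u = 0 → Q v = 0 → polar ⇑Q u v = 0 →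
    ∃ s : ↥(Cfsg.Omega F ⇑Q), (rho ⇑Q s : Matrix ι ι F) = Cfsg.siegelMatrix ⇑Q u v 1

theorem hasSiegel_of_two_ne_zero (h2 : (2 : F) ≠ 0) (Q : QuadraticForm F (ι → F))
    (hQ : Q.polarBilin.Nondegenerate) : HasSiegel Q := fun u v hu hv huv =>
  ⟨⟨Reflections.siegel Q hu hv huv 1, (Reflections.siegel_commutator h2 Q hQ u v hu hv huv 1
    (Reflections.siegel Q hu hv huv 1) (by rw [Reflections.siegel, Reflections.mat_mkIsom])).2⟩,
    show Reflections.mat (Reflections.siegel Q hu hv huv 1) = _ by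
      rw [Reflections.siegel, Reflections.mat_mkIsom]⟩

/-- A family of mutually orthogonal hyperbolic pairs. -/
structure Frame (Q : QuadraticForm F (ι → F)) (k : ℕ) where
  e : Fin k → ι → F
  f : Fin k → ι → F
  Qe : ∀ i, Q (e i) = 0
  Qf : ∀ i, Q (f i) = 0
  ef : ∀ i j, polar ⇑Q (e i) (f j) = if i = j then 1 else 0
  ee : ∀ i j, i ≠ j → polar ⇑Q (e i) (e j) = 0
  ff : ∀ i j, i ≠ j → polar ⇑Q (f i) (f j) = 0

variable {Q : QuadraticForm F (ι → F)} {k : ℕ}

theorem Frame.fe (E : Frame Q k) (i j : Fin k) :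
    polar ⇑Q (E.f i) (E.e j) = if j = i then 1 else 0 := by rw [polar_comm, E.ef]

theorem Frame.ee' (E : Frame Q k) (i j : Fin k) : polar ⇑Q (E.e i) (E.e j) = 0 := by
  by_cases h : i = j
  · subst h; rw [Reflections.polar_self', E.Qe, mul_zero]
  · exact E.ee i j h

theorem Frame.ff' (E : Frame Q k) (i j : Fin k) : polar ⇑Q (E.f i) (E.f j) = 0 := by
  by_cases h : i = j
  · subst h; rw [Reflections.polar_self', E.Qf, mul_zero]
  · exact E.ff i j h

theorem exists_ne_ne (hk : 3 ≤ k) (i j : Fin k) : ∃ l, l ≠ i ∧ l ≠ j := by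
  by_contra h
  push Not at h
  have hsub : (Finset.univ : Finset (Fin k)) ⊆ {i, j} := by
    intro l _
    by_cases hl : l = i
    · simp [hl]
    · simp [h l hl]
  have := (Finset.card_le_card hsub).trans Finset.card_le_two
  rw [Finset.card_univ, Fintype.card_fin] at this
  omega

/-- A semilinear map commuting with the Siegel transformations is a scalar. -/
theorem eq_scalar_of_commute (hk : 3 ≤ k) (E : Frame Q k) (g : GL ι F) (σ : F ≃+* F)
    (hcomm : ∀ u v : ι → F, Q u = 0 → Q v = 0 → polar ⇑Q u v = 0 → ∀ x : ι → F,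
      (g : Matrix ι ι F) *ᵥ (σ ∘ (Cfsg.siegelMatrix ⇑Q u v 1 *ᵥ x)) =
        Cfsg.siegelMatrix ⇑Q u v 1 *ᵥ ((g : Matrix ι ι F) *ᵥ (σ ∘ x))) :
    σ = 1 ∧ ∃ c : F, c ≠ 0 ∧ (g : Matrix ι ι F) = c • 1 := by
  classical
  set T : (ι → F) → (ι → F) := fun x => (g : Matrix ι ι F) *ᵥ (σ ∘ x) with hT
  have Tadd : ∀ x y, T (x + y) = T x + T y := fun x y => by
    show (g : Matrix ι ι F) *ᵥ _ = _
    rw [← mulVec_add]; congr 1; funext i; exact map_add σ _ _
  have Tsmul : ∀ (t : F) x, T (t • x) = σ t • T x := fun t x => by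
    show (g : Matrix ι ι F) *ᵥ _ = _
    rw [← mulVec_smul]; congr 1; funext i; exact map_mul σ _ _
  have Tsub : ∀ x y, T (x - y) = T x - T y := fun x y => by
    have h := Tadd (x - y) y
    rw [sub_add_cancel] at h
    rw [h, add_sub_cancel_right]
  have Tne : ∀ x, x ≠ 0 → T x ≠ 0 := fun x hx h => by
    have h1 := congrArg (((g⁻¹ : GL ι F) : Matrix ι ι F) *ᵥ ·) h
    simp only [hT, mulVec_mulVec, ← Units.val_mul, inv_mul_cancel, Units.val_one, one_mulVec,
      mulVec_zero] at h1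
    exact hx (funext fun i => σ.injective ((congrFun h1 i).trans (map_zero σ).symm))
  have hne : ∀ {x y : ι → F}, polar ⇑Q x y ≠ 0 → x ≠ 0 := fun {x y} h e => h (by
    rw [e, QuadraticMap.polar_zero_left])
  -- the image of a special singular vector lies in its two root lines
  have plane : ∀ u v d, Q u = 0 → Q v = 0 → polar ⇑Q u v = 0 → polar ⇑Q v d = 1 →
      polar ⇑Q u d = 0 → ∃ p q : F, T u = p • u + q • v := by
    intro u v d hu hv huv hvd hud
    have h := hcomm u v hu hv huv d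
    rw [Reflections.siegel_mulVec, Reflections.siegel_mulVec, one_mul, one_mul, hvd, hud, zero_smul,
      add_zero, one_smul] at h
    change T (d - u) = T d + _ - _ at h
    rw [Tsub] at h
    refine ⟨1 * polar ⇑Q v (T d), -(1 * polar ⇑Q u (T d)), ?_⟩
    linear_combination (norm := module) -h
  have line : ∀ (u : ι → F) (l : Fin k), Q u = 0 → polar ⇑Q u (E.e l) = 0 →
      polar ⇑Q u (E.f l) = 0 → ∃ a : F, T u = a • u := by
    intro u l hu hue huf
    obtain ⟨p, q, h1⟩ := plane u (E.e l) (E.f l) hu (E.Qe l) hue (by rw [E.ef, if_pos rfl]) huf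
    obtain ⟨p', q', h2⟩ := plane u (E.f l) (E.e l) hu (E.Qf l) huf (by rw [E.fe, if_pos rfl]) hue
    have hq : q = 0 := by
      have h3 := congrArg (fun y => polar ⇑Q y (E.f l)) (h1.symm.trans h2)
      simp only [polar_add_left, polar_smul_left, huf, E.ef, E.ff', smul_eq_mul,
        if_true] at h3
      linear_combination h3
    exact ⟨p, by rw [h1, hq, zero_smul, add_zero]⟩
  have i₀ : Fin k := ⟨0, by omega⟩
  have he : ∀ i, ∃ a : F, a ≠ 0 ∧ T (E.e i) = a • E.e i := fun i => by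
    obtain ⟨l, hl, -⟩ := exists_ne_ne hk i i
    obtain ⟨a, ha⟩ := line (E.e i) l (E.Qe i) (E.ee' i l) (by rw [E.ef, if_neg (Ne.symm hl)])
    refine ⟨a, fun h0 => Tne (E.e i) (hne (y := E.f i) (by simp [E.ef])) ?_, ha⟩
    rw [ha, h0, zero_smul]
  have hf : ∀ i, ∃ a : F, a ≠ 0 ∧ T (E.f i) = a • E.f i := fun i => by
    obtain ⟨l, hl, -⟩ := exists_ne_ne hk i i
    obtain ⟨a, ha⟩ := line (E.f i) l (E.Qf i) (by rw [E.fe, if_neg hl]) (E.ff' i l)
    refine ⟨a, fun h0 => Tne (E.f i) (hne (y := E.e i) (by simp [E.fe])) ?_, ha⟩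
    rw [ha, h0, zero_smul]
  choose a ha0 ha using he
  choose b hb0 hb using hf
  have key : ∀ i j, i ≠ j → ∀ t : F, σ t * a j = a i * t := by
    intro i j hij t
    obtain ⟨l, hli, hlj⟩ := exists_ne_ne hk i j
    have hu : Q (E.e i + t • E.e j) = 0 := by
      rw [Reflections.map_add', Reflections.map_smul', E.Qe, E.Qe, polar_smul_right, E.ee i j hij,
        smul_zero]
      ring
    obtain ⟨c, hc⟩ := line _ l hu
      (by rw [polar_add_left, polar_smul_left, E.ee', E.ee', smul_zero, add_zero])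
      (by rw [polar_add_left, polar_smul_left, E.ef, E.ef, if_neg (Ne.symm hli),
        if_neg (Ne.symm hlj), smul_zero, add_zero])
    rw [Tadd, Tsmul, ha, ha] at hc
    have h1 := congrArg (fun y => polar ⇑Q y (E.f i)) hc
    have h2 := congrArg (fun y => polar ⇑Q y (E.f j)) hc
    simp only [polar_add_left, polar_smul_left, E.ef, if_pos, if_neg hij, if_neg (Ne.symm hij),
      smul_eq_mul, mul_one, mul_zero, add_zero, zero_add] at h1 h2
    rw [h1]; exact h2
  have hall : ∀ i j, a i = a j := fun i j => by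
    by_cases hij : i = j
    · rw [hij]
    · have := key i j hij 1
      rw [map_one, one_mul, mul_one] at this
      exact this.symm
  have hσ : σ = 1 := by
    obtain ⟨j, hj, -⟩ := exists_ne_ne hk i₀ i₀
    refine RingEquiv.ext fun t => ?_
    have := key i₀ j (Ne.symm hj) t
    rw [hall j i₀, mul_comm (a i₀)] at this
    exact mul_right_cancel₀ (ha0 i₀) this
  subst hσ
  set c := a i₀ with hc_def
  have hbc : ∀ j, b j = c := fun j => by
    obtain ⟨i, hij, -⟩ := exists_ne_ne hk j j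
    obtain ⟨l, hli, hlj⟩ := exists_ne_ne hk i j
    have hu : Q (E.e i + E.f j) = 0 := by
      rw [Reflections.map_add', E.Qe, E.Qf, E.ef, if_neg hij]; ring
    obtain ⟨d, hd⟩ := line _ l hu
      (by rw [polar_add_left, E.ee', E.fe, if_neg hlj, add_zero])
      (by rw [polar_add_left, E.ef, E.ff', if_neg (Ne.symm hli), add_zero])
    rw [Tadd, ha, hb] at hd
    have h1 := congrArg (fun y => polar ⇑Q y (E.f i)) hd
    have h2 := congrArg (fun y => polar ⇑Q y (E.e j)) hd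
    simp only [polar_add_left, polar_smul_left, E.ef, E.fe, E.ee', E.ff', if_pos,
      smul_eq_mul, mul_one, mul_zero, add_zero, zero_add] at h1 h2
    rw [h2, ← h1, hc_def, hall i i₀]
  have hrest : ∀ x : ι → F, (∀ i, polar ⇑Q x (E.e i) = 0) → (∀ i, polar ⇑Q x (E.f i) = 0) →
      T x = c • x := by
    intro x hxe hxf
    obtain ⟨j, hj, -⟩ := exists_ne_ne hk i₀ i₀
    obtain ⟨l, hli, hlj⟩ := exists_ne_ne hk i₀ j
    have hi : ∀ i, l ≠ i → ∃ d : F, T x = d • x + (d - c) • (E.e i - Q x • E.f i) := by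
      intro i hli
      have hu : Q (x + (E.e i - Q x • E.f i)) = 0 := by
        rw [Reflections.map_add', Reflections.map_sub', Reflections.map_smul', E.Qe, E.Qf,
          polar_sub_right, polar_smul_right, polar_smul_right, E.ef, hxe, hxf, if_pos rfl, smul_zero,
          smul_eq_mul]
        ring
      obtain ⟨d, hd⟩ := line _ l hu
        (by rw [polar_add_left, polar_sub_left, polar_smul_left, hxe, E.ee', E.fe, if_neg hli,
          smul_zero, sub_zero, add_zero])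
        (by rw [polar_add_left, polar_sub_left, polar_smul_left, hxf, E.ef, E.ff',
          if_neg (Ne.symm hli), smul_zero, sub_zero, add_zero])
      refine ⟨d, ?_⟩
      rw [Tadd, Tsub, Tsmul, ha, hb, hbc, hall i i₀, ← hc_def] at hd
      change T x + (c • E.e i - Q x • c • E.f i) = _ at hd
      linear_combination (norm := module) hd
    obtain ⟨d, hd⟩ := hi i₀ hli
    obtain ⟨d', hd'⟩ := hi j hlj
    have h1 := congrArg (fun y => polar ⇑Q y (E.f i₀)) (hd.symm.trans hd')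
    simp only [polar_add_left, polar_sub_left, polar_smul_left, hxf, E.ef, E.ff', if_pos,
      if_neg hj, smul_eq_mul, mul_one, mul_zero, add_zero, zero_add, sub_zero] at h1
    rw [hd, h1, zero_smul, add_zero, show d = c from sub_eq_zero.1 h1]
  have Tsum : ∀ {α : Type} (s : Finset α) (w : α → ι → F), T (∑ i ∈ s, w i) = ∑ i ∈ s, T (w i) := by
    intro α s w
    exact map_sum (AddMonoidHom.mk' T Tadd) w s
  have hallx : ∀ x, T x = c • x := by
    intro x
    set h := ∑ i, (polar ⇑Q x (E.f i) • E.e i + polar ⇑Q x (E.e i) • E.f i) with hh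
    have hTh : T h = c • h := by
      rw [hh, Tsum, Finset.smul_sum]
      refine Finset.sum_congr rfl fun i _ => ?_
      rw [Tadd, Tsmul, Tsmul, ha, hb, hbc, hall i i₀, ← hc_def, smul_add,
        show ∀ t : F, (1 : F ≃+* F) t = t from fun _ => rfl,
        show ∀ t : F, (1 : F ≃+* F) t = t from fun _ => rfl, smul_comm c, smul_comm c]
    have hpl : ∀ y, polar ⇑Q h y = ∑ i, (polar ⇑Q x (E.f i) * polar ⇑Q (E.e i) y +
        polar ⇑Q x (E.e i) * polar ⇑Q (E.f i) y) := by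
      intro y
      rw [hh, ← polarBilin_apply_apply, map_sum, LinearMap.sum_apply]
      refine Finset.sum_congr rfl fun i _ => ?_
      rw [polarBilin_apply_apply, polar_add_left, polar_smul_left, polar_smul_left, smul_eq_mul,
        smul_eq_mul]
    have hoe : ∀ l, polar ⇑Q (x - h) (E.e l) = 0 := fun l => by
      rw [polar_sub_left, hpl]; simp [E.ee', E.fe, Finset.sum_add_distrib]
    have hof : ∀ l, polar ⇑Q (x - h) (E.f l) = 0 := fun l => by
      rw [polar_sub_left, hpl]; simp [E.ef, E.ff', Finset.sum_add_distrib]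
    have := hrest _ hoe hof
    rw [Tsub, hTh, smul_sub, sub_left_inj] at this
    exact this
  refine ⟨rfl, c, ha0 i₀, Matrix.ext_of_mulVec_single fun i => ?_⟩
  have := hallx (Pi.single i 1)
  rw [smul_mulVec, one_mulVec]
  simpa [hT] using this

/-- A semilinear map inducing the identity on `PΩ(Q)` is a scalar. -/
theorem eq_one_of_induced (hk : 3 ≤ k) (E : Frame Q k) (hS : HasSiegel Q) {g : GL ι F} {σ : F ≃+* F}
    (hg : Cfsg.IsSemisimilarityPair (⇑Q) g σ) (h : Induced (rho ⇑Q) g σ 1) :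
    σ = 1 ∧ ∃ c : Fˣ, g = AutPSL.scalarGL ι c := by
  have step : ∀ (g : GL ι F) (σ : F ≃+* F), (∀ u v, Q u = 0 → Q v = 0 → polar ⇑Q u v = 0 →
      ∀ s : ↥(Cfsg.Omega F ⇑Q), (rho ⇑Q s : Matrix ι ι F) = Cfsg.siegelMatrix ⇑Q u v 1 →
      act g σ (rho ⇑Q s) = rho ⇑Q s) →
      σ = 1 ∧ ∃ c : Fˣ, g = AutPSL.scalarGL ι c := by
    intro g σ hfix
    obtain ⟨hσ, c, hc, hgc⟩ := eq_scalar_of_commute hk E g σ fun u v hu hv huv x => by
      obtain ⟨s, hs⟩ := hS u v hu hv huv
      have h1 := congrArg (fun y : GL ι F => (y : Matrix ι ι F) *ᵥ ((g : Matrix ι ι F) *ᵥ (σ ∘ x)))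
        (hfix u v hu hv huv s hs)
      simp only [act_mulVec, hs] at h1
      exact h1
    exact ⟨hσ, Units.mk0 c hc, Units.ext (by rw [AutPSL.scalarGL_coe, hgc]; rfl)⟩
  haveI : Nonempty ι := by
    by_contra hne
    rw [not_nonempty_iff] at hne
    have h0 := E.ef ⟨0, by omega⟩ ⟨0, by omega⟩
    rw [if_pos rfl, Subsingleton.elim (E.e _) 0, QuadraticMap.polar_zero_left] at h0
    exact zero_ne_one h0
  refine step g σ fun u v hu hv huv s hs => ?_
  obtain ⟨s', hs'⟩ := normalises hg s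
  have hmk := h s s' hs'
  rw [MulAut.one_apply, QuotientGroup.eq] at hmk
  set z := s⁻¹ * s' with hz
  obtain ⟨-, l, hl⟩ := step (rho ⇑Q z) 1 fun u v _ _ _ t _ => by
    rw [act_apply, AutPSL.fieldMap_one, ← map_mul, ← map_inv, ← map_mul,
      ← Subgroup.mem_center_iff.1 hmk t, mul_inv_cancel_right]
  have hl1 : (l : F) = 1 := by
    by_cases hu0 : u = 0 ∧ v = 0
    · have h1 : rho ⇑Q s = 1 := Units.ext (by rw [hs, hu0.1, hu0.2]; simp [Cfsg.siegelMatrix])
      have h2 : rho ⇑Q z = 1 := by rw [hz, map_mul, map_inv, hs', h1]; simp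
      rw [h2] at hl
      exact (congrArg Units.val (AutPSL.scalarGL_injective (a₂ := (1 : Fˣ)) (hl.symm.trans (map_one _).symm)))
    · obtain ⟨y₀, hy₀, hfy⟩ : ∃ y₀ : ι → F, y₀ ≠ 0 ∧ Cfsg.siegelMatrix ⇑Q u v 1 *ᵥ y₀ = y₀ := by
        obtain ⟨f1, f2⟩ : Cfsg.siegelMatrix ⇑Q u v 1 *ᵥ u = u ∧ Cfsg.siegelMatrix ⇑Q u v 1 *ᵥ v = v := by
          have hvu : polar ⇑Q v u = 0 := by rw [polar_comm, huv]
          constructor <;> simp [Reflections.siegel_mulVec, Reflections.polar_self', hu, hv, huv, hvu]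
        by_cases hu' : u = 0
        · exact ⟨v, fun h => hu0 ⟨hu', h⟩, f2⟩
        · exact ⟨u, hu', f1⟩
      set S := Cfsg.siegelMatrix ⇑Q u v 1
      set y := (g : Matrix ι ι F) *ᵥ (σ ∘ y₀) with hy
      have hyne : y ≠ 0 := fun e => hy₀ (by
        have h1 := congrArg (((g⁻¹ : GL ι F) : Matrix ι ι F) *ᵥ ·) e
        simp only [hy, mulVec_mulVec, ← Units.val_mul, inv_mul_cancel, Units.val_one, one_mulVec,
          mulVec_zero] at h1
        exact funext fun i => σ.injective ((congrFun h1 i).trans (map_zero σ).symm))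
      have h1 := congrArg (fun w : GL ι F => (w : Matrix ι ι F) *ᵥ y)
        (show act g σ (rho ⇑Q s) = rho ⇑Q s * AutPSL.scalarGL ι l by
          rw [← hs', ← hl, hz, ← map_mul, mul_inv_cancel_left])
      simp only [hy, act_mulVec, hs] at h1
      rw [hfy, ← hy, Units.val_mul, AutPSL.scalarGL_coe, hs, Matrix.mul_smul, mul_one,
        smul_mulVec] at h1
      have hSy : S *ᵥ y = (l : F)⁻¹ • y := by
        rw [eq_inv_smul_iff₀ l.ne_zero, ← h1]
      have hnil : S *ᵥ (S *ᵥ y - y) = S *ᵥ y - y := by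
        simp only [S, Reflections.siegel_mulVec, one_mul]
        simp [polar_add_right, polar_sub_right, polar_smul_right, Reflections.polar_self', hu, hv,
          huv, show polar ⇑Q v u = 0 by rw [polar_comm, huv]]
      rw [hSy, mulVec_sub, mulVec_smul, hSy] at hnil
      have h2 : (((l : F)⁻¹ - 1) * ((l : F)⁻¹ - 1)) • y = 0 := by
        linear_combination (norm := module) hnil
      rcases smul_eq_zero.1 h2 with h3 | h3
      · rw [mul_self_eq_zero, sub_eq_zero, inv_eq_one] at h3; exact h3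
      · exact absurd h3 hyne
  rw [← hs', show s' = s * z by rw [hz, mul_inv_cancel_left], map_mul, hl, show l = 1 from Units.ext hl1,
    show AutPSL.scalarGL (F := F) ι 1 = 1 from map_one _, mul_one]

end Cfsg.Agent.FieldAutGen.Orth
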