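import Mathlib
import Cfsg.Agent.FieldAutGen.OrthBasic
import Cfsg.Agent.CG26.AutPO.Standard

/-!
Every automorphism of `PΩ(Q)` is induced by a semisimilarity, in the matrix language (helper60).
-/

set_option autoImplicit false

namespace Cfsg.Agent.FieldAutGen.Orth

open Matrix
open Cfsg.Agent.UnitaryOrthogonal (orth eichGroup isometryGroupEquiv)
open Cfsg.Agent.AutPSL (Induced)

universe u

variable {ι : Type} [Fintype ι] [DecidableEq ι] {F : Type u} [Field F] [Finite F]

theorem exists_semi {f : (ι → F) → F} {Q : QuadraticForm F (ι → F)} (hf : ∀ v, Q v = f v)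
    (hS : CG26.AutPO.Setup Q) (hB : CG26.AutPO.Big Q) (α : MulAut (Cfsg.POmega F f)) :
    ∃ (g : GL ι F) (σ : F ≃+* F), Cfsg.IsSemisimilarityPair f g σ ∧ Induced (rho f) g σ α := by
  classical
  haveI := hS.fin
  set φ := isometryGroupEquiv (f := f) Q hf with hφ
  have hmap : (Cfsg.Omega F f).map φ.toMonoidHom = eichGroup Q := by
    rw [← OrthStab.commutator_eq hS.nd (le_trans (by norm_num) hS.dim), Cfsg.Omega, commutator_def,
      Subgroup.map_commutator, Subgroup.map_top_of_surjective _ φ.surjective, commutator_def]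
  let e : ↥(Cfsg.Omega F f) ≃* CG26.AutPO.Om Q :=
    (φ.subgroupMap (Cfsg.Omega F f)).trans (MulEquiv.subgroupCongr hmap)
  have hZ : (Subgroup.center ↥(Cfsg.Omega F f)).map e.toMonoidHom = Subgroup.center (CG26.AutPO.Om Q) := by
    refine le_antisymm ?_ fun y hy => ?_
    · rintro _ ⟨x, hx, rfl⟩
      refine Subgroup.mem_center_iff.2 fun y => ?_
      have := congrArg e (Subgroup.mem_center_iff.1 hx (e.symm y))
      rw [map_mul, map_mul, e.apply_symm_apply] at this
      exact this
    · refine ⟨e.symm y, Subgroup.mem_center_iff.2 fun x => e.injective ?_, e.apply_symm_apply y⟩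
      rw [map_mul, map_mul, e.apply_symm_apply]
      exact Subgroup.mem_center_iff.1 hy (e x)
  let E : Cfsg.POmega F f ≃* CG26.AutPO.PO Q := QuotientGroup.congr _ _ e hZ
  obtain ⟨s, hs⟩ := CG26.AutPO.exists_sim_aut hS hB (MulAut.congr E α)
  let L : (ι → F) →ₗ[F] (ι → F) :=
    { toFun := fun x => s.g (s.σ.symm ∘ x)
      map_add' := fun x y => by
        rw [← map_add]; congr 1; funext i; exact map_add s.σ.symm _ _
      map_smul' := fun c x => by
        rw [show s.σ.symm ∘ (c • x) = s.σ.symm c • (s.σ.symm ∘ x) from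
          funext fun i => map_mul s.σ.symm _ _, s.map_smul', s.σ.apply_symm_apply, RingHom.id_apply] }
  have hL : ∀ v, LinearMap.toMatrix' L *ᵥ (s.σ ∘ v) = s.g v := fun v => by
    rw [LinearMap.toMatrix'_mulVec]
    exact congrArg s.g (funext fun i => s.σ.symm_apply_apply (v i))
  have hinj : Function.Injective L := fun x y h => funext fun i =>
    s.σ.symm.injective (congrFun (s.g.injective h) i)
  have hu : IsUnit (LinearMap.toMatrix' L).det := by
    rw [LinearMap.det_toMatrix']
    exact LinearEquiv.isUnit_det' (LinearEquiv.ofInjectiveEndo L hinj)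
  let G : GL ι F := Matrix.GeneralLinearGroup.mk'' _ hu
  refine ⟨G, s.σ, ⟨Units.mk0 s.μ s.μ0, fun v => ?_⟩, fun t t' ht => E.injective ?_⟩
  · show f (LinearMap.toMatrix' L *ᵥ (s.σ ∘ v)) = _
    rw [hL, ← hf, s.form', hf, Units.val_mk0]
  · have h1 : E (α (QuotientGroup.mk t)) = MulAut.congr E α (E (QuotientGroup.mk t)) := by
      show _ = E (α (E.symm (E _)))
      rw [E.symm_apply_apply]
    rw [h1, ← hs]
    show s.aut (CG26.AutPO.piO Q (e t)) = CG26.AutPO.piO Q (e t')
    rw [s.aut_piO]
    refine congrArg _ (Subtype.ext (Subtype.ext (LinearEquiv.ext fun x => ?_)))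
    obtain ⟨v, rfl⟩ := s.g.surjective x
    show s.g ((rho f t : Matrix ι ι F) *ᵥ s.g.symm (s.g v)) = (rho f t' : Matrix ι ι F) *ᵥ s.g v
    rw [s.g.symm_apply_apply, ht, ← hL v, ← hL]
    exact (act_mulVec G s.σ (rho f t) v).symm

end Cfsg.Agent.FieldAutGen.Orth
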