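import Mathlib
import Cfsg.Agent.FieldAutGen.OrthBasic

/-!
Galois descent of quadratic forms along a twisted similarity (helper60).
-/

set_option autoImplicit false

namespace Cfsg.Agent.FieldAutGen.Orth

open Matrix QuadraticMap
open Cfsg.Agent.AutPSL (fieldMap scalarGL normGL normU twistU)

universe u v

variable {ι : Type} [Fintype ι] [DecidableEq ι] {F : Type u} [Field F]

/-- The fixed field of a field automorphism. -/
abbrev fixField (σ : F ≃+* F) : Subfield F := σ.toRingHom.eqLocusField (RingHom.id F)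

theorem fixField_fixed {σ : F ≃+* F} (x : fixField σ) : σ (x : F) = x := x.2

theorem quadraticForm_ext {Q Q' : QuadraticForm F (ι → F)}
    (h : ∀ i, Q (Pi.single i 1) = Q' (Pi.single i 1))
    (h' : ∀ i j, polar ⇑Q (Pi.single i (1 : F)) (Pi.single j 1) = polar ⇑Q' (Pi.single i 1) (Pi.single j 1)) :
    Q = Q' := by
  have hp : Q.polarBilin = Q'.polarBilin :=
    LinearMap.ext_basis (Pi.basisFun F ι) (Pi.basisFun F ι) fun i j => by
      simpa using h' i j
  have hpol : ∀ x y, polar ⇑Q x y = polar ⇑Q' x y := fun x y => congrArg (fun B => B x y) hp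
  refine QuadraticMap.ext fun x => ?_
  have hadd : ∀ a b, Q a = Q' a → Q b = Q' b → Q (a + b) = Q' (a + b) := fun a b ha hb => by
    rw [QuadraticMap.map_add (⇑Q), QuadraticMap.map_add (⇑Q'), ha, hb, hpol]
  conv_lhs => rw [pi_eq_sum_univ' x]
  conv_rhs => rw [pi_eq_sum_univ' x]
  refine Finset.sum_induction _ (fun y => Q y = Q' y) hadd (by rw [map_zero, map_zero]) fun i _ => ?_
  rw [QuadraticMap.map_smul, QuadraticMap.map_smul, h i]

theorem mult_normGL {Q : (ι → F) → F} {σ : F ≃+* F} (hσ : ∀ v : ι → F, Q (σ ∘ v) = σ (Q v))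
    {g : GL ι F} {μ : Fˣ} (hg : ∀ v, Q ((g : Matrix ι ι F) *ᵥ v) = μ * Q v) (k : ℕ) (v : ι → F) :
    Q ((normGL σ g k : Matrix ι ι F) *ᵥ v) = ((normU σ k μ : Fˣ) : F) * Q v := by
  induction k generalizing v with
  | zero =>
    rw [show normU σ 0 μ = 1 from rfl, show normGL σ g 0 = 1 from rfl, Units.val_one, Units.val_one,
      one_mulVec, one_mul]
  | succ k ih =>
    have e : ((normU σ (k + 1) μ : Fˣ) : F) = (μ : F) * σ ((normU σ k μ : Fˣ) : F) := by
      show ((∏ i ∈ Finset.range (k + 1), Units.map ((σ ^ i).toRingHom : F →* F) μ : Fˣ) : F) =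
        _ * σ ((∏ i ∈ Finset.range k, Units.map ((σ ^ i).toRingHom : F →* F) μ : Fˣ) : F)
      rw [Finset.prod_range_succ', Units.val_mul, Units.coe_prod, Units.coe_prod, map_prod, mul_comm]
      congr 1
      refine Finset.prod_congr rfl fun i _ => ?_
      show (σ ^ (i + 1)) (μ : F) = σ ((σ ^ i) (μ : F))
      rw [pow_succ']
      rfl
    rw [show normGL σ g (k + 1) = g * fieldMap σ (normGL σ g k) from rfl, Units.val_mul,
      ← mulVec_mulVec, hg, AutPSL.fieldMap_coe, e]
    obtain ⟨w, rfl⟩ : ∃ w, v = σ ∘ w := ⟨σ.symm ∘ v, funext fun i => (σ.apply_symm_apply _).symm⟩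
    rw [map_mulVec, hσ, ih, hσ, map_mul, mul_assoc]

variable [Finite F]

/-- A twisted cocycle of the similarity group descends the form to the fixed field. -/
theorem exists_descended [Nonempty ι] (Q : QuadraticForm F (ι → F))
    (hQ : Q.polarBilin.Nondegenerate) {σ : F ≃+* F} (hσ : ∀ v : ι → F, Q (σ ∘ v) = σ (Q v))
    {g : GL ι F} (hg : g ∈ Cfsg.Geo.quadSimilarityGroup (F := F) ⇑Q)
    (hN : normGL σ g (orderOf σ) = 1) :
    ∃ (h : GL ι F) (ν : Fˣ) (Q₀ : QuadraticForm (fixField σ) (ι → fixField σ)),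
      g = h * (fieldMap σ h)⁻¹ ∧ Q₀.polarBilin.Nondegenerate ∧
      ∀ x : ι → fixField σ,
        Q ((h : Matrix ι ι F) *ᵥ fun i => (x i : F)) = (ν : F) * (Q₀ x : F) := by
  classical
  obtain ⟨μ, hμ⟩ := hg
  obtain ⟨v₀, hv₀⟩ : ∃ v, Q v ≠ 0 := by
    by_contra h
    push Not at h
    obtain ⟨i⟩ := ‹Nonempty ι›
    have : (Pi.single i 1 : ι → F) = 0 := hQ.1 _ fun y => by simp [polar, h]
    exact one_ne_zero (α := F) (by simpa using congrFun this i)
  have hμN : normU σ (orderOf σ) μ = 1 := by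
    have h1 := mult_normGL hσ hμ (orderOf σ) v₀
    rw [hN, Units.val_one, one_mulVec] at h1
    exact Units.ext (mul_right_cancel₀ hv₀ ((one_mul _).trans h1)).symm
  obtain ⟨ν, hν⟩ := AutPSL.exists_twist σ μ hμN
  obtain ⟨h, hh⟩ := AutPSL.hilbert90 σ g hN
  have hμν : (μ : F) * σ (ν : F) = ν := by
    rw [hν]
    show ((ν / Units.map (σ.toRingHom : F →* F) ν : Fˣ) : F) * _ = _
    rw [Units.val_div_eq_div_val]
    exact div_mul_cancel₀ _ ((map_ne_zero σ).2 ν.ne_zero)
  have hgh : (g : Matrix ι ι F) * (h : Matrix ι ι F).map σ = (h : Matrix ι ι F) := by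
    rw [← AutPSL.fieldMap_coe, ← Units.val_mul, hh, inv_mul_cancel_right]
  set Q' : QuadraticForm F (ι → F) := (ν : F)⁻¹ • Q.comp (h : Matrix ι ι F).mulVecLin with hQ'
  have hQ'x : ∀ x, Q' x = (ν : F)⁻¹ * Q ((h : Matrix ι ι F) *ᵥ x) := fun x => rfl
  have hσQ' : ∀ x : ι → F, Q' (σ ∘ x) = σ (Q' x) := by
    intro x
    rw [hQ'x, hQ'x, map_mul, map_inv₀]
    conv_lhs => rw [← hgh, ← mulVec_mulVec, map_mulVec, hμ, hσ]
    have h1 : σ (ν : F) ≠ 0 := (map_ne_zero σ).2 ν.ne_zero
    rw [← mul_assoc]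
    congr 1
    field_simp
    exact hμν
  obtain ⟨π, hπ⟩ := (Algebra.linearMap (fixField σ) F).exists_leftInverse_of_injective
    (LinearMap.ker_eq_bot.2 (algebraMap (fixField σ) F).injective)
  let c : (ι → fixField σ) →ₗ[fixField σ] (ι → F) :=
    (Algebra.linearMap (fixField σ) F).compLeft ι
  let Q₀ : QuadraticForm (fixField σ) (ι → fixField σ) :=
    π.compQuadraticMap ((Q'.restrictScalars (S := fixField σ)).comp c)
  have hval : ∀ x : ι → fixField σ, (Q₀ x : F) = Q' (fun i => (x i : F)) := by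
    intro x
    have hmem : Q' (fun i => (x i : F)) ∈ fixField σ := by
      show σ _ = _
      rw [← hσQ']
      exact congrArg Q' (funext fun i => fixField_fixed (x i))
    show ((π (Q' (fun i => (x i : F))) : fixField σ) : F) = _
    have h2 : π ((⟨_, hmem⟩ : fixField σ) : F) = ⟨_, hmem⟩ := LinearMap.congr_fun hπ ⟨_, hmem⟩
    rw [h2]
  refine ⟨h, ν, Q₀, hh, ?_, fun x => ?_⟩
  · have key : ∀ x, (∀ y, polar ⇑Q₀ x y = 0) → x = 0 := by
      intro x hx
      have h1 : (fun i => (x i : F)) = 0 := by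
        have h2 : ∀ z, polar ⇑Q' (fun i => (x i : F)) z = 0 := by
          have h3 : Q'.polarBilin (fun i => (x i : F)) = 0 := by
            refine (Pi.basisFun F ι).ext fun j => ?_
            have h4 := congrArg (fun a : fixField σ => (a : F)) (hx (Pi.single j 1))
            simp only [polar, AddSubgroupClass.coe_sub, hval, ZeroMemClass.coe_zero] at h4
            have e1 : (fun i => ((x + (Pi.single j 1 : ι → fixField σ) : ι → fixField σ) i : F)) =
                (fun i => (x i : F)) + Pi.single j 1 := by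
              funext i; by_cases hi : i = j <;> simp [hi]
            have e2 : (fun i => ((Pi.single j (1 : fixField σ) : ι → fixField σ) i : F)) =
                Pi.single j 1 := by
              funext i; by_cases hi : i = j <;> simp [hi]
            rw [e1, e2] at h4
            simpa [polar] using h4
          exact fun z => LinearMap.congr_fun h3 z
        have h5 : ((h : Matrix ι ι F) *ᵥ fun i => (x i : F)) = 0 := by
          refine hQ.1 _ fun z => ?_
          have h6 := h2 (((h⁻¹ : GL ι F) : Matrix ι ι F) *ᵥ z)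
          simp only [polar, hQ'x, mulVec_add, mulVec_mulVec, ← Units.val_mul, mul_inv_cancel,
            Units.val_one, one_mulVec, ← mul_sub] at h6
          exact (mul_eq_zero.1 h6).resolve_left (inv_ne_zero ν.ne_zero)
        have h7 := congrArg (((h⁻¹ : GL ι F) : Matrix ι ι F) *ᵥ ·) h5
        simpa [mulVec_mulVec, ← Units.val_mul] using h7
      funext i
      exact Subtype.ext (congrFun h1 i)
    exact ⟨fun x hx => key x hx, fun x hx => key x fun y => by rw [polar_comm]; exact hx y⟩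
  · rw [hval, hQ'x, mul_inv_cancel_left₀ ν.ne_zero]

omit [Finite F] in
/-- An isometry of descended forms extends to the field, up to the multiplier. -/
theorem assemble_two (Q Q' : QuadraticForm F (ι → F)) {σ : F ≃+* F} {h : GL ι F} {ν : Fˣ}
    (Q₀ : (ι → fixField σ) → fixField σ)
    (hQ₀ : ∀ x : ι → fixField σ,
      Q ((h : Matrix ι ι F) *ᵥ fun i => (x i : F)) = (ν : F) * (Q₀ x : F))
    (QL : (ι → fixField σ) → fixField σ)
    (hQL : ∀ x : ι → fixField σ, Q' (fun i => (x i : F)) = (QL x : F))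
    (k : (ι → fixField σ) ≃ₗ[fixField σ] (ι → fixField σ)) (c : fixField σ)
    (hk : ∀ x, Q₀ (k x) = c * QL x) :
    ∃ K₂ : GL ι F, fieldMap σ K₂ = K₂ ∧
      ∀ v, Q (((h * K₂ : GL ι F) : Matrix ι ι F) *ᵥ v) = (ν : F) * (c : F) * Q' v := by
  classical
  set K : Matrix ι ι (fixField σ) := LinearMap.toMatrix' k.toLinearMap with hK
  have hKx : ∀ x, K *ᵥ x = k x := fun x => by rw [hK, LinearMap.toMatrix'_mulVec]; rfl
  have hKu : IsUnit K.det := by
    rw [hK, LinearMap.det_toMatrix']
    exact LinearEquiv.isUnit_det' k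
  let K₁ : GL ι (fixField σ) := Matrix.GeneralLinearGroup.mk'' K hKu
  let K₂ : GL ι F := Matrix.GeneralLinearGroup.map (fixField σ).subtype K₁
  have hK₂ : fieldMap σ K₂ = K₂ := Units.ext (Matrix.ext fun a b => fixField_fixed (K a b))
  refine ⟨K₂, hK₂, ?_⟩
  set q : QuadraticForm F (ι → F) := Q.comp ((h * K₂ : GL ι F) : Matrix ι ι F).mulVecLin
  set q' : QuadraticForm F (ι → F) := ((ν : F) * (c : F)) • Q'
  have hL : ∀ x : ι → fixField σ, q (fun i => (x i : F)) = q' (fun i => (x i : F)) := by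
    intro x
    show Q (((h * K₂ : GL ι F) : Matrix ι ι F) *ᵥ fun i => (x i : F)) = (ν : F) * (c : F) * Q' _
    rw [Units.val_mul, ← mulVec_mulVec]
    have e : (K₂ : Matrix ι ι F) *ᵥ (fun i => (x i : F)) = fun i => ((k x) i : F) := by
      funext i
      rw [← hKx]
      exact (RingHom.map_mulVec (fixField σ).subtype K x i).symm
    rw [e, hQ₀, hk, hQL, mul_assoc]
    rfl
  have hone : ∀ i : ι, (Pi.single i 1 : ι → F) =
      fun j => ((Pi.single i (1 : fixField σ) : ι → fixField σ) j : F) := by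
    intro i; funext j; by_cases hj : j = i <;> simp [hj]
  have hq : q = q' := by
    refine quadraticForm_ext (fun i => by rw [hone, hL]) fun i j => ?_
    have e : (Pi.single i 1 + Pi.single j 1 : ι → F) =
        fun l => (((Pi.single i 1 + Pi.single j 1 : ι → fixField σ)) l : F) := by
      funext l
      rw [Pi.add_apply, hone, hone]
      rfl
    simp only [polar]
    rw [e, hone i, hone j, hL, hL, hL]
  intro v
  exact QuadraticMap.congr_fun hq v

omit [Finite F] in
/-- A similarity from the standard form over the fixed field gives a cobounding similarity. -/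
theorem assemble (Q : QuadraticForm F (ι → F)) {σ : F ≃+* F} {g h : GL ι F} {ν : Fˣ}
    (hh : g = h * (fieldMap σ h)⁻¹) (Q₀ : (ι → fixField σ) → fixField σ)
    (hQ₀ : ∀ x : ι → fixField σ,
      Q ((h : Matrix ι ι F) *ᵥ fun i => (x i : F)) = (ν : F) * (Q₀ x : F))
    (QL : (ι → fixField σ) → fixField σ)
    (hQL : ∀ x : ι → fixField σ, Q (fun i => (x i : F)) = (QL x : F))
    (k : (ι → fixField σ) ≃ₗ[fixField σ] (ι → fixField σ)) (c : fixField σ) (hc : c ≠ 0)
    (hk : ∀ x, Q₀ (k x) = c * QL x) :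
    ∃ h' ∈ Cfsg.Geo.quadSimilarityGroup (F := F) ⇑Q, g = h' * (fieldMap σ h')⁻¹ := by
  obtain ⟨K₂, hK₂, hv⟩ := assemble_two Q Q Q₀ hQ₀ QL hQL k c hk
  refine ⟨h * K₂, ⟨ν * Units.mk0 (c : F) (by simpa using hc), hv⟩, ?_⟩
  rw [map_mul, hK₂, _root_.mul_inv_rev, mul_assoc, mul_inv_cancel_left, ← hh]

end Cfsg.Agent.FieldAutGen.Orth
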