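import Mathlib
import Cfsg.Agent.FieldAutGen.OrthDescent
import Cfsg.Agent.Forms59.Spinor
import Cfsg.Agent.Forms59.OmegaTools

/-!
Isometries with entries in a subfield and the spinor norm, odd characteristic (helper60).
-/

set_option autoImplicit false

namespace Cfsg.Agent.FieldAutGen.Orth

open Matrix QuadraticMap
open Cfsg.Agent.AutPSL (fieldMap scalarGL)
open Cfsg.Agent.Reflections (mat refl theta detHom thetaPair)

universe u v

variable {ι : Type} [Fintype ι] [DecidableEq ι] {F : Type u} [Field F] {F₀ : Type v} [Field F₀]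

theorem polar_map {Q : (ι → F) → F} {Q₀ : (ι → F₀) → F₀} (i : F₀ →+* F)
    (hQ : ∀ x, Q (i ∘ x) = i (Q₀ x)) (x y : ι → F₀) :
    polar Q (i ∘ x) (i ∘ y) = i (polar Q₀ x y) := by
  simp only [polar, map_sub, ← hQ]
  congr 2
  exact congrArg Q (funext fun j => (map_add i _ _).symm)

theorem comp_single (i : F₀ →+* F) (j : ι) :
    i ∘ (Pi.single j 1 : ι → F₀) = (Pi.single j 1 : ι → F) := by
  funext l; by_cases h : l = j <;> simp [h]

theorem reflection_map {Q : (ι → F) → F} {Q₀ : (ι → F₀) → F₀} (i : F₀ →+* F)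
    (hQ : ∀ x, Q (i ∘ x) = i (Q₀ x)) (v : ι → F₀) :
    (Cfsg.reflectionMatrix Q₀ v).map i = Cfsg.reflectionMatrix Q (i ∘ v) := by
  ext a b
  have h : Cfsg.polarVec Q (i ∘ v) b = i (Cfsg.polarVec Q₀ v b) := by
    show polar Q _ _ = i (polar Q₀ _ _)
    rw [← polar_map i hQ, comp_single]
  simp only [Cfsg.reflectionMatrix, Matrix.map_apply, Matrix.sub_apply, Matrix.smul_apply,
    Matrix.vecMulVec_apply, smul_eq_mul, map_sub, map_mul, map_inv₀, h, ← hQ, Function.comp_apply]
  by_cases hab : a = b <;> simp [hab, Matrix.one_apply]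

theorem reflection_fixed {Q : (ι → F) → F} {σ : F ≃+* F} (hσ : ∀ v : ι → F, Q (σ ∘ v) = σ (Q v))
    {v : ι → F} (hv : ∀ j, σ (v j) = v j) :
    (Cfsg.reflectionMatrix Q v).map σ = Cfsg.reflectionMatrix Q v :=
  (reflection_map (σ : F →+* F) hσ v).trans (congrArg _ (funext hv))

/-- Similarities with entries in the subfield. -/
theorem map_mem_sim_iff (Q : QuadraticForm F (ι → F)) (Q₀ : QuadraticForm F₀ (ι → F₀))
    (i : F₀ →+* F) (hQ : ∀ x, Q (i ∘ x) = i (Q₀ x)) {e : ι → F₀} (he : Q₀ e = 1) (g : GL ι F₀) :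
    Matrix.GeneralLinearGroup.map i g ∈ Cfsg.Geo.quadSimilarityGroup (F := F) ⇑Q ↔
      g ∈ Cfsg.Geo.quadSimilarityGroup (F := F₀) ⇑Q₀ := by
  have hmv : ∀ x, ((Matrix.GeneralLinearGroup.map i g : GL ι F) : Matrix ι ι F) *ᵥ (i ∘ x) =
      i ∘ ((g : Matrix ι ι F₀) *ᵥ x) := fun x => funext fun a => (RingHom.map_mulVec i _ x a).symm
  constructor
  · rintro ⟨c, hc⟩
    have h1 := hc (i ∘ e)
    rw [hmv, hQ, hQ, he, map_one, mul_one] at h1
    have hc0 : Q₀ ((g : Matrix ι ι F₀) *ᵥ e) ≠ 0 := fun h => c.ne_zero (by rw [← h1, h, map_zero])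
    refine ⟨Units.mk0 _ hc0, fun x => i.injective ?_⟩
    rw [map_mul, Units.val_mk0, h1, ← hQ, ← hQ, ← hmv]
    exact hc _
  · rintro ⟨c, hc⟩
    refine ⟨Units.map (i : F₀ →* F) c, ?_⟩
    set G := ((Matrix.GeneralLinearGroup.map i g : GL ι F) : Matrix ι ι F)
    have hL : ∀ x, Q (G *ᵥ (i ∘ x)) = i c * Q (i ∘ x) := fun x => by
      rw [hmv, hQ, hQ, hc, map_mul]
    have hq : Q.comp G.mulVecLin = (i c) • Q := by
      refine quadraticForm_ext (fun j => ?_) fun j l => ?_
      · rw [← comp_single i j]; exact hL _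
      · simp only [polar]
        rw [← comp_single i j, ← comp_single i l,
          show i ∘ (Pi.single j 1 : ι → F₀) + i ∘ Pi.single l 1 = i ∘ (Pi.single j 1 + Pi.single l 1) from
            funext fun a => (map_add i _ _).symm]
        show Q (G *ᵥ _) - Q (G *ᵥ _) - Q (G *ᵥ _) = i c * Q _ - i c * Q _ - i c * Q _
        rw [hL, hL, hL]
    exact fun v => QuadraticMap.congr_fun hq v

theorem detHom_reflProd {Q : QuadraticForm F (ι → F)} :
    ∀ vs : List (ι → F), (∀ v ∈ vs, Q v ≠ 0) →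
      detHom Q (Forms59.reflProd Q vs) = (-1) ^ vs.length
  | [], _ => by simp [Forms59.reflProd]
  | v :: vs, h => by
    rw [Forms59.reflProd_cons, map_mul, Reflections.detHom_refl (h v (by simp)),
      detHom_reflProd vs (fun w hw => h w (by simp [hw])), List.length_cons, pow_succ']

theorem even_of_neg_one_pow (h2 : (2 : F) ≠ 0) {n : ℕ} (h : ((-1 : Fˣ)) ^ n = 1) : Even n := by
  refine (neg_one_pow_eq_one_iff_even ?_).1 h
  intro he
  apply h2
  have := congrArg Units.val he
  rw [Units.val_neg, Units.val_one] at this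
  linear_combination -this

variable [Fintype F]

theorem theta_one_eq (h2 : (2 : F) ≠ 0) (Q : QuadraticForm F (ι → F))
    (hQ : Q.polarBilin.Nondegenerate) {ε : F} (hε : ¬ IsSquare ε)
    {g : ↥(Cfsg.isometryGroup F ⇑Q)} (hg : detHom Q g = 1) : theta Q 1 g = theta Q ε g := by
  classical
  obtain ⟨vs, hvs, rfl⟩ := Forms59.exists_reflProd hQ (Or.inl fun hc => h2 (by
    have := FiniteField.cast_card_eq_zero F; rw [hc] at this; simpa using this)) g
  rw [detHom_reflProd vs hvs] at hg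
  obtain ⟨h, h'⟩ := Forms59.theta_reflProd h2 hε vs hvs
  rw [(even_of_neg_one_pow h2 hg).neg_one_pow, one_mul] at h'
  exact Units.ext (h'.trans h.symm)

omit [Fintype F] in
theorem omega_le_special {Q : QuadraticForm F (ι → F)} {g : ↥(Cfsg.isometryGroup F ⇑Q)}
    (hg : g ∈ Cfsg.Omega F ⇑Q) : detHom Q g = 1 :=
  Abelianization.commutator_subset_ker (detHom Q) hg

omit [Fintype F] in
/-- In an extension of odd degree a non-square stays a non-square. -/
theorem exists_sqrt_fixed {σ : F ≃+* F} (hr : Odd (orderOf σ)) {x : F} (hx : IsSquare x)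
    (hfix : σ x = x) : ∃ s : F, σ s = s ∧ x = s * s := by
  obtain ⟨s, rfl⟩ := hx
  refine ⟨s, ?_, rfl⟩
  rw [map_mul] at hfix
  rcases mul_self_eq_mul_self_iff.1 hfix with h | h
  · exact h
  · have hk : ∀ k : ℕ, (σ ^ k) s = (-1) ^ k * s := by
      intro k
      induction k with
      | zero => simp
      | succ k ih =>
        rw [pow_succ']
        show σ ((σ ^ k) s) = _
        rw [ih, map_mul, map_pow, map_neg, map_one, h, pow_succ]
        ring
    have h1 := hk (orderOf σ)
    rw [pow_orderOf_eq_one, hr.neg_one_pow, neg_one_mul] at h1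
    change s = -s at h1
    rw [h, ← h1]

omit [Fintype ι] [DecidableEq ι] in
/-- In a quadratic extension every element of the small field is a square. -/
theorem isSquare_of_quadratic [Fintype F₀] (h2 : (2 : F) ≠ 0) (i : F₀ →+* F)
    (hcard : Fintype.card F = Fintype.card F₀ ^ 2) (x : F₀) : IsSquare (i x) := by
  by_cases hx : x = 0
  · subst hx; rw [map_zero]; exact IsSquare.zero
  have hch : ringChar F ≠ 2 := fun h => h2 (by
    haveI := ringChar.of_eq h; exact CharTwo.two_eq_zero)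
  rw [FiniteField.isSquare_iff hch (by simpa using hx)]
  have hodd : Odd (Fintype.card F₀) := by
    rw [← Nat.not_even_iff_odd]
    intro he
    have h3 := FiniteField.odd_card_of_char_ne_two hch
    rw [hcard] at h3
    have := Nat.even_iff.1 ((Nat.even_pow' two_ne_zero).2 he)
    omega
  obtain ⟨k, hk⟩ := hodd
  have e : Fintype.card F / 2 = (Fintype.card F₀ - 1) * (k + 1) := by
    rw [hcard, hk, show (2 * k + 1) ^ 2 = 2 * ((2 * k) * (k + 1)) + 1 by ring]
    simp only [Nat.add_sub_cancel]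
    omega
  rw [e, pow_mul, ← map_pow, FiniteField.pow_card_sub_one_eq_one x hx, map_one, one_pow]

/-- Special isometries with entries in a subfield of index two lie in `Ω`. -/
theorem fixed_special_mem_omega [Fintype F₀] (h2 : (2 : F) ≠ 0) (Q : QuadraticForm F (ι → F))
    (hQn : Q.polarBilin.Nondegenerate) (Q₀ : QuadraticForm F₀ (ι → F₀))
    (hQ₀n : Q₀.polarBilin.Nondegenerate) (hn : 2 ≤ Fintype.card ι)
    (i : F₀ →+* F) (hQ : ∀ x, Q (i ∘ x) = i (Q₀ x))
    (hcard : Fintype.card F = Fintype.card F₀ ^ 2) {σ : F ≃+* F}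
    (hi : ∀ x : F, σ x = x ↔ ∃ y, i y = x) {g : ↥(Cfsg.isometryGroup F ⇑Q)}
    (hg : (mat g).map σ = mat g) (hdet : detHom Q g = 1) : g ∈ Cfsg.Omega F ⇑Q := by
  classical
  have hentry : ∀ a b, ∃ y, i y = mat g a b := fun a b =>
    (hi _).1 (congrFun (congrFun hg a) b)
  choose M hM using hentry
  have hMd : (Matrix.of M).map i = mat g := Matrix.ext hM
  have hu : (Matrix.of M).det ≠ 0 := fun hz => by
    have h3 : ((Matrix.of M).map i).det = 0 := by
      rw [show (Matrix.of M).map i = i.mapMatrix (Matrix.of M) from rfl, ← RingHom.map_det, hz, map_zero]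
    rw [hMd] at h3
    exact Matrix.GeneralLinearGroup.det_ne_zero (g : GL ι F) h3
  let g₀ : ↥(Cfsg.isometryGroup F₀ ⇑Q₀) := Reflections.mkIsom Q₀ (Matrix.of M) hu fun x =>
    i.injective (by
      rw [← hQ, ← hQ, show i ∘ (Matrix.of M *ᵥ x) = mat g *ᵥ (i ∘ x) from
        funext fun a => by rw [← hMd]; exact RingHom.map_mulVec i _ x a]
      exact g.2 (i ∘ x) (i ∘ x))
  have h20 : (2 : F₀) ≠ 0 := fun h => h2 (by rw [← map_ofNat i 2, h, map_zero])
  obtain ⟨vs, hvs, hg₀⟩ := Forms59.exists_reflProd hQ₀n (Or.inl fun hc => h20 (by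
    have := FiniteField.cast_card_eq_zero F₀; rw [hc] at this; simpa using this)) g₀
  have hvs' : ∀ v ∈ vs.map (i ∘ ·), Q v ≠ 0 := by
    intro v hv
    obtain ⟨w, hw, rfl⟩ := List.mem_map.1 hv
    rw [hQ, map_ne_zero]; exact hvs w hw
  have hmat : mat g = ((vs.map (i ∘ ·)).map fun v => Cfsg.reflectionMatrix ⇑Q v).prod := by
    rw [← hMd, show Matrix.of M = mat g₀ from rfl, hg₀, Forms59.mat_reflProd vs hvs,
      show ∀ A : Matrix ι ι F₀, A.map i = i.mapMatrix A from fun _ => rfl, map_list_prod, List.map_map,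
      List.map_map]
    congr 1
    exact List.map_congr_left fun v _ => reflection_map i hQ v
  refine (Forms59.mem_omega_iff_of_mat h2 hQn hn g _ hvs' hmat).2 ⟨?_, ?_⟩
  · refine even_of_neg_one_pow h2 ?_
    rw [← detHom_reflProd _ hvs', ← hdet]
    congr 1
    exact Reflections.eq_of_mat ((Forms59.mat_reflProd _ hvs').trans hmat.symm)
  · rw [List.map_map, show ((fun v => Q v) ∘ fun x => i ∘ x) = fun x => i (Q₀ x) from funext hQ,
      show (fun x => i (Q₀ x)) = (i : F₀ → F) ∘ fun x => Q₀ x from rfl, ← List.map_map, ← map_list_prod]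
    exact isSquare_of_quadratic h2 i hcard _

end Cfsg.Agent.FieldAutGen.Orth
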