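import Mathlib
import Cfsg.Prelude.Def_LieTypeDatum
import Cfsg.Agent.AutPSL.Induced
import Cfsg.Agent.AutPSL.Descent
import Cfsg.Agent.AutPSL.ClassCount
import Cfsg.Agent.AutPSU.Centralizer

/-!
Field automorphisms of a classical simple group `S / Z(S)`, `S ≤ GL`, with inner-diagonal group the
image of a similarity group `H`: centralisers, cosets and splitting of classes (helper60).
-/

set_option autoImplicit false

namespace Cfsg.Agent.FieldAutGen

open Matrix
open Cfsg.Agent.AutPSL (fieldMap Normalises Induced scalarGL normGL normU twistU mem_centralizer_single)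

universe u v w

variable {ι : Type} [Fintype ι] [DecidableEq ι] {F : Type u} [Field F] {S : Type v} [Group S]

/-- The standing hypotheses on the matrix group and its similarity group; `Γ` is the group of field
automorphisms for which they are required. -/
structure Setting (ρ : S →* GL ι F) (H : Subgroup (GL ι F)) (Γ : Subgroup (F ≃+* F)) : Prop where
  fin : Finite S
  inj : Function.Injective ρ
  norm : ∀ g ∈ H, ∀ σ ∈ Γ, Normalises ρ g σ
  scalar : ∀ c : Fˣ, scalarGL ι c ∈ H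
  fmap : ∀ g ∈ H, ∀ σ ∈ Γ, fieldMap σ g ∈ H
  rho_mem : ∀ s, ρ s ∈ H
  eq_one : ∀ g ∈ H, ∀ σ ∈ Γ, Induced ρ g σ 1 → σ = 1 ∧ ∃ c : Fˣ, g = scalarGL ι c

variable {ρ : S →* GL ι F} {H : Subgroup (GL ι F)} {Γ : Subgroup (F ≃+* F)} (hS : Setting ρ H Γ)

include hS in
theorem Setting.exists_conj (g : H) :
    ∃ β : MulAut (S ⧸ Subgroup.center S), Induced ρ (g : GL ι F) 1 β :=
  haveI := hS.fin
  AutPSL.exists_induced hS.inj (hS.norm g g.2 1 (one_mem _))

/-- Conjugation by the similarity group. -/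
noncomputable def conjH : ↥H →* MulAut (S ⧸ Subgroup.center S) where
  toFun g := Classical.choose (hS.exists_conj g)
  map_one' := Induced.ext (hS.norm _ (one_mem _) 1 (one_mem _)) (Classical.choose_spec (hS.exists_conj 1))
    (AutPSL.induced_one' hS.inj)
  map_mul' g h := by
    have hc := Induced.comp (hS.norm h h.2 1 (one_mem _)) (Classical.choose_spec (hS.exists_conj g))
      (Classical.choose_spec (hS.exists_conj h))
    rw [one_mul, AutPSL.fieldMap_one] at hc
    exact Induced.ext (hS.norm _ (g * h).2 1 (one_mem _)) (Classical.choose_spec (hS.exists_conj (g * h))) hc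

theorem induced_conjH (g : H) : Induced ρ (g : GL ι F) 1 (conjH hS g) :=
  Classical.choose_spec (hS.exists_conj g)

theorem eq_conjH {g : GL ι F} (hg : g ∈ H) {β : MulAut (S ⧸ Subgroup.center S)}
    (h : Induced ρ g 1 β) : β = conjH hS ⟨g, hg⟩ :=
  Induced.ext (hS.norm g hg 1 (one_mem _)) h (induced_conjH hS ⟨g, hg⟩)

attribute [irreducible] conjH

theorem conjH_range : (conjH hS).range =
    Cfsg.autSubgroupOf fun β => ∃ g : GL ι F, g ∈ H ∧ Induced ρ g 1 β := by
  apply le_antisymm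
  · rintro _ ⟨g, rfl⟩
    exact Subgroup.subset_closure ⟨g, g.2, induced_conjH hS g⟩
  · rw [Cfsg.autSubgroupOf, Subgroup.closure_le]
    rintro γ ⟨g, hg, hγ⟩
    exact ⟨⟨g, hg⟩, (eq_conjH hS hg hγ).symm⟩

theorem conjH_rho (s : S) :
    conjH hS ⟨ρ s, hS.rho_mem s⟩ = MulAut.conj (QuotientGroup.mk s : S ⧸ Subgroup.center S) := by
  refine Induced.ext (hS.norm _ (hS.rho_mem s) 1 (one_mem _)) (induced_conjH hS ⟨_, hS.rho_mem s⟩) fun t t' ht => ?_
  have : t' = s * t * s⁻¹ := by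
    apply hS.inj
    rw [ht, AutPSL.act_apply, AutPSL.fieldMap_one, map_mul, map_mul, map_inv]
  rw [this]
  rfl

include hS in
theorem scalar_induced (c : Fˣ) :
    Induced ρ (scalarGL ι c) 1 (1 : MulAut (S ⧸ Subgroup.center S)) := by
  intro s s' hs
  rw [AutPSL.act_apply, AutPSL.fieldMap_one, AutPSL.scalarGL_mul_comm c (ρ s),
    mul_assoc, mul_inv_cancel, mul_one] at hs
  rw [hS.inj hs]
  rfl

theorem conjH_eq_one_iff {g : H} :
    conjH hS g = 1 ↔ ∃ c : Fˣ, (g : GL ι F) = scalarGL ι c := by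
  constructor
  · intro h
    have h2 := induced_conjH hS g
    rw [h] at h2
    exact (hS.eq_one g g.2 1 (one_mem _) h2).2
  · rintro ⟨c, hc⟩
    have h2 := scalar_induced hS c
    rw [← hc] at h2
    exact (eq_conjH hS g.2 h2).symm

theorem conjH_scalar (c : Fˣ) : conjH hS ⟨scalarGL ι c, hS.scalar c⟩ = 1 :=
  (conjH_eq_one_iff hS).2 ⟨c, rfl⟩

/-- Automorphisms induced by semilinear maps normalising `H` normalise its image. -/
theorem conj_range {g : GL ι F} {σ : F ≃+* F} {α : MulAut (S ⧸ Subgroup.center S)}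
    (hN : Normalises ρ g σ) (hα : Induced ρ g σ α)
    (hg : ∀ h ∈ H, g * fieldMap σ h * g⁻¹ ∈ H) {d : MulAut (S ⧸ Subgroup.center S)}
    (hd : d ∈ (conjH hS).range) : α * d * α⁻¹ ∈ (conjH hS).range := by
  haveI := hS.fin
  obtain ⟨k, rfl⟩ := hd
  have hi := Induced.inverse hS.inj hN hα
  have h1 := Induced.comp (hN.inverse hS.inj)
    (Induced.comp (hS.norm k k.2 1 (one_mem _)) hα (induced_conjH hS k)) hi
  rw [mul_one, mul_inv_cancel, AutPSL.fieldMap_apply_inv] at h1
  exact ⟨_, (eq_conjH hS (hg k k.2) h1).symm⟩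

include hS in
theorem orderOf_std {σ : F ≃+* F} (hσ : σ ∈ Γ) {φ : MulAut (S ⧸ Subgroup.center S)} (h : Induced ρ 1 σ φ) :
    orderOf φ = orderOf σ := by
  have hpow : ∀ k : ℕ, Induced ρ 1 (σ ^ k) (φ ^ k) := by
    intro k
    induction k with
    | zero => rw [pow_zero, pow_zero]; exact AutPSL.induced_one' hS.inj
    | succ k ih =>
      rw [pow_succ', pow_succ']
      simpa using Induced.comp (hS.norm 1 (one_mem _) _ (pow_mem hσ k)) h ih
  apply Nat.dvd_antisymm <;> apply orderOf_dvd_of_pow_eq_one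
  · have h1 := hpow (orderOf σ)
    rw [pow_orderOf_eq_one] at h1
    exact Induced.ext AutPSL.normalises_one h1 (AutPSL.induced_one' hS.inj)
  · have h1 := hpow (orderOf φ)
    rw [pow_orderOf_eq_one] at h1
    exact (hS.eq_one 1 (one_mem _) _ (pow_mem hσ _) h1).1

variable {σ : F ≃+* F} (hσ : σ ∈ Γ) {φ : MulAut (S ⧸ Subgroup.center S)} (hφ : Induced ρ 1 σ φ)

include hσ hφ in
theorem semi_comm (g : H) :
    φ * conjH hS g = conjH hS ⟨fieldMap σ (g : GL ι F), hS.fmap _ g.2 σ hσ⟩ * φ := by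
  have hg' : fieldMap σ (g : GL ι F) ∈ H := hS.fmap _ g.2 σ hσ
  have h1 := Induced.comp (hS.norm g g.2 1 (one_mem _)) hφ (induced_conjH hS g)
  rw [one_mul, mul_one] at h1
  have h2 := Induced.comp (hS.norm 1 (one_mem H) σ hσ) (induced_conjH hS ⟨_, hg'⟩) hφ
  rw [map_one, mul_one, one_mul] at h2
  exact Induced.ext (hS.norm _ hg' σ hσ) h1 h2

variable [Finite F] [Nonempty ι]

include hσ hφ in
theorem comm_field_iff (g : H) :
    conjH hS g ∈ Subgroup.centralizer ({φ} : Set _) ↔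
      ∃ (g₀ : H) (d : Fˣ), fieldMap σ (g₀ : GL ι F) = g₀ ∧
        g = g₀ * ⟨scalarGL ι d, hS.scalar d⟩ := by
  rw [mem_centralizer_single, semi_comm hS hσ hφ, mul_left_inj]
  constructor
  · intro hc
    have h1 : conjH hS (g⁻¹ * ⟨fieldMap σ g, hS.fmap _ g.2 σ hσ⟩) = 1 := by
      rw [map_mul, map_inv, hc, inv_mul_cancel]
    obtain ⟨c, hcs⟩ := (conjH_eq_one_iff hS).1 h1
    have hσg : fieldMap σ (g : GL ι F) = (g : GL ι F) * scalarGL ι c := by
      rw [← hcs]
      exact (mul_inv_cancel_left _ _).symm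
    have hit : ∀ k : ℕ, fieldMap (σ ^ k) (g : GL ι F) = (g : GL ι F) * scalarGL ι (normU σ k c) := by
      intro k
      induction k with
      | zero => rw [pow_zero, AutPSL.fieldMap_one, show normU σ 0 c = 1 from rfl]; simp
      | succ k ih =>
        rw [pow_succ, AutPSL.fieldMap_mul, hσg, map_mul, ih, AutPSL.fieldMap_scalarGL, mul_assoc,
          ← map_mul]
        congr 2
        exact (Finset.prod_range_succ (fun j => Units.map ((σ ^ j).toRingHom : F →* F) c) k).symm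
    have hN : normU σ (orderOf σ) c = 1 := by
      have h2 := hit (orderOf σ)
      rw [pow_orderOf_eq_one, AutPSL.fieldMap_one, eq_comm, mul_eq_left] at h2
      exact AutPSL.scalarGL_injective (h2.trans (map_one _).symm)
    obtain ⟨d, hd⟩ := AutPSL.exists_twist σ c hN
    refine ⟨g * ⟨scalarGL ι d, hS.scalar d⟩, d⁻¹, ?_, Subtype.ext ?_⟩
    · rw [Subgroup.coe_mul, map_mul, hσg, AutPSL.fieldMap_scalarGL, mul_assoc, ← map_mul, hd]
      congr 2
      exact div_mul_cancel d _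
    · rw [Subgroup.coe_mul, Subgroup.coe_mul, mul_assoc, ← map_mul, mul_inv_cancel]
      exact ((congrArg ((g : GL ι F) * ·) (map_one _)).trans (mul_one _)).symm
  · rintro ⟨g₀, d, hg₀, hg⟩
    refine inv_mul_eq_one.1 ?_ |>.symm
    rw [← map_inv, ← map_mul, conjH_eq_one_iff hS]
    refine ⟨Units.map (σ.toRingHom : F →* F) d / d, ?_⟩
    show ((g : GL ι F))⁻¹ * fieldMap σ (g : GL ι F) = _
    rw [inv_mul_eq_iff_eq_mul, hg, Subgroup.coe_mul, map_mul, hg₀, AutPSL.fieldMap_scalarGL,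
      mul_assoc, ← map_mul]
    congr 2
    exact (mul_div_cancel d _).symm

include hσ hφ in
/-- The centraliser is the projective similarity group over the fixed field. -/
theorem exists_centralizer_equiv {F₀ : Type w} [Field F₀] (i : F₀ →+* F)
    (hi : ∀ x : F, σ x = x ↔ ∃ y, i y = x) (H₀ : Subgroup (GL ι F₀))
    (hmap : ∀ g, Matrix.GeneralLinearGroup.map i g ∈ H ↔ g ∈ H₀) :
    Nonempty (↥((conjH hS).range ⊓ Subgroup.centralizer {φ}) ≃*
      ↥H₀ ⧸ (Cfsg.Geo.scalars ι F₀).subgroupOf H₀) := by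
  classical
  have hfix : ∀ g : GL ι F₀,
      fieldMap σ (Matrix.GeneralLinearGroup.map i g) = Matrix.GeneralLinearGroup.map i g := fun g => by
    apply Units.ext
    ext a b
    exact (hi _).mpr ⟨_, rfl⟩
  let Ψ : ↥H₀ →* ↥H :=
    ((Matrix.GeneralLinearGroup.map i).comp H₀.subtype).codRestrict _ fun g => (hmap _).2 g.2
  let Φ : ↥H₀ →* ↥((conjH hS).range ⊓ Subgroup.centralizer {φ}) :=
    ((conjH hS).comp Ψ).codRestrict _ fun g =>
      ⟨⟨_, rfl⟩, (comm_field_iff hS hσ hφ _).mpr ⟨Ψ g, 1, hfix _, by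
        rw [show (⟨scalarGL ι (1 : Fˣ), hS.scalar 1⟩ : H) = 1 from Subtype.ext (map_one _), mul_one]⟩⟩
  have hsurj : Function.Surjective Φ := by
    rintro ⟨β, ⟨g, rfl⟩, hc⟩
    obtain ⟨g₀, d, hg₀, hg⟩ := (comm_field_iff hS hσ hφ g).mp hc
    have hentry : ∀ a b, ∃ y, i y = ((g₀ : GL ι F) : Matrix ι ι F) a b := fun a b =>
      (hi _).mp (congrArg (fun g : GL ι F => (g : Matrix ι ι F) a b) hg₀)
    choose M hM using hentry
    have hMd : (Matrix.of M).map i = ((g₀ : GL ι F) : Matrix ι ι F) := Matrix.ext hM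
    have hu : IsUnit (Matrix.of M).det := by
      refine isUnit_iff_ne_zero.mpr fun hz => ?_
      have h2 : ((Matrix.of M).map i).det = 0 := by
        rw [show (Matrix.of M).map i = i.mapMatrix (Matrix.of M) from rfl, ← RingHom.map_det, hz, map_zero]
      rw [hMd] at h2
      exact Matrix.GeneralLinearGroup.det_ne_zero _ h2
    have hmap' : Matrix.GeneralLinearGroup.map i (Matrix.GeneralLinearGroup.mk'' _ hu) =
        (g₀ : GL ι F) := Units.ext hMd
    refine ⟨⟨Matrix.GeneralLinearGroup.mk'' _ hu, (hmap _).1 (hmap' ▸ g₀.2)⟩, Subtype.ext ?_⟩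
    show conjH hS (Ψ _) = conjH hS g
    rw [hg, map_mul, conjH_scalar hS, mul_one]
    exact congrArg _ (Subtype.ext hmap')
  have hker : Φ.ker = (Cfsg.Geo.scalars ι F₀).subgroupOf H₀ := by
    ext g
    rw [MonoidHom.mem_ker, Subgroup.mem_subgroupOf, Cfsg.Geo.mem_scalars_iff]
    constructor
    · intro h
      obtain ⟨c, hc⟩ := (conjH_eq_one_iff hS).1 (congrArg Subtype.val h)
      change Matrix.GeneralLinearGroup.map i (g : GL ι F₀) = scalarGL _ c at hc
      have hc0 : σ (c : F) = c := by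
        have h5 := hfix (g : GL ι F₀)
        rw [hc, AutPSL.fieldMap_scalarGL] at h5
        exact congrArg Units.val (AutPSL.scalarGL_injective h5)
      obtain ⟨y, hy⟩ := (hi _).mp hc0
      have hy0 : y ≠ 0 := by rintro rfl; exact c.ne_zero (hy ▸ map_zero i)
      refine ⟨Units.mk0 y hy0, Matrix.ext fun a b => i.injective ?_⟩
      have h6 := congrArg (fun g : GL ι F => (g : Matrix ι ι F) a b) hc
      simp only [AutPSL.scalarGL_coe] at h6
      refine (h6 : i _ = _).trans ?_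
      by_cases hab : a = b <;> simp [hab, hy]
    · rintro ⟨c, hc⟩
      apply Subtype.ext
      refine (conjH_eq_one_iff hS).2 ⟨Units.map (i : F₀ →* F) c, Units.ext ?_⟩
      show ((g : GL ι F₀) : Matrix ι ι F₀).map i = _
      rw [hc, AutPSL.scalarGL_coe]
      ext a b
      by_cases hab : a = b <;> simp [hab]
  exact ⟨((QuotientGroup.quotientMulEquivOfEq hker.symm).trans
    (QuotientGroup.quotientKerEquivOfSurjective Φ hsurj)).symm⟩

omit [Finite F] [Nonempty ι] in
/-- The image of `H` is `H` modulo scalars. -/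
theorem exists_range_equiv :
    Nonempty (↥(conjH hS).range ≃* ↥H ⧸ (Cfsg.Geo.scalars ι F).subgroupOf H) := by
  have hker : (conjH hS).ker = (Cfsg.Geo.scalars ι F).subgroupOf H := by
    ext g
    rw [MonoidHom.mem_ker, Subgroup.mem_subgroupOf, conjH_eq_one_iff hS, Cfsg.Geo.mem_scalars_iff]
    refine exists_congr fun c => ⟨fun h => ?_, fun h => Units.ext ?_⟩
    · rw [h, AutPSL.scalarGL_coe]
    · rw [h, AutPSL.scalarGL_coe]
  exact ⟨(QuotientGroup.quotientKerEquivRange (conjH hS)).symm.trans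
    (QuotientGroup.quotientMulEquivOfEq hker)⟩

include hσ hφ in
/-- Elements of the same order in the coset of a standard field automorphism are conjugate to it. -/
theorem field_coset
    (hilb : ∀ g ∈ H, normGL σ g (orderOf σ) = 1 → ∃ h ∈ H, g = h * (fieldMap σ h)⁻¹)
    {δ : MulAut (S ⧸ Subgroup.center S)} (hδ : δ ∈ (conjH hS).range)
    (ho : orderOf (δ * φ) = orderOf σ) : Cfsg.IsConjUnder (conjH hS).range φ (δ * φ) := by
  obtain ⟨g, rfl⟩ := hδ
  have hgφ := Induced.comp (hS.norm 1 (one_mem H) σ hσ) (induced_conjH hS g) hφ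
  rw [map_one, mul_one, one_mul] at hgφ
  have hpow : ∀ k : ℕ, normGL σ (g : GL ι F) k ∈ H ∧
      Induced ρ (normGL σ (g : GL ι F) k) (σ ^ k) ((conjH hS g * φ) ^ k) := by
    intro k
    induction k with
    | zero => exact ⟨one_mem _, by rw [pow_zero, pow_zero]; exact AutPSL.induced_one' hS.inj⟩
    | succ k ih =>
      refine ⟨mul_mem g.2 (hS.fmap _ ih.1 σ hσ), ?_⟩
      rw [pow_succ', pow_succ']
      exact Induced.comp (hS.norm _ ih.1 _ (pow_mem hσ k)) hgφ ih.2
  obtain ⟨hNU, hp⟩ := hpow (orderOf σ)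
  have hpw : (conjH hS g * φ) ^ orderOf σ = 1 := by rw [← ho, pow_orderOf_eq_one]
  rw [hpw, pow_orderOf_eq_one σ] at hp
  obtain ⟨-, u, hu⟩ := hS.eq_one _ hNU _ (one_mem _) hp
  have hfix : σ (u : F) = u := by
    have h1 := AutPSL.normGL_fixed σ (g : GL ι F) (pow_orderOf_eq_one σ)
    rw [hu, AutPSL.fieldMap_scalarGL, AutPSL.scalarGL_mul_comm u] at h1
    exact congrArg Units.val (AutPSL.scalarGL_injective (mul_left_cancel h1))
  obtain ⟨d, hd⟩ := AutPSL.exists_norm_eq σ u⁻¹ (by rw [Units.val_inv_eq_inv_val, map_inv₀, hfix])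
  obtain ⟨h, hh, hgh⟩ := hilb ((g : GL ι F) * scalarGL ι d) (mul_mem g.2 (hS.scalar d)) (by
    rw [AutPSL.normGL_scalar, hu, AutPSL.normGL_scalarGL, hd, ← map_mul, mul_inv_cancel]; exact map_one _)
  refine ⟨conjH hS ⟨h, hh⟩, ⟨_, rfl⟩, ?_⟩
  have e : g * ⟨scalarGL ι d, hS.scalar d⟩ =
      (⟨h, hh⟩ : H) * ⟨fieldMap σ h⁻¹, hS.fmap _ (inv_mem hh) σ hσ⟩ :=
    Subtype.ext (by
      show (g : GL ι F) * scalarGL ι d = h * fieldMap σ h⁻¹
      rw [map_inv]; exact hgh)
  have e2 := congrArg (conjH hS) e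
  rw [map_mul, map_mul, conjH_scalar hS, mul_one] at e2
  rw [e2, mul_assoc, mul_assoc]
  congr 1
  have h3 := semi_comm hS hσ hφ (⟨h, hh⟩⁻¹ : H)
  rw [map_inv] at h3
  exact h3.symm

omit [Finite F] [Nonempty ι] in
/-- The inner group as an image. -/
theorem inn_eq_map {A : Type u} [CommGroup A] (χ : ↥H →* A) (N : Subgroup A)
    (hN : ∀ g : H, χ g ∈ N ↔ ∃ (s : S) (c : Fˣ), (g : GL ι F) = ρ s * scalarGL ι c) :
    Cfsg.Inn (S ⧸ Subgroup.center S) = (N.comap χ).map (conjH hS) := by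
  ext β
  constructor
  · rintro ⟨x, rfl⟩
    obtain ⟨s, rfl⟩ := QuotientGroup.mk_surjective x
    refine ⟨⟨ρ s, hS.rho_mem s⟩, (hN _).2 ⟨s, 1, ?_⟩, conjH_rho hS s⟩
    exact ((congrArg (ρ s * ·) (map_one _)).trans (mul_one _)).symm
  · rintro ⟨g, hg, rfl⟩
    obtain ⟨s, c, hgs⟩ := (hN g).1 hg
    refine ⟨QuotientGroup.mk s, ?_⟩
    rw [show g = (⟨ρ s, hS.rho_mem s⟩ : H) * ⟨scalarGL ι c, hS.scalar c⟩ from Subtype.ext hgs, map_mul,
      conjH_scalar hS, mul_one, conjH_rho hS]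

include hσ hφ in
/-- Splitting of the class of a standard field automorphism. -/
theorem splitClassCount_field {A : Type u} [CommGroup A] (χ : ↥H →* A) (hχ : Function.Surjective χ)
    (N : Subgroup A) (hN : ∀ g : H, χ g ∈ N ↔ ∃ (s : S) (c : Fˣ), (g : GL ι F) = ρ s * scalarGL ι c) :
    Cfsg.splitClassCount (conjH hS).range (Cfsg.Inn (S ⧸ Subgroup.center S)) φ =
      ((((fieldMap σ).eqLocus (MonoidHom.id (GL ι F))).subgroupOf H).map χ ⊔ N).index := by
  have hc1 : ∀ c : Fˣ, χ ⟨scalarGL ι c, hS.scalar c⟩ ∈ N := fun c =>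
    (hN _).2 ⟨1, c, by rw [map_one, one_mul]⟩
  rw [inn_eq_map hS χ N hN]
  refine (AutPSU.splitClassCount_mod (conjH hS) χ N hχ ?_ φ).trans ?_
  · intro g hg
    obtain ⟨c, hc⟩ := (conjH_eq_one_iff hS).1 (MonoidHom.mem_ker.1 hg)
    obtain rfl : g = ⟨scalarGL ι c, hS.scalar c⟩ := Subtype.ext hc
    exact hc1 c
  congr 1
  apply le_antisymm
  · refine sup_le ?_ le_sup_right
    rintro _ ⟨g, hg, rfl⟩
    obtain ⟨g₀, d, hg₀, rfl⟩ := (comm_field_iff hS hσ hφ g).mp hg
    rw [map_mul]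
    exact Subgroup.mul_mem_sup ⟨g₀, hg₀, rfl⟩ (hc1 d)
  · refine sup_le ?_ le_sup_right
    rintro _ ⟨g, hg, rfl⟩
    refine Subgroup.mem_sup_left ⟨g, (comm_field_iff hS hσ hφ g).mpr ⟨g, 1, hg, ?_⟩, rfl⟩
    rw [show (⟨scalarGL ι (1 : Fˣ), hS.scalar 1⟩ : H) = 1 from Subtype.ext (map_one _), mul_one]

end Cfsg.Agent.FieldAutGen
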