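import Mathlib
import Cfsg.Agent.FieldAutGen.Basic
import Cfsg.Agent.FieldAutGen.OrthBasic

/-!
The setting of `FieldAutGen` for subgroups of an orthogonal similarity group; multipliers (helper60).
-/

set_option autoImplicit false

namespace Cfsg.Agent.FieldAutGen.Orth

open Matrix QuadraticMap
open Cfsg.Agent.AutPSL (fieldMap scalarGL Normalises Induced)

universe u

variable {ι : Type} [Fintype ι] [DecidableEq ι] {F : Type u} [Field F]

theorem scalar_mem_sim (Q : QuadraticForm F (ι → F)) (c : Fˣ) :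
    scalarGL ι c ∈ Cfsg.Geo.quadSimilarityGroup (F := F) ⇑Q :=
  ⟨c * c, fun v => by rw [AutPSL.scalarGL_coe, smul_mulVec, one_mulVec, QuadraticMap.map_smul,
    smul_eq_mul, Units.val_mul]⟩

theorem iso_le_sim (Q : (ι → F) → F) :
    Cfsg.isometryGroup F Q ≤ Cfsg.Geo.quadSimilarityGroup (F := F) Q :=
  fun g hg => ⟨1, fun v => by rw [Units.val_one, one_mul]; exact mem_iso.1 hg v⟩

theorem isSemi_of_mem {Q : (ι → F) → F} (hσ : ∀ (σ : F ≃+* F) (v : ι → F), Q (σ ∘ v) = σ (Q v))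
    {g : GL ι F} (hg : g ∈ Cfsg.Geo.quadSimilarityGroup (F := F) Q) (σ : F ≃+* F) :
    Cfsg.IsSemisimilarityPair Q g σ := by
  have h := IsSemi_comp (isSemi_one_iff.2 hg) (isSemi_std (hσ σ))
  rwa [map_one, mul_one, one_mul] at h

theorem fieldMap_mem_sim {Q : (ι → F) → F} (hσ : ∀ (σ : F ≃+* F) (v : ι → F), Q (σ ∘ v) = σ (Q v))
    {g : GL ι F} (hg : g ∈ Cfsg.Geo.quadSimilarityGroup (F := F) Q) (σ : F ≃+* F) :
    fieldMap σ g ∈ Cfsg.Geo.quadSimilarityGroup (F := F) Q := by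
  have h := conj_similarity (isSemi_std (hσ σ)) hg
  rwa [one_mul, inv_one, mul_one] at h

/-- The setting for a subgroup of the similarity group. -/
theorem setting [Finite F] (Q : QuadraticForm F (ι → F)) {k : ℕ} (hk : 3 ≤ k) (E : Frame Q k)
    (hS : HasSiegel Q) (hσ : ∀ (σ : F ≃+* F) (v : ι → F), Q (σ ∘ v) = σ (Q v))
    {H : Subgroup (GL ι F)} (hH : H ≤ Cfsg.Geo.quadSimilarityGroup (F := F) ⇑Q)
    (hscalar : ∀ c : Fˣ, scalarGL ι c ∈ H) (hrho : ∀ s, rho (⇑Q) s ∈ H)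
    (hfmap : ∀ g ∈ H, ∀ σ : F ≃+* F, fieldMap σ g ∈ H) : Setting (rho ⇑Q) H ⊤ where
  fin := inferInstance
  inj := rho_injective _
  norm g hg σ _ := normalises (isSemi_of_mem hσ (hH hg) σ)
  scalar := hscalar
  fmap g hg σ _ := hfmap g hg σ
  rho_mem := hrho
  eq_one g hg σ _ h := eq_one_of_induced hk E hS (isSemi_of_mem hσ (hH hg) σ) h

/-- The multiplier of a similarity, normalised at a vector of value one. -/
noncomputable def mult (Q : QuadraticForm F (ι → F)) {e : ι → F} (he : Q e = 1) :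
    ↥(Cfsg.Geo.quadSimilarityGroup (F := F) ⇑Q) →* Fˣ :=
  let spec : ∀ g : ↥(Cfsg.Geo.quadSimilarityGroup (F := F) ⇑Q), ∃ c : Fˣ,
    ∀ v, Q (((g : GL ι F) : Matrix ι ι F) *ᵥ v) = c * Q v := fun g => g.2
  have uniq : ∀ (g : ↥(Cfsg.Geo.quadSimilarityGroup (F := F) ⇑Q)) (c : Fˣ),
      (∀ v, Q (((g : GL ι F) : Matrix ι ι F) *ᵥ v) = c * Q v) → Classical.choose (spec g) = c :=
    fun g c hc => Units.ext (by
      have h := (Classical.choose_spec (spec g) e).symm.trans (hc e)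
      rwa [he, mul_one, mul_one] at h)
  { toFun := fun g => Classical.choose (spec g)
    map_one' := uniq 1 1 fun v => by simp
    map_mul' := fun g h => uniq (g * h) _ fun v => by
      rw [Subgroup.coe_mul, Units.val_mul, ← mulVec_mulVec, Classical.choose_spec (spec g),
        Classical.choose_spec (spec h), Units.val_mul, mul_assoc] }

theorem mult_spec (Q : QuadraticForm F (ι → F)) {e : ι → F} (he : Q e = 1)
    (g : ↥(Cfsg.Geo.quadSimilarityGroup (F := F) ⇑Q)) (v : ι → F) :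
    Q (((g : GL ι F) : Matrix ι ι F) *ᵥ v) = (mult Q he g : F) * Q v :=
  Classical.choose_spec (p := fun c : Fˣ => ∀ v, Q (((g : GL ι F) : Matrix ι ι F) *ᵥ v) = c * Q v) g.2 v

theorem mult_eq (Q : QuadraticForm F (ι → F)) {e : ι → F} (he : Q e = 1)
    (g : ↥(Cfsg.Geo.quadSimilarityGroup (F := F) ⇑Q)) {c : F}
    (hc : ∀ v, Q (((g : GL ι F) : Matrix ι ι F) *ᵥ v) = c * Q v) : (mult Q he g : F) = c := by
  have h := (mult_spec Q he g e).symm.trans (hc e)
  rwa [he, mul_one, mul_one] at h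

/-- `det² = μⁿ`. -/
theorem det_sq (Q : QuadraticForm F (ι → F)) (hQ : Q.polarBilin.Nondegenerate) {e : ι → F}
    (he : Q e = 1) (g : ↥(Cfsg.Geo.quadSimilarityGroup (F := F) ⇑Q)) :
    Matrix.GeneralLinearGroup.det (g : GL ι F) ^ 2 = mult Q he g ^ Fintype.card ι := by
  apply Units.ext
  set L := ((g : GL ι F) : Matrix ι ι F).mulVecLin
  have hL : Q.polarBilin.compl₁₂ L L = (mult Q he g : F) • Q.polarBilin := by
    refine LinearMap.ext fun x => LinearMap.ext fun y => ?_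
    show polar Q (((g : GL ι F) : Matrix ι ι F) *ᵥ x) (((g : GL ι F) : Matrix ι ι F) *ᵥ y) =
      (mult Q he g : F) • polar Q x y
    simp only [polar, ← mulVec_add, mult_spec Q he, smul_eq_mul, mul_sub]
  have e' := congrArg (fun B => (LinearMap.toMatrix₂' F B).det) hL
  simp only [LinearMap.toMatrix₂'_compl₁₂, map_smul, Matrix.det_mul, Matrix.det_transpose,
    Matrix.det_smul] at e'
  have hB : (LinearMap.toMatrix₂' F Q.polarBilin).det ≠ 0 := by
    have h := (LinearMap.separatingLeft_iff_det_ne_zero (Pi.basisFun F ι)).1 hQ.1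
    rwa [LinearMap.toMatrix₂_basisFun] at h
  have hLm : LinearMap.toMatrix' L = ((g : GL ι F) : Matrix ι ι F) :=
    LinearMap.toMatrix'_toLin' _
  rw [hLm] at e'
  rw [Units.val_pow_eq_pow_val, Units.val_pow_eq_pow_val]
  refine mul_right_cancel₀ hB ?_
  rw [← e']
  show ((g : GL ι F) : Matrix ι ι F).det ^ 2 * _ = _
  ring

end Cfsg.Agent.FieldAutGen.Orth
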