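import Mathlib
import Cfsg.Agent.FieldAutGen.OrthSim
import Cfsg.Agent.FieldAutGen.OrthOddChar
import Cfsg.Agent.FieldAutGen.OrthAut
import Cfsg.Agent.AutPSL.Coset
import Cfsg.Agent.AutPSL.FiniteField
import Cfsg.Agent.Aschbacher.OrthogonalOdd

/-!
Field automorphisms of `Ω_{2m+1}(q)` (helper60).
-/

set_option autoImplicit false

namespace Cfsg.Agent.FieldAutGen.Odd

open Matrix QuadraticMap
open Cfsg.Agent.AutPSL (fieldMap scalarGL Induced normGL)
open Cfsg.Agent.FieldAutGen.Orth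
open Cfsg.Agent.Reflections (theta detHom refl mat)

universe u v

variable {m : ℕ} {F : Type u} [Field F]

/-- The coordinate index type. -/
abbrev Idx (m : ℕ) : Type := Unit ⊕ (Fin m ⊕ Fin m)

/-- The standard odd form. -/
noncomputable def qf (m : ℕ) (F : Type u) [Field F] :
    QuadraticForm F (Unit ⊕ (Fin m ⊕ Fin m) → F) :=
  (Aschbacher.stdOdd m F).copy (Cfsg.quadFormOdd m F) (Aschbacher.coe_stdOdd m F).symm

theorem qf_apply (v : Unit ⊕ (Fin m ⊕ Fin m) → F) : qf m F v = Cfsg.quadFormOdd m F v := rfl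

theorem qf_nondeg (h2 : (2 : F) ≠ 0) : (qf m F).polarBilin.Nondegenerate := by
  rw [show qf m F = Aschbacher.stdOdd m F from QuadraticMap.copy_eq _ _ _]
  exact Aschbacher.stdOdd_nondegenerate h2

theorem qf_map {K : Type v} [Field K] (i : F →+* K) (x : Unit ⊕ (Fin m ⊕ Fin m) → F) :
    qf m K (i ∘ x) = i (qf m F x) := by
  simp [qf_apply, Cfsg.quadFormOdd]

theorem qf_sigma (σ : F ≃+* F) (v : Unit ⊕ (Fin m ⊕ Fin m) → F) :
    qf m F (σ ∘ v) = σ (qf m F v) :=
  qf_map σ.toRingHom v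

/-- The base vector of value one. -/
def e0 (m : ℕ) (F : Type u) [Field F] : Unit ⊕ (Fin m ⊕ Fin m) → F := Pi.single (.inl ()) 1

theorem qf_e0 : qf m F (e0 m F) = 1 := by simp [qf_apply, Cfsg.quadFormOdd, e0]

/-- The coordinate frame. -/
noncomputable def frame (m : ℕ) (F : Type u) [Field F] : Frame (qf m F) m where
  e i := Pi.single (.inr (.inl i)) 1
  f i := Pi.single (.inr (.inr i)) 1
  Qe i := by simp [qf_apply, Cfsg.quadFormOdd]
  Qf i := by simp [qf_apply, Cfsg.quadFormOdd]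
  ef i j := by
    simp only [polar, qf_apply, Cfsg.quadFormOdd, Pi.add_apply, Pi.single_apply, reduceCtorEq,
      if_false, Sum.inr.injEq, Sum.inl.injEq, add_zero, zero_add]
    simp [eq_comm]
  ee i j h := by simp [polar, qf_apply, Cfsg.quadFormOdd]
  ff i j h := by simp [polar, qf_apply, Cfsg.quadFormOdd]

/-- The similarity group. -/
noncomputable abbrev H (m : ℕ) (F : Type u) [Field F] : Subgroup (GL (Unit ⊕ (Fin m ⊕ Fin m)) F) :=
  Cfsg.Geo.quadSimilarityGroup (F := F) ⇑(qf m F)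

theorem setting [Finite F] (hm : 3 ≤ m) (h2 : (2 : F) ≠ 0) :
    Setting (rho (Cfsg.quadFormOdd m F)) (H m F) ⊤ :=
  Orth.setting (qf m F) hm (frame m F) (hasSiegel_of_two_ne_zero h2 _ (qf_nondeg h2)) qf_sigma
    le_rfl (scalar_mem_sim (qf m F)) (fun s => iso_le_sim _ s.1.2)
    (fun g hg σ => fieldMap_mem_sim qf_sigma hg σ)

theorem range_eq [Finite F] (hS : Setting (rho (Cfsg.quadFormOdd m F)) (H m F) ⊤) :
    (conjH hS).range = Cfsg.inndiagPOmegaOdd m F := by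
  rw [conjH_range]
  refine congrArg Cfsg.autSubgroupOf (funext fun β => propext ?_)
  exact exists_congr fun g => and_congr_right' induced_iff.symm

theorem card_index : Fintype.card (Unit ⊕ (Fin m ⊕ Fin m)) = 2 * m + 1 := by
  simp; omega

/-- The scalar moving a similarity into the special orthogonal group. -/
noncomputable def adj (m : ℕ) (F : Type u) [Field F] : ↥(H m F) →* Fˣ :=
  (powMonoidHom m).comp (mult (qf m F) (e := e0 m F) qf_e0) *
    (Matrix.GeneralLinearGroup.det.comp (H m F).subtype)⁻¹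

theorem scalar_mul (a b : Fˣ) :
    scalarGL (Idx m) (a * b) = scalarGL (Idx m) a * scalarGL (Idx m) b :=
  map_mul _ a b

theorem scalar_one : scalarGL (F := F) (Idx m) 1 = 1 := map_one _

theorem det_scalar (t : Fˣ) :
    Matrix.GeneralLinearGroup.det (scalarGL (Idx m) t) = t ^ (2 * m + 1) := by
  apply Units.ext
  show ((scalarGL (Idx m) t : GL (Idx m) F) : Matrix (Idx m) (Idx m) F).det = _
  rw [AutPSL.scalarGL_coe, Matrix.det_smul, Matrix.det_one, mul_one, card_index,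
    Units.val_pow_eq_pow_val]

variable [Finite F]

theorem adj_facts (h2 : (2 : F) ≠ 0) (g : H m F) :
    adj m F g ^ 2 * mult (qf m F) qf_e0 g = 1 ∧
      adj m F g ^ (2 * m + 1) * Matrix.GeneralLinearGroup.det (g : GL (Idx m) F) = 1 := by
  have h := det_sq (qf m F) (qf_nondeg h2) qf_e0 g
  rw [card_index] at h
  have ha : adj m F g = mult (qf m F) qf_e0 g ^ m *
      (Matrix.GeneralLinearGroup.det (g : GL (Idx m) F))⁻¹ := rfl
  set μ := mult (qf m F) qf_e0 g
  set d := Matrix.GeneralLinearGroup.det (g : GL (Idx m) F)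
  rw [ha]
  constructor
  · rw [mul_pow, ← pow_mul, mul_right_comm, ← pow_succ, mul_comm m 2, ← h, inv_pow,
      mul_inv_cancel]
  · rw [mul_pow, ← pow_mul, mul_comm m (2 * m + 1), pow_mul, ← h, ← pow_mul, mul_assoc,
      pow_succ (d⁻¹) (2 * m), inv_mul_cancel_right, inv_pow, mul_inv_cancel]

/-- The special orthogonal part. -/
noncomputable def toIso (h2 : (2 : F) ≠ 0) :
    ↥(H m F) →* ↥(Cfsg.isometryGroup F ⇑(qf m F)) where
  toFun g := ⟨scalarGL _ (adj m F g) * (g : GL (Idx m) F), mem_iso.2 fun v => by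
    rw [Units.val_mul, AutPSL.scalarGL_coe, smul_mul, one_mul, smul_mulVec, QuadraticMap.map_smul,
      mult_spec (qf m F) qf_e0, smul_eq_mul, ← mul_assoc, ← Units.val_mul, ← Units.val_mul, ← pow_two,
      (adj_facts h2 g).1, Units.val_one, one_mul]⟩
  map_one' := Subtype.ext (by
    show scalarGL _ (adj m F 1) * 1 = (1 : GL (Idx m) F)
    rw [map_one, mul_one]; exact map_one _)
  map_mul' g h := Subtype.ext (by
    show scalarGL _ (adj m F (g * h)) * ((g : GL (Idx m) F) * (h : GL (Idx m) F)) =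
      scalarGL _ (adj m F g) * (g : GL (Idx m) F) * (scalarGL _ (adj m F h) * (h : GL (Idx m) F))
    rw [map_mul, scalar_mul, mul_assoc, mul_assoc]
    congr 1
    rw [← mul_assoc, AutPSL.scalarGL_mul_comm, mul_assoc])

theorem toIso_coe (h2 : (2 : F) ≠ 0) (g : H m F) :
    ((toIso h2 g : ↥(Cfsg.isometryGroup F ⇑(qf m F))) : GL (Idx m) F) =
      scalarGL _ (adj m F g) * (g : GL (Idx m) F) := rfl

theorem det_toIso (h2 : (2 : F) ≠ 0) (g : H m F) : detHom (qf m F) (toIso h2 g) = 1 := by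
  show Matrix.GeneralLinearGroup.det (scalarGL _ (adj m F g) * (g : GL (Idx m) F)) = 1
  rw [map_mul, det_scalar, (adj_facts h2 g).2]

section
variable [Fintype F]

/-- The spinor class of the special orthogonal part. -/
noncomputable def chi (h2 : (2 : F) ≠ 0) (ε : F) : ↥(H m F) →* ULift.{u} ℤˣ :=
  MulEquiv.ulift.symm.toMonoidHom.comp ((theta (qf m F) ε).comp (toIso h2))

theorem chi_eq_one_iff (h2 : (2 : F) ≠ 0) (hm : 1 ≤ m) {ε : F} (hε : ¬ IsSquare ε) (g : H m F) :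
    chi h2 ε g = 1 ↔ toIso h2 g ∈ Cfsg.Omega F ⇑(qf m F) := by
  rw [Reflections.omega_eq_ker h2 (qf_nondeg h2) (by rw [card_index]; omega) hε, MonoidHom.mem_ker]
  simp only [Reflections.thetaPair, MonoidHom.prod_apply, Prod.mk_eq_one,
    theta_one_eq h2 _ (qf_nondeg h2) hε (det_toIso h2 g), and_self]
  exact ⟨fun h => congrArg ULift.down h, fun h => ULift.ext _ _ h⟩

theorem chi_hN (h2 : (2 : F) ≠ 0) (hm : 1 ≤ m) {ε : F} (hε : ¬ IsSquare ε) (g : H m F) :
    chi h2 ε g ∈ (⊥ : Subgroup (ULift.{u} ℤˣ)) ↔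
      ∃ (s : ↥(Cfsg.Omega F ⇑(qf m F))) (c : Fˣ),
        (g : GL (Idx m) F) = rho ⇑(qf m F) s * scalarGL _ c := by
  rw [Subgroup.mem_bot, chi_eq_one_iff h2 hm hε]
  constructor
  · intro h
    refine ⟨⟨toIso h2 g, h⟩, (adj m F g)⁻¹, ?_⟩
    show _ = scalarGL _ (adj m F g) * (g : GL (Idx m) F) * scalarGL _ (adj m F g)⁻¹
    rw [mul_assoc, ← AutPSL.scalarGL_mul_comm, ← mul_assoc, ← scalar_mul, mul_inv_cancel, scalar_one, one_mul]
  · rintro ⟨s, c, hg⟩
    have hu : ((toIso h2 g : ↥(Cfsg.isometryGroup F ⇑(qf m F))) : GL (Idx m) F) =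
        ((s : ↥(Cfsg.isometryGroup F ⇑(qf m F))) : GL (Idx m) F) * scalarGL _ (adj m F g * c) := by
      rw [toIso_coe, hg, ← mul_assoc, AutPSL.scalarGL_mul_comm, mul_assoc, ← scalar_mul]; rfl
    have hd := det_toIso h2 g
    change Matrix.GeneralLinearGroup.det ((toIso h2 g : ↥(Cfsg.isometryGroup F ⇑(qf m F))) : GL (Idx m) F) = 1 at hd
    rw [hu, map_mul] at hd
    have hs : Matrix.GeneralLinearGroup.det ((s : ↥(Cfsg.isometryGroup F ⇑(qf m F))) : GL (Idx m) F) = 1 :=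
      omega_le_special (Q := qf m F) s.2
    rw [hs, one_mul] at hd
    set t := adj m F g * c
    have ht : t ^ (2 * m + 1) = 1 := by rw [← det_scalar]; exact hd
    have hiso : scalarGL _ t ∈ Cfsg.isometryGroup F ⇑(qf m F) := by
      have h1 : ((s : ↥(Cfsg.isometryGroup F ⇑(qf m F))) : GL (Idx m) F) * scalarGL _ t ∈
          Cfsg.isometryGroup F ⇑(qf m F) := hu ▸ (toIso h2 g).2
      exact (Subgroup.mul_mem_cancel_left _ (s : ↥(Cfsg.isometryGroup F ⇑(qf m F))).2).1 h1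
    have h2t : t ^ 2 = 1 := by
      apply Units.ext
      have h1 := mem_iso.1 hiso (e0 m F)
      rw [AutPSL.scalarGL_coe, smul_mulVec, one_mulVec, QuadraticMap.map_smul, qf_e0, smul_eq_mul,
        mul_one] at h1
      rw [Units.val_pow_eq_pow_val, pow_two]; exact h1
    have ht1 : t = 1 := by
      rwa [pow_succ, pow_mul, h2t, one_pow, one_mul] at ht
    have he : toIso h2 g = (s : ↥(Cfsg.isometryGroup F ⇑(qf m F))) :=
      Subtype.ext (by rw [hu, ht1, scalar_one, mul_one])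
    rw [he]; exact s.2

/-- An element of the special orthogonal group outside `Ω`, with entries in a given subfield. -/
theorem exists_chi_ne (h2 : (2 : F) ≠ 0) (hm : 1 ≤ m) {ε : F} (hε : ¬ IsSquare ε) :
    ∃ g : H m F, chi h2 ε g ≠ 1 ∧
      ∀ σ : F ≃+* F, σ ε = ε → fieldMap σ (g : GL (Idx m) F) = g := by
  classical
  set b : Unit ⊕ (Fin m ⊕ Fin m) → F :=
    ε • (Pi.single (.inr (.inl ⟨0, hm⟩)) 1) + Pi.single (.inr (.inr ⟨0, hm⟩)) 1 with hb
  have hbv : qf m F b = ε := by simp [qf_apply, Cfsg.quadFormOdd, hb, Pi.single_apply]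
  have hε0 : ε ≠ 0 := fun h => hε (h ▸ IsSquare.zero)
  set u := refl (qf m F) (e0 m F) * refl (qf m F) b with hu
  let g : H m F := ⟨(u : GL (Idx m) F), iso_le_sim _ u.2⟩
  have hdet : detHom (qf m F) u = 1 := by
    rw [hu, map_mul, Reflections.detHom_refl (by rw [qf_e0]; exact one_ne_zero),
      Reflections.detHom_refl (by rw [hbv]; exact hε0)]
    simp
  have hμ : mult (qf m F) qf_e0 g = 1 := Units.ext (mult_eq _ _ g fun v => by
    rw [Units.val_one, one_mul]; exact mem_iso.1 u.2 v)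
  have hadj : adj m F g = 1 := by
    show mult (qf m F) qf_e0 g ^ m * (Matrix.GeneralLinearGroup.det (u : GL (Idx m) F))⁻¹ = 1
    rw [hμ, one_pow, one_mul, show Matrix.GeneralLinearGroup.det (u : GL (Idx m) F) = 1 from hdet, inv_one]
  have hgu : toIso h2 g = u := Subtype.ext (by rw [toIso_coe, hadj, scalar_one, one_mul])
  refine ⟨g, fun h => ?_, fun σ hσ => Units.ext ?_⟩
  · have h1 := congrArg ULift.down h
    change theta (qf m F) ε (toIso h2 g) = 1 at h1
    rw [hgu, hu, map_mul, Reflections.theta_eps_a h2 hε qf_e0, Reflections.theta_eps_b h2 hε hbv] at h1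
    exact absurd h1 (by decide)
  · show (mat u).map σ = mat u
    rw [hu, Forms59.mat_mul', Reflections.mat_refl (by rw [qf_e0]; exact one_ne_zero),
      Reflections.mat_refl (by rw [hbv]; exact hε0), Matrix.map_mul,
      reflection_fixed (qf_sigma σ), reflection_fixed (qf_sigma σ)]
    · intro j
      by_cases h₁ : j = .inr (.inl ⟨0, hm⟩) <;> by_cases h₂ : j = .inr (.inr ⟨0, hm⟩) <;>
        simp [hb, h₁, h₂, hσ]
    · intro j
      by_cases h₁ : j = .inl () <;> simp [e0, h₁]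

theorem toIso_fixed (h2 : (2 : F) ≠ 0) {σ : F ≃+* F} {g : H m F}
    (hg : fieldMap σ (g : GL (Idx m) F) = g) :
    (mat (toIso h2 g)).map σ = mat (toIso h2 g) := by
  have hμ : σ (mult (qf m F) qf_e0 g : F) = mult (qf m F) qf_e0 g := by
    have h1 := mult_spec (qf m F) qf_e0 g (e0 m F)
    rw [qf_e0, mul_one] at h1
    have h3 : σ ∘ e0 m F = e0 m F := funext fun j => by
      by_cases h₁ : j = .inl () <;> simp [e0, h₁]
    rw [← h1, ← qf_sigma, ← map_mulVec, h3, ← AutPSL.fieldMap_coe, hg]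
  have hd : Units.map (σ.toRingHom : F →* F) (Matrix.GeneralLinearGroup.det (g : GL (Idx m) F)) =
      Matrix.GeneralLinearGroup.det (g : GL (Idx m) F) := by
    apply Units.ext
    show σ (((g : GL (Idx m) F) : Matrix (Idx m) (Idx m) F).det) = _
    rw [show σ (((g : GL (Idx m) F) : Matrix (Idx m) (Idx m) F).det) = (σ.toRingHom.mapMatrix ((g : GL (Idx m) F) : Matrix (Idx m) (Idx m) F)).det
      from RingHom.map_det σ.toRingHom _]
    exact congrArg (fun x : GL _ F => (x : Matrix (Idx m) (Idx m) F).det) hg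
  have ha : Units.map (σ.toRingHom : F →* F) (adj m F g) = adj m F g := by
    show Units.map (σ.toRingHom : F →* F) (mult (qf m F) qf_e0 g ^ m *
      (Matrix.GeneralLinearGroup.det (g : GL (Idx m) F))⁻¹) = mult (qf m F) qf_e0 g ^ m *
      (Matrix.GeneralLinearGroup.det (g : GL (Idx m) F))⁻¹
    rw [map_mul, map_inv, map_pow, hd, show Units.map (σ.toRingHom : F →* F) (mult (qf m F) qf_e0 g) =
      mult (qf m F) qf_e0 g from Units.ext hμ]
  have h : fieldMap σ ((toIso h2 g : ↥(Cfsg.isometryGroup F ⇑(qf m F))) : GL (Idx m) F) =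
      ((toIso h2 g : ↥(Cfsg.isometryGroup F ⇑(qf m F))) : GL (Idx m) F) := by
    rw [toIso_coe, map_mul, hg, AutPSL.fieldMap_scalarGL, ha]
  exact congrArg Units.val h

theorem split_count (hm : 3 ≤ m) (h2 : (2 : F) ≠ 0)
    (hS : Setting (rho (Cfsg.quadFormOdd m F)) (H m F) ⊤) {σ : F ≃+* F}
    {φ : MulAut (Cfsg.POmega F (Cfsg.quadFormOdd m F))}
    (hφ : Induced (rho (Cfsg.quadFormOdd m F)) 1 σ φ) {F₀ : Type v} [Field F₀] [Fintype F₀]
    (i : F₀ →+* F) (hi : ∀ x : F, σ x = x ↔ ∃ y, i y = x) :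
    (Odd (orderOf σ) → Cfsg.splitClassCount (Cfsg.inndiagPOmegaOdd m F)
        (Cfsg.Inn (Cfsg.POmega F (Cfsg.quadFormOdd m F))) φ = 1) ∧
      (Fintype.card F = Fintype.card F₀ ^ 2 → Cfsg.splitClassCount (Cfsg.inndiagPOmegaOdd m F)
        (Cfsg.Inn (Cfsg.POmega F (Cfsg.quadFormOdd m F))) φ = 2) := by
  classical
  haveI : Nonempty (Unit ⊕ (Fin m ⊕ Fin m)) := ⟨.inl ()⟩
  have hm1 : 1 ≤ m := by omega
  obtain ⟨ε', -, hε'⟩ := Reflections.exists_nonsquare_scalar (F := F) h2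
  have key : ∀ {ε : F}, ¬ IsSquare ε →
      Cfsg.splitClassCount (Cfsg.inndiagPOmegaOdd m F)
        (Cfsg.Inn (Cfsg.POmega F (Cfsg.quadFormOdd m F))) φ =
      ((((fieldMap σ).eqLocus (MonoidHom.id (GL (Idx m) F))).subgroupOf (H m F)).map (chi h2 ε) ⊔
        (⊥ : Subgroup (ULift.{u} ℤˣ))).index := by
    intro ε hε
    rw [← range_eq hS]
    refine splitClassCount_field hS (Subgroup.mem_top _) hφ (chi h2 ε) (fun a => ?_) ⊥ (chi_hN h2 hm1 hε)
    rcases Int.units_eq_one_or a.down with h | h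
    · exact ⟨1, by rw [map_one]; exact ULift.ext _ _ h.symm⟩
    · obtain ⟨g, hg, -⟩ := exists_chi_ne (m := m) h2 hm1 hε
      refine ⟨g, ULift.ext _ _ ?_⟩
      rcases Int.units_eq_one_or (chi h2 ε g).down with h' | h'
      · exact absurd (ULift.ext _ _ h') hg
      · rw [h', h]
  constructor
  · intro hr
    have h20 : (2 : F₀) ≠ 0 := fun h => h2 (by rw [← map_ofNat i 2, h, map_zero])
    obtain ⟨η, -, hη⟩ := Reflections.exists_nonsquare_scalar (F := F₀) h20
    have hε : ¬ IsSquare (i η) := fun h => by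
      obtain ⟨s, hs, he⟩ := exists_sqrt_fixed hr h ((hi _).2 ⟨η, rfl⟩)
      obtain ⟨t, rfl⟩ := (hi s).1 hs
      exact hη ⟨t, i.injective (by rw [map_mul]; exact he)⟩
    rw [key hε, sup_bot_eq, Subgroup.index_eq_one, eq_top_iff]
    intro a _
    rcases Int.units_eq_one_or a.down with h | h
    · rw [show a = 1 from ULift.ext _ _ h]; exact one_mem _
    · obtain ⟨g, hg, hfix⟩ := exists_chi_ne (m := m) h2 hm1 hε
      refine ⟨g, hfix σ ((hi _).2 ⟨η, rfl⟩), ULift.ext _ _ ?_⟩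
      rcases Int.units_eq_one_or (chi h2 (i η) g).down with h' | h'
      · exact absurd (ULift.ext _ _ h') hg
      · rw [h', h]
  · intro hcard
    have hbot : (((fieldMap σ).eqLocus (MonoidHom.id (GL (Idx m) F))).subgroupOf (H m F)).map (chi h2 ε') =
        (⊥ : Subgroup (ULift.{u} ℤˣ)) := by
      rw [eq_bot_iff]
      rintro _ ⟨g, hg, rfl⟩
      have h20 : (2 : F₀) ≠ 0 := fun h => h2 (by rw [← map_ofNat i 2, h, map_zero])
      exact Subgroup.mem_bot.2 ((chi_eq_one_iff h2 hm1 hε' g).2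
        (fixed_special_mem_omega h2 (qf m F) (qf_nondeg h2) (qf m F₀) (qf_nondeg h20)
          (by rw [card_index]; omega) i (qf_map i) hcard hi (toIso_fixed h2 hg) (det_toIso h2 g)))
    rw [key hε', hbot, sup_bot_eq, Subgroup.index_bot, Nat.card_ulift, Nat.card_eq_fintype_card,
      Fintype.card_units_int]

theorem hilb (hm : 1 ≤ m) (h2 : (2 : F) ≠ 0) {σ : F ≃+* F} :
    ∀ g ∈ H m F, normGL σ g (orderOf σ) = 1 → ∃ h ∈ H m F, g = h * (fieldMap σ h)⁻¹ := by
  intro g hg hN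
  haveI : Nonempty (Unit ⊕ (Fin m ⊕ Fin m)) := ⟨.inl ()⟩
  obtain ⟨h, ν, Q₀, hh, hQ₀, hx⟩ := exists_descended (qf m F) (qf_nondeg h2) (qf_sigma σ) hg hN
  have hrank : Module.finrank (fixField σ) (Unit ⊕ (Fin m ⊕ Fin m) → fixField σ) = 2 * m + 1 := by
    rw [Module.finrank_fintype_fun_eq_card, card_index]
  rcases Forms59.exists_normal_form Q₀ hQ₀ with ⟨k, hk, -⟩ | ⟨k, hk, c, e, hc, he⟩ | ⟨k, hk, -⟩
  · omega
  · obtain rfl : k = m := by omega
    let f : (Unit ⊕ (Fin k ⊕ Fin k) → fixField σ) →ₗ[fixField σ]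
        ((Fin k ⊕ Fin k) ⊕ Fin 1 → fixField σ) :=
      LinearMap.pi (Sum.elim (Sum.elim (fun j => c • LinearMap.proj (Sum.inr (Sum.inl j)))
        (fun j => LinearMap.proj (Sum.inr (Sum.inr j)))) (fun _ => LinearMap.proj (Sum.inl ())))
    have hfi : Function.Injective f := by
      intro x y hxy
      funext j
      rcases j with ⟨⟩ | j | j
      · exact congrFun hxy (Sum.inr 0)
      · exact mul_left_cancel₀ hc (congrFun hxy (Sum.inl (Sum.inl j)))
      · exact congrFun hxy (Sum.inl (Sum.inr j))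
    refine assemble (qf k F) hh Q₀ hx (qf k (fixField σ))
      (fun x => qf_map (fixField σ).subtype x)
      (LinearEquiv.ofInjectiveEndo (e.symm.toLinearMap.comp f) (e.symm.injective.comp hfi)) c hc ?_
    intro x
    show Q₀ (e.symm (f x)) = _
    rw [he, e.apply_symm_apply, qf_apply, Cfsg.quadFormOdd]
    show (∑ j, c * x (Sum.inr (Sum.inl j)) * x (Sum.inr (Sum.inr j))) + c * (x (Sum.inl ()) * x (Sum.inl ())) = _
    rw [mul_add, Finset.mul_sum, add_comm, pow_two]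
    congr 1
    exact Finset.sum_congr rfl fun j _ => mul_assoc _ _ _
  · omega

theorem conj_inndiag (hm : 3 ≤ m) (h2 : (2 : F) ≠ 0)
    (α : MulAut (Cfsg.POmega F (Cfsg.quadFormOdd m F)))
    {d : MulAut (Cfsg.POmega F (Cfsg.quadFormOdd m F))} (hd : d ∈ Cfsg.inndiagPOmegaOdd m F) :
    α * d * α⁻¹ ∈ Cfsg.inndiagPOmegaOdd m F := by
  rw [← range_eq (setting hm h2)] at hd ⊢
  obtain ⟨g, σ, hg, hα⟩ := exists_semi (fun v => UnitaryOrthogonal.qOdd_apply m v)
    (CG26.AutPO.setup_odd h2 hm) (CG26.AutPO.big_odd h2 hm) α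
  exact conj_range (setting hm h2) (normalises hg) hα (fun h hh => conj_similarity hg hh) hd

theorem field_class {p f : ℕ} (hp : p.Prime) (hF : Fintype.card F = p ^ f) (hf : 1 ≤ f)
    (hodd : Odd (Fintype.card F)) (hm : 3 ≤ m) (x : MulAut (Cfsg.POmega F (Cfsg.quadFormOdd m F)))
    (hx : Cfsg.IsFieldAutClassPOmega (Cfsg.quadFormOdd m F) x) {r : ℕ} (hxr : orderOf x = r)
    (F₀ : Type v) [Field F₀] [Fintype F₀] (hF₀ : Fintype.card F₀ = p ^ (f / r)) :
    r ∣ f ∧ Nonempty (↥(Cfsg.inndiagPOmegaOdd m F ⊓ Subgroup.centralizer {x}) ≃*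
        ↥(Cfsg.inndiagPOmegaOdd m F₀)) ∧
      (Odd r → Cfsg.splitClassCount (Cfsg.inndiagPOmegaOdd m F)
        (Cfsg.Inn (Cfsg.POmega F (Cfsg.quadFormOdd m F))) x = 1) ∧
      (r = 2 → Cfsg.splitClassCount (Cfsg.inndiagPOmegaOdd m F)
        (Cfsg.Inn (Cfsg.POmega F (Cfsg.quadFormOdd m F))) x = 2) := by
  haveI : Nonempty (Unit ⊕ (Fin m ⊕ Fin m)) := ⟨.inl ()⟩
  have h2 : (2 : F) ≠ 0 := Forms59.two_ne_zero_of_odd rfl hodd
  have hS := setting (m := m) hm h2
  obtain ⟨α, φ, σ, -, hφ, rfl⟩ := hx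
  have hφ' := isFieldAut_iff.1 hφ
  have hσ : orderOf σ = r := by rw [← orderOf_std hS (Subgroup.mem_top _) hφ', AutPSL.orderOf_conj', hxr]
  obtain ⟨hrf, hfix⟩ := AutPSL.card_fixed_eq hσ hp hF hf
  obtain ⟨i, hi⟩ := AutPSL.exists_fixed_embedding σ F₀ (hF₀.trans hfix.symm)
  have h20 : (2 : F₀) ≠ 0 := fun h => h2 (by rw [← map_ofNat i 2, h, map_zero])
  have hS₀ := setting (m := m) (F := F₀) hm h20
  obtain ⟨e1⟩ := exists_centralizer_equiv hS (Subgroup.mem_top _) hφ' i hi (H m F₀)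
    (fun g => map_mem_sim_iff (qf m F) (qf m F₀) i (qf_map i) qf_e0 g)
  obtain ⟨e2⟩ := exists_range_equiv hS₀
  have hH : ∀ α : MulAut (Cfsg.POmega F (Cfsg.quadFormOdd m F)), ∀ d ∈ Cfsg.inndiagPOmegaOdd m F,
      α * d * α⁻¹ ∈ Cfsg.inndiagPOmegaOdd m F := fun α d hd => conj_inndiag hm h2 α hd
  obtain ⟨e⟩ := AutPSL.centralizer_conj_equiv (Cfsg.inndiagPOmegaOdd m F) hH α x
  obtain ⟨h3, h4⟩ := split_count hm h2 hS hφ' i hi
  rw [AutPSL.splitClassCount_conj (X := MulAut (Cfsg.POmega F (Cfsg.quadFormOdd m F))) _ _ hH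
    (fun α d hd => AutPSL.inn_conj α d hd)] at h3 h4
  rw [← range_eq hS] at e ⊢
  rw [← range_eq hS₀]
  refine ⟨hrf, ⟨e.trans (e1.trans e2.symm)⟩, fun hr => ?_, fun hr => ?_⟩
  · rw [range_eq hS]; exact h3 (hσ ▸ hr)
  · rw [range_eq hS]
    refine h4 ?_
    rw [hF, hF₀, ← pow_mul, ← hr, Nat.div_mul_cancel hrf]

theorem coset_order_iff (hodd : Odd (Nat.card F)) (hm : 3 ≤ m)
    (x δ : MulAut (Cfsg.POmega F (Cfsg.quadFormOdd m F)))
    (hx : Cfsg.IsFieldAutClassPOmega (Cfsg.quadFormOdd m F) x) {r : ℕ} (hxr : orderOf x = r)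
    (hδ : δ ∈ Cfsg.inndiagPOmegaOdd m F) :
    orderOf (δ * x) = r ↔ Cfsg.IsConjUnder (Cfsg.inndiagPOmegaOdd m F) x (δ * x) := by
  refine ⟨fun ho => ?_, fun ⟨h, _, he⟩ => by rw [he, AutPSL.orderOf_conj', hxr]⟩
  haveI : Nonempty (Unit ⊕ (Fin m ⊕ Fin m)) := ⟨.inl ()⟩
  have h2 : (2 : F) ≠ 0 := Forms59.two_ne_zero_of_odd rfl (by rwa [← Nat.card_eq_fintype_card])
  have hS := setting (m := m) hm h2
  obtain ⟨α, φ, σ, -, hφ, rfl⟩ := hx
  have hφ' := isFieldAut_iff.1 hφ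
  have hH : ∀ α : MulAut (Cfsg.POmega F (Cfsg.quadFormOdd m F)), ∀ d ∈ Cfsg.inndiagPOmegaOdd m F,
      α * d * α⁻¹ ∈ Cfsg.inndiagPOmegaOdd m F := fun α d hd => conj_inndiag hm h2 α hd
  rw [AutPSL.isConjUnder_conj_iff hH α]
  have hsplit : α * (δ * x) * α⁻¹ = (α * δ * α⁻¹) * (α * x * α⁻¹) := by group
  rw [hsplit, ← range_eq hS]
  refine field_coset hS (Subgroup.mem_top _) hφ' (hilb (by omega) h2) ?_ ?_
  · rw [range_eq hS]; exact hH α δ hδ
  · rw [← hsplit, AutPSL.orderOf_conj', ho, ← orderOf_std hS (Subgroup.mem_top _) hφ', AutPSL.orderOf_conj', hxr]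

end

end Cfsg.Agent.FieldAutGen.Odd
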