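import Mathlib
import Cfsg.Agent.FieldAutGen.OrthBasic
import Cfsg.Agent.Lib.Reflections.CharTwo
import Cfsg.Agent.Forms59.OmegaTools

/-!
`Ω(Q)` in characteristic two is the kernel of the parity of the residual space; it contains the Siegel
transformations (helper60).
-/

set_option autoImplicit false

namespace Cfsg.Agent.FieldAutGen.Orth

open Matrix QuadraticMap
open Cfsg.Agent.Reflections (mat resSp siegel act)

universe u

variable {ι : Type} [Fintype ι] [DecidableEq ι] {F : Type u} [Field F] [Fintype F]

theorem mem_omega_iff_even [CharP F 2] (Q : QuadraticForm F (ι → F))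
    (hQ : Q.polarBilin.Nondegenerate) (hn : 5 ≤ Fintype.card ι)
    (g : ↥(Cfsg.isometryGroup F ⇑Q)) :
    g ∈ Cfsg.Omega F ⇑Q ↔ Even (Module.finrank F (resSp g)) := by
  have hexc : (∃ c : F, c ≠ 0 ∧ c ≠ 1) ∨ Fintype.card ι ≠ 4 := Or.inr (by omega)
  have hgen := Reflections.reflGroup_eq_top_of_char_two hQ hexc
  set δ := Reflections.dickson hQ hgen
  have hle : Cfsg.Omega F ⇑Q ≤ δ.ker := Abelianization.commutator_subset_ker δ
  have hidx : δ.ker.index = 2 := by
    have h1 := Subgroup.index_dvd_of_le hle
    rw [Reflections.omega_index_two hQ hexc (by omega)] at h1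
    rcases (Nat.dvd_prime Nat.prime_two).1 h1 with h | h
    · exfalso
      rw [Subgroup.index_eq_one] at h
      obtain ⟨v, hv⟩ : ∃ v, Q v ≠ 0 := by
        by_contra h'
        push Not at h'
        obtain ⟨i⟩ : Nonempty ι := Fintype.card_pos_iff.mp (by omega)
        have : (Pi.single i 1 : ι → F) = 0 := hQ.1 _ fun y => by simp [polar, h']
        exact one_ne_zero (α := F) (by simpa using congrFun this i)
      have h2 : Reflections.refl Q v ∈ δ.ker := h ▸ Subgroup.mem_top _
      rw [MonoidHom.mem_ker, Reflections.dickson_refl hQ hgen hv] at h2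
      exact absurd h2 (by decide)
    · exact h
  have heq : Cfsg.Omega F ⇑Q = δ.ker := by
    refine le_antisymm hle (Subgroup.relIndex_eq_one.mp ?_)
    have h := Subgroup.relIndex_mul_index hle
    rw [hidx, Reflections.omega_index_two hQ hexc (by omega)] at h
    omega
  rw [heq, MonoidHom.mem_ker]
  show Multiplicative.ofAdd ((Module.finrank F (resSp g) : ℕ) : ZMod 2) = 1 ↔ _
  rw [ofAdd_eq_one, ZMod.natCast_eq_zero_iff_even]

theorem hasSiegel_of_two_eq_zero (h2 : (2 : F) = 0) (Q : QuadraticForm F (ι → F))
    (hQ : Q.polarBilin.Nondegenerate) (hn : 5 ≤ Fintype.card ι) : HasSiegel Q := by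
  intro u v hu hv huv
  haveI := Forms59.charTwo_of_two_eq_zero h2
  have hmat : mat (siegel Q hu hv huv 1) = Cfsg.siegelMatrix ⇑Q u v 1 := by
    rw [siegel, Reflections.mat_mkIsom]
  refine ⟨⟨siegel Q hu hv huv 1, (mem_omega_iff_even Q hQ hn _).2 ?_⟩, hmat⟩
  by_cases hli : LinearIndependent F ![u, v]
  · have hspan : resSp (siegel Q hu hv huv 1) = Submodule.span F (Set.range ![u, v]) := by
      refine le_antisymm ?_ (Submodule.span_le.2 ?_)
      · rintro _ ⟨x, rfl⟩
        rw [LinearMap.sub_apply, LinearMap.id_apply, Reflections.lin_apply, Reflections.act_siegel,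
          one_mul, one_mul]
        have hu' : u ∈ Submodule.span F (Set.range ![u, v]) := Submodule.subset_span ⟨0, rfl⟩
        have hv' : v ∈ Submodule.span F (Set.range ![u, v]) := Submodule.subset_span ⟨1, rfl⟩
        rw [show x + polar ⇑Q u x • v - polar ⇑Q v x • u - x = polar ⇑Q u x • v - polar ⇑Q v x • u by abel]
        exact Submodule.sub_mem _ (Submodule.smul_mem _ _ hv') (Submodule.smul_mem _ _ hu')
      · rintro _ ⟨j, rfl⟩
        obtain ⟨x, hx⟩ := Reflections.exists_polar_eq hQ hli ![0, -1]
        obtain ⟨y, hy⟩ := Reflections.exists_polar_eq hQ hli ![1, 0]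
        fin_cases j
        · refine Reflections.mem_resSp.2 ⟨x, ?_⟩
          have h0 : polar ⇑Q u x = 0 := hx 0
          have h1 : polar ⇑Q v x = -1 := hx 1
          rw [Reflections.act_siegel, h0, h1]
          simp
        · refine Reflections.mem_resSp.2 ⟨y, ?_⟩
          have h0 : polar ⇑Q u y = 1 := hy 0
          have h1 : polar ⇑Q v y = 0 := hy 1
          rw [Reflections.act_siegel, h0, h1]
          simp
    rw [hspan, finrank_span_eq_card hli, Fintype.card_fin]
    exact even_two
  · have hM : siegel Q hu hv huv 1 = 1 := by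
      refine Reflections.isom_ext fun x => ?_
      rw [Reflections.act_siegel, Reflections.act_one]
      rw [LinearIndependent.pair_iff] at hli
      push Not at hli
      obtain ⟨s, t, hst, hne⟩ := hli
      by_cases ht : t = 0
      · have hs : s ≠ 0 := fun h => hne h ht
        rw [ht, zero_smul, add_zero] at hst
        have : u = 0 := (smul_eq_zero.mp hst).resolve_left hs
        simp [this]
      · have : v = (-(s / t)) • u := by
          funext i
          have := congrFun hst i
          simp only [Pi.add_apply, Pi.smul_apply, Pi.zero_apply, smul_eq_mul] at this ⊢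
          field_simp
          linear_combination this
        rw [this, QuadraticMap.polar_smul_left, smul_eq_mul]
        module
    rw [hM, Reflections.res_one]
    exact Even.zero

/-- `Ω(Q)` contains the Siegel transformations, in any characteristic. -/
theorem hasSiegel (Q : QuadraticForm F (ι → F)) (hQ : Q.polarBilin.Nondegenerate)
    (hn : 5 ≤ Fintype.card ι) : HasSiegel Q := by
  by_cases h2 : (2 : F) = 0
  · exact hasSiegel_of_two_eq_zero h2 Q hQ hn
  · exact hasSiegel_of_two_ne_zero h2 Q hQ

end Cfsg.Agent.FieldAutGen.Orth
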