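import Mathlib
import Cfsg.Agent.FieldAutGen.OrthSim
import Cfsg.Agent.FieldAutGen.OrthOddChar
import Cfsg.Agent.FieldAutGen.OrthCharTwo
import Cfsg.Agent.Forms59.PlusClass
import Cfsg.Agent.Lib.UnitaryOrthogonal.OuterClasses

/-!
The class character of the similarity group of the hyperbolic form, in every characteristic, and the
setting of `FieldAutGen` for `PΩ⁺` (helper60).
-/

set_option autoImplicit false

namespace Cfsg.Agent.FieldAutGen.Plus

open Matrix QuadraticMap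
open Cfsg.Agent.AutPSL (fieldMap scalarGL Induced)
open Cfsg.Agent.FieldAutGen.Orth
open Cfsg.Agent.Reflections (mat refl act)

universe u v

variable {m : ℕ} {F : Type u} [Field F]

/-- The hyperbolic form. -/
noncomputable def qf (m : ℕ) (F : Type u) [Field F] : QuadraticForm F (Fin m ⊕ Fin m → F) :=
  (Reflections.qPlus m F).copy (Cfsg.quadFormPlus m F) (Reflections.coe_qPlus m F).symm

theorem qf_apply (v : Fin m ⊕ Fin m → F) : qf m F v = Cfsg.quadFormPlus m F v := rfl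

theorem qf_eq : qf m F = Reflections.qPlus m F := QuadraticMap.copy_eq _ _ _

theorem qf_nondeg : (qf m F).polarBilin.Nondegenerate := by
  rw [qf_eq]; exact Forms59.qPlus_nondegenerate

theorem qf_map {K : Type v} [Field K] (i : F →+* K) (x : Fin m ⊕ Fin m → F) :
    qf m K (i ∘ x) = i (qf m F x) := by
  simp [qf_apply, Cfsg.quadFormPlus]

theorem qf_sigma (σ : F ≃+* F) (v : Fin m ⊕ Fin m → F) : qf m F (σ ∘ v) = σ (qf m F v) :=
  qf_map σ.toRingHom v

/-- A vector of value one. -/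
def e1 {m : ℕ} (hm : 0 < m) (F : Type u) [Field F] : Fin m ⊕ Fin m → F :=
  Pi.single (.inl ⟨0, hm⟩) 1 + Pi.single (.inr ⟨0, hm⟩) 1

theorem qf_e1 (hm : 0 < m) : qf m F (e1 hm F) = 1 := by
  simp [qf_apply, Cfsg.quadFormPlus, e1, Pi.single_apply]

theorem e1_fixed (hm : 0 < m) (σ : F ≃+* F) : σ ∘ e1 hm F = e1 hm F := by
  funext j
  by_cases h₁ : j = .inl ⟨0, hm⟩ <;> by_cases h₂ : j = .inr ⟨0, hm⟩ <;> simp [e1, h₁, h₂]

/-- The coordinate frame. -/
noncomputable def frame (m : ℕ) (F : Type u) [Field F] : Frame (qf m F) m where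
  e i := Pi.single (.inl i) 1
  f i := Pi.single (.inr i) 1
  Qe i := by simp [qf_apply, Cfsg.quadFormPlus]
  Qf i := by simp [qf_apply, Cfsg.quadFormPlus]
  ef i j := by
    simp only [polar, qf_apply, Cfsg.quadFormPlus, Pi.add_apply, Pi.single_apply, reduceCtorEq,
      if_false, Sum.inr.injEq, Sum.inl.injEq, add_zero, zero_add]
    simp [eq_comm]
  ee i j h := by simp [polar, qf_apply, Cfsg.quadFormPlus]
  ff i j h := by simp [polar, qf_apply, Cfsg.quadFormPlus]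

/-- The similarity group. -/
noncomputable abbrev Sim (m : ℕ) (F : Type u) [Field F] : Subgroup (GL (Fin m ⊕ Fin m) F) :=
  Cfsg.Geo.quadSimilarityGroup (F := F) ⇑(qf m F)

/-- The isometry group. -/
noncomputable abbrev Iso (m : ℕ) (F : Type u) [Field F] : Subgroup (GL (Fin m ⊕ Fin m) F) :=
  Cfsg.isometryGroup F ⇑(qf m F)

/-! ### The class character on isometries -/

/-- Reading an isometry for `Reflections.qPlus`. -/
noncomputable def toP : ↥(Iso m F) →* Forms59.PlusIso m F :=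
  (Iso m F).subtype.codRestrict _ fun g => qf_eq (m := m) (F := F) ▸ g.2

theorem mat_toP (g : Iso m F) : mat (toP g) = mat g := rfl

/-- The class character. -/
noncomputable def cls0 : ↥(Iso m F) →* Multiplicative (ZMod 2) :=
  (Forms59.classHom m F).comp toP

theorem cls0_refl {v : Fin m ⊕ Fin m → F} (hv : qf m F v ≠ 0) :
    cls0 (refl (qf m F) v) = Multiplicative.ofAdd 1 := by
  have hv' : Reflections.qPlus m F v ≠ 0 := qf_eq (m := m) (F := F) ▸ hv
  have h : toP (refl (qf m F) v) = refl (Reflections.qPlus m F) v := by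
    apply Reflections.eq_of_mat
    rw [mat_toP, Reflections.mat_refl hv, Reflections.mat_refl hv',
      show ⇑(qf m F) = ⇑(Reflections.qPlus m F) from congrArg _ qf_eq]
  show Forms59.classHom m F (toP (refl (qf m F) v)) = _
  rw [h, Forms59.classHom_refl hv']

variable [Fintype F]

theorem reflGroup_top (hm : 3 ≤ m) : Reflections.reflGroup (qf m F) = ⊤ :=
  Forms59.reflGroup_top_general qf_nondeg (Or.inr (by simp; omega))

/-- A character of the isometry group is determined by its values on reflections. -/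
theorem hom_ext_refl (hm : 3 ≤ m) {A : Type*} [CommGroup A] {ψ ψ' : ↥(Iso m F) →* A}
    (h : ∀ v, qf m F v ≠ 0 → ψ (refl (qf m F) v) = ψ' (refl (qf m F) v)) : ψ = ψ' := by
  refine MonoidHom.eq_of_eqOn_dense
    (show Subgroup.closure (Reflections.reflSet (qf m F)) = ⊤ from reflGroup_top hm) ?_
  intro g hg
  obtain ⟨v, hv, rfl⟩ := Reflections.exists_of_mem_reflSet hg
  exact h v hv

omit [Fintype F] in
/-- A similarity conjugates a reflection to a reflection. -/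
theorem conj_refl_sim {g : GL (Fin m ⊕ Fin m) F} {c : F} (hc : c ≠ 0)
    (hg : ∀ v, qf m F ((g : Matrix (Fin m ⊕ Fin m) (Fin m ⊕ Fin m) F) *ᵥ v) = c * qf m F v) {v : Fin m ⊕ Fin m → F}
    (hv : qf m F v ≠ 0) :
    qf m F ((g : Matrix (Fin m ⊕ Fin m) (Fin m ⊕ Fin m) F) *ᵥ v) ≠ 0 ∧
      g * ((refl (qf m F) v : ↥(Iso m F)) : GL (Fin m ⊕ Fin m) F) * g⁻¹ =
        ((refl (qf m F) ((g : Matrix (Fin m ⊕ Fin m) (Fin m ⊕ Fin m) F) *ᵥ v) : ↥(Iso m F)) : GL (Fin m ⊕ Fin m) F) := by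
  have hv' : qf m F ((g : Matrix (Fin m ⊕ Fin m) (Fin m ⊕ Fin m) F) *ᵥ v) ≠ 0 := by
    rw [hg]; exact mul_ne_zero hc hv
  refine ⟨hv', Units.ext (Matrix.ext_iff_mulVec.mpr fun x => ?_)⟩
  obtain ⟨y, rfl⟩ : ∃ y, x = (g : Matrix (Fin m ⊕ Fin m) (Fin m ⊕ Fin m) F) *ᵥ y :=
    ⟨((g⁻¹ : GL (Fin m ⊕ Fin m) F) : Matrix (Fin m ⊕ Fin m) (Fin m ⊕ Fin m) F) *ᵥ x, by
      rw [mulVec_mulVec, ← Units.val_mul, mul_inv_cancel, Units.val_one, one_mulVec]⟩
  rw [Units.val_mul, Units.val_mul, mulVec_mulVec, mul_assoc, mul_assoc, ← Units.val_mul,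
    inv_mul_cancel, Units.val_one, mul_one, ← mulVec_mulVec]
  show (g : Matrix (Fin m ⊕ Fin m) (Fin m ⊕ Fin m) F) *ᵥ act (refl (qf m F) v) y =
    act (refl (qf m F) ((g : Matrix (Fin m ⊕ Fin m) (Fin m ⊕ Fin m) F) *ᵥ v)) ((g : Matrix (Fin m ⊕ Fin m) (Fin m ⊕ Fin m) F) *ᵥ y)
  have hpol : polar ⇑(qf m F) ((g : Matrix (Fin m ⊕ Fin m) (Fin m ⊕ Fin m) F) *ᵥ v)
      ((g : Matrix (Fin m ⊕ Fin m) (Fin m ⊕ Fin m) F) *ᵥ y) = c * polar ⇑(qf m F) v y := by
    simp only [polar, ← mulVec_add, hg]; ring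
  rw [Reflections.act_refl hv, Reflections.act_refl hv', hpol, hg, mulVec_sub, mulVec_smul]
  congr 2
  field_simp

omit [Fintype F] in
/-- Conjugation by a similarity. -/
noncomputable def conjIso {g : GL (Fin m ⊕ Fin m) F} (hg : g ∈ Sim m F) : ↥(Iso m F) →* ↥(Iso m F) :=
  ((MulAut.conj g).toMonoidHom.comp (Iso m F).subtype).codRestrict _ fun h => mem_iso.2 fun v => by
    obtain ⟨c, hc⟩ := hg
    obtain ⟨y, rfl⟩ : ∃ y, v = (g : Matrix (Fin m ⊕ Fin m) (Fin m ⊕ Fin m) F) *ᵥ y :=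
      ⟨((g⁻¹ : GL (Fin m ⊕ Fin m) F) : Matrix (Fin m ⊕ Fin m) (Fin m ⊕ Fin m) F) *ᵥ v, by
        rw [mulVec_mulVec, ← Units.val_mul, mul_inv_cancel, Units.val_one, one_mulVec]⟩
    show qf m F (((g * (h : GL (Fin m ⊕ Fin m) F) * g⁻¹ : GL (Fin m ⊕ Fin m) F) : Matrix (Fin m ⊕ Fin m) (Fin m ⊕ Fin m) F) *ᵥ _) = _
    rw [Units.val_mul, Units.val_mul, mulVec_mulVec, mul_assoc, mul_assoc, ← Units.val_mul,
      inv_mul_cancel, Units.val_one, mul_one, ← mulVec_mulVec, hc, hc, mem_iso.1 h.2]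

theorem cls0_conj (hm : 3 ≤ m) {g : GL (Fin m ⊕ Fin m) F} (hg : g ∈ Sim m F) (h : Iso m F) :
    cls0 (conjIso hg h) = cls0 h := by
  obtain ⟨c, hc⟩ := id hg
  have e : cls0.comp (conjIso hg) = (cls0 : ↥(Iso m F) →* _) := by
    refine hom_ext_refl hm fun v hv => ?_
    obtain ⟨hv', he⟩ := conj_refl_sim c.ne_zero hc hv
    rw [MonoidHom.comp_apply, show conjIso hg (refl (qf m F) v) =
      refl (qf m F) ((g : Matrix (Fin m ⊕ Fin m) (Fin m ⊕ Fin m) F) *ᵥ v) from Subtype.ext he,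
      cls0_refl hv, cls0_refl hv']
  exact congrArg (fun f => f h) e

/-! ### The class character on similarities -/

omit [Fintype F] in
/-- Diagonal matrices as a homomorphism. -/
def diagHom (m : ℕ) (F : Type u) [Field F] : (Fin m ⊕ Fin m → Fˣ) →* GL (Fin m ⊕ Fin m) F :=
  (Units.map (Matrix.diagonalRingHom (Fin m ⊕ Fin m) F : (Fin m ⊕ Fin m → F) →* Matrix (Fin m ⊕ Fin m) (Fin m ⊕ Fin m) F)).comp
    MulEquiv.piUnits.symm.toMonoidHom

omit [Fintype F] in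
theorem diagHom_coe (d : Fin m ⊕ Fin m → Fˣ) :
    (diagHom m F d : Matrix (Fin m ⊕ Fin m) (Fin m ⊕ Fin m) F) = Matrix.diagonal fun j => (d j : F) := rfl

omit [Fintype F] in
/-- The standard similarity of a given multiplier. -/
def delta (m : ℕ) (F : Type u) [Field F] : Fˣ →* GL (Fin m ⊕ Fin m) F :=
  (diagHom m F).comp (MonoidHom.mk' (fun c => Sum.elim (fun _ => c) fun _ => 1) fun a b => by
    funext j; rcases j with j | j <;> simp)

omit [Fintype F] in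
theorem delta_mulVec (c : Fˣ) (v : Fin m ⊕ Fin m → F) :
    (delta m F c : Matrix (Fin m ⊕ Fin m) (Fin m ⊕ Fin m) F) *ᵥ v =
      Sum.elim (fun j => (c : F) * v (.inl j)) (fun j => v (.inr j)) := by
  funext j
  rw [show (delta m F c : Matrix (Fin m ⊕ Fin m) (Fin m ⊕ Fin m) F) = Matrix.diagonal fun j =>
    (((Sum.elim (fun _ => c) fun _ => 1) j : Fˣ) : F) from rfl, mulVec_diagonal]
  rcases j with j | j <;> simp

omit [Fintype F] in
theorem qf_delta (c : Fˣ) (v : Fin m ⊕ Fin m → F) :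
    qf m F ((delta m F c : Matrix (Fin m ⊕ Fin m) (Fin m ⊕ Fin m) F) *ᵥ v) = (c : F) * qf m F v := by
  rw [delta_mulVec, qf_apply, qf_apply, Cfsg.quadFormPlus, Cfsg.quadFormPlus, Finset.mul_sum]
  exact Finset.sum_congr rfl fun j _ => mul_assoc _ _ _

omit [Fintype F] in
theorem delta_mem (c : Fˣ) : delta m F c ∈ Sim m F := ⟨c, qf_delta c⟩

omit [Fintype F] in
/-- The isometry part of a similarity. -/
noncomputable def isoPart (hm : 0 < m) (g : Sim m F) : ↥(Iso m F) :=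
  ⟨(g : GL (Fin m ⊕ Fin m) F) * (delta m F (mult (qf m F) (qf_e1 hm) g))⁻¹, mem_iso.2 fun v => by
    rw [Units.val_mul, ← mulVec_mulVec, mult_spec (qf m F) (qf_e1 hm)]
    conv_rhs => rw [show v = (delta m F (mult (qf m F) (qf_e1 hm) g) : Matrix (Fin m ⊕ Fin m) (Fin m ⊕ Fin m) F) *ᵥ
      (((delta m F (mult (qf m F) (qf_e1 hm) g))⁻¹ : GL (Fin m ⊕ Fin m) F) : Matrix (Fin m ⊕ Fin m) (Fin m ⊕ Fin m) F) *ᵥ v by
        rw [mulVec_mulVec, ← Units.val_mul, mul_inv_cancel, Units.val_one, one_mulVec], qf_delta]⟩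

omit [Fintype F] in
theorem isoPart_coe (hm : 0 < m) (g : Sim m F) :
    (isoPart hm g : GL (Fin m ⊕ Fin m) F) = (g : GL (Fin m ⊕ Fin m) F) * (delta m F (mult (qf m F) (qf_e1 hm) g))⁻¹ :=
  rfl

/-- The class character of the similarity group. -/
noncomputable def cls (hm : 3 ≤ m) : ↥(Sim m F) →* Multiplicative (ZMod 2) :=
  MonoidHom.mk' (fun g => cls0 (isoPart (Nat.zero_lt_of_lt hm) g)) fun g h => by
    set hm0 := Nat.zero_lt_of_lt hm
    rw [show isoPart hm0 (g * h) = isoPart hm0 g *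
      conjIso (delta_mem (mult (qf m F) (qf_e1 hm0) g)) (isoPart hm0 h) from Subtype.ext (by
        show ((g : GL (Fin m ⊕ Fin m) F) * (h : GL (Fin m ⊕ Fin m) F)) * (delta m F (mult (qf m F) (qf_e1 hm0) (g * h)))⁻¹ =
          (g : GL (Fin m ⊕ Fin m) F) * (delta m F (mult (qf m F) (qf_e1 hm0) g))⁻¹ *
          (delta m F (mult (qf m F) (qf_e1 hm0) g) *
            ((h : GL (Fin m ⊕ Fin m) F) * (delta m F (mult (qf m F) (qf_e1 hm0) h))⁻¹) *
            (delta m F (mult (qf m F) (qf_e1 hm0) g))⁻¹)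
        rw [map_mul, map_mul, _root_.mul_inv_rev]
        simp only [mul_assoc, inv_mul_cancel_left]), map_mul, cls0_conj hm]

theorem cls_def (hm : 3 ≤ m) (g : Sim m F) :
    cls hm g = cls0 (isoPart (Nat.zero_lt_of_lt hm) g) := rfl

/-- On isometries the character is the class character. -/
theorem cls_iso (hm : 3 ≤ m) (h : Iso m F) :
    cls hm ⟨(h : GL (Fin m ⊕ Fin m) F), iso_le_sim _ h.2⟩ = cls0 h := by
  rw [cls_def]
  congr 1
  apply Subtype.ext
  rw [isoPart_coe, show mult (qf m F) (qf_e1 (Nat.zero_lt_of_lt hm))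
    (⟨(h : GL (Fin m ⊕ Fin m) F), iso_le_sim _ h.2⟩ : Sim m F) = 1 from
      Units.ext (mult_eq _ _ _ fun v => by rw [Units.val_one, one_mul]; exact mem_iso.1 h.2 v),
    map_one, inv_one, mul_one]

theorem cls_refl (hm : 3 ≤ m) {v : Fin m ⊕ Fin m → F} (hv : qf m F v ≠ 0) {g : Sim m F}
    (hg : (g : GL (Fin m ⊕ Fin m) F) = ((refl (qf m F) v : ↥(Iso m F)) : GL (Fin m ⊕ Fin m) F)) :
    cls hm g = Multiplicative.ofAdd 1 := by
  rw [← cls0_refl hv, ← cls_iso hm]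
  exact congrArg _ (Subtype.ext hg)

omit [Fintype F] in
theorem finrank_max {U : Submodule F (Fin m ⊕ Fin m → F)} [Finite F]
    (hU : Cfsg.IsMaxTotallySingular ⇑(qf m F) U) :
    CG26.Plus.IsTS U ∧ Module.finrank F U = m := by
  have hts : CG26.Plus.IsTS U := fun u hu => hU.1 u hu
  refine ⟨hts, ?_⟩
  have hpl : ∀ v, UnitaryOrthogonal.qPlus m F v = qf m F v := fun v =>
    UnitaryOrthogonal.qPlus_apply m v
  refine UnitaryOrthogonal.TotSing.finrank_of_maximal (Q := UnitaryOrthogonal.qPlus m F)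
    (UnitaryOrthogonal.polarND_qPlus m) (by simp; omega) (W := CG26.Plus.std m F)
    (fun x hx => (hpl x).trans (CG26.Plus.std_ts x hx)) CG26.Plus.std_finrank
    (fun x hx => (hpl x).trans (hts x hx)) fun Y hY hle => ?_
  exact hU.2 Y (fun x hx => (hpl x).symm.trans (hY x hx)) hle

omit [Fintype F] in
theorem std_max [Finite F] :
    Cfsg.IsMaxTotallySingular ⇑(qf m F) (CG26.Plus.std m F) := by
  refine ⟨fun x hx => CG26.Plus.std_ts x hx, fun Y hY hle => ?_⟩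
  refine (Submodule.eq_of_le_of_finrank_le hle ?_).symm
  have h := UnitaryOrthogonal.TotSing.two_finrank_le (Q := UnitaryOrthogonal.qPlus m F) (U := Y)
    (UnitaryOrthogonal.polarND_qPlus m) fun x hx =>
      (UnitaryOrthogonal.qPlus_apply m x).trans (hY x hx)
  rw [CG26.Plus.std_finrank]
  simp at h
  omega

/-- The class character decides whether a similarity preserves the two classes. -/
theorem preserves_iff (hm : 3 ≤ m) (g : Sim m F) :
    Cfsg.PreservesSingularClasses ⇑(qf m F) ((g : GL (Fin m ⊕ Fin m) F) : Matrix (Fin m ⊕ Fin m) (Fin m ⊕ Fin m) F) ↔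
      cls hm g = 1 := by
  set G := ((g : GL (Fin m ⊕ Fin m) F) : Matrix (Fin m ⊕ Fin m) (Fin m ⊕ Fin m) F) with hG
  set S := CG26.Plus.std m F
  have hinj : Function.Injective (Matrix.toLin' G) := fun x y hxy => by
    have := congrArg ((((g : GL (Fin m ⊕ Fin m) F)⁻¹ : GL (Fin m ⊕ Fin m) F) : Matrix (Fin m ⊕ Fin m) (Fin m ⊕ Fin m) F) *ᵥ ·) hxy
    simpa [hG, Matrix.toLin'_apply, mulVec_mulVec, ← Units.val_mul] using this
  have hgS : Cfsg.imageSubmodule G S = Forms59.imgSub (toP (isoPart (Nat.zero_lt_of_lt hm) g)) S := by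
    set c := mult (qf m F) (qf_e1 (Nat.zero_lt_of_lt hm)) g
    set H := mat (toP (isoPart (Nat.zero_lt_of_lt hm) g))
    have hgH : G = H * (delta m F c : Matrix (Fin m ⊕ Fin m) (Fin m ⊕ Fin m) F) := by
      show G = ((((g : GL (Fin m ⊕ Fin m) F) * (delta m F c)⁻¹ : GL (Fin m ⊕ Fin m) F)) : Matrix (Fin m ⊕ Fin m) (Fin m ⊕ Fin m) F) * _
      rw [← Units.val_mul, inv_mul_cancel_right]
    ext x
    simp only [Cfsg.imageSubmodule, Forms59.imgSub, Submodule.mem_map, Matrix.toLin'_apply,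
      Matrix.mulVecLin_apply]
    constructor
    · rintro ⟨y, hy, rfl⟩
      exact ⟨(delta m F c : Matrix (Fin m ⊕ Fin m) (Fin m ⊕ Fin m) F) *ᵥ y, fun i => by
        rw [delta_mulVec]; exact hy i, by rw [hgH, mulVec_mulVec]⟩
    · rintro ⟨y, hy, rfl⟩
      refine ⟨((delta m F c⁻¹) : Matrix (Fin m ⊕ Fin m) (Fin m ⊕ Fin m) F) *ᵥ y, fun i => by
        rw [delta_mulVec]; exact hy i, ?_⟩
      rw [hgH, mulVec_mulVec, mul_assoc, ← Units.val_mul, ← map_mul, mul_inv_cancel, map_one,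
        Units.val_one, mul_one]
  have hstd : Cfsg.SameParityClass S (Cfsg.imageSubmodule G S) ↔ cls hm g = 1 := by
    rw [cls_def, cls0, MonoidHom.comp_apply, Forms59.classHom_eq_one_iff, Cfsg.SameParityClass, hgS,
      CG26.Plus.std_finrank]
    rfl
  refine ⟨fun h => hstd.1 (h S std_max), fun h U hU => ?_⟩
  obtain ⟨hUts, hUd⟩ := finrank_max hU
  have hts : ∀ W, CG26.Plus.IsTS W → CG26.Plus.IsTS (Cfsg.imageSubmodule G W) := by
    rintro W hW _ ⟨y, hy, rfl⟩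
    show qf m F (Matrix.toLin' G y) = 0
    rw [Matrix.toLin'_apply, hG, mult_spec (qf m F) (qf_e1 (Nat.zero_lt_of_lt hm)), show qf m F y = 0 from hW y hy, mul_zero]
  have hfr : ∀ W, Module.finrank F ↥(Cfsg.imageSubmodule G W) = Module.finrank F ↥W := fun W =>
    (Submodule.equivMapOfInjective _ hinj W).finrank_eq.symm
  have hgUS : Cfsg.imageSubmodule G U ⊓ Cfsg.imageSubmodule G S = Cfsg.imageSubmodule G (U ⊓ S) :=
    (Submodule.map_inf _ hinj).symm
  have h1 := hstd.2 h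
  rw [Cfsg.SameParityClass, CG26.Plus.std_finrank] at h1
  set gU := Cfsg.imageSubmodule G U
  set gS := Cfsg.imageSubmodule G S
  have hle : ∀ W W' : Submodule F (Fin m ⊕ Fin m → F), Module.finrank F W = m →
      Module.finrank F ↥(W ⊓ W') ≤ m := fun W W' hW =>
    (Submodule.finrank_mono inf_le_left).trans_eq hW
  obtain ⟨r₁, hr₁⟩ := CG26.Plus.parity CG26.Plus.std_ts CG26.Plus.std_finrank
    (m - Module.finrank F ↥(U ⊓ gU)) U gU hUts hUd (hts U hUts) (by rw [hfr, hUd])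
    (by have := hle U gU hUd; omega)
  obtain ⟨r₂, hr₂⟩ := CG26.Plus.parity (hts S CG26.Plus.std_ts) (by rw [hfr, CG26.Plus.std_finrank])
    (m - Module.finrank F ↥(gU ⊓ S)) gU S (hts U hUts) (by rw [hfr, hUd]) CG26.Plus.std_ts
    CG26.Plus.std_finrank (by have := hle gU S (by rw [hfr, hUd]); omega)
  have e : Module.finrank F ↥(gU ⊓ gS) = Module.finrank F ↥(U ⊓ S) := by rw [hgUS, hfr]
  have hr₁' : Module.finrank F ↥(U ⊓ S) + Module.finrank F ↥(gU ⊓ S) +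
      (m - Module.finrank F ↥(U ⊓ gU)) = r₁ + r₁ := hr₁
  have hr₂' : Module.finrank F ↥(gU ⊓ gS) + Module.finrank F ↥(S ⊓ gS) +
      (m - Module.finrank F ↥(gU ⊓ S)) = r₂ + r₂ := hr₂
  obtain ⟨t, ht⟩ := h1
  have := hle S gS CG26.Plus.std_finrank
  have := hle U gU hUd
  have := hle gU S (by rw [hfr, hUd])
  rw [Cfsg.SameParityClass, hUd]
  show Even (m - Module.finrank F ↥(U ⊓ gU))
  rw [Nat.even_iff]
  omega

theorem cls_scalar (hm : 3 ≤ m) (c : Fˣ) : cls hm ⟨scalarGL _ c, scalar_mem_sim _ c⟩ = (1 : Multiplicative (ZMod 2)) := by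
  refine (preserves_iff hm _).1 fun U _ => ?_
  have h : Cfsg.imageSubmodule ((scalarGL (Fin m ⊕ Fin m) c : GL (Fin m ⊕ Fin m) F) : Matrix (Fin m ⊕ Fin m) (Fin m ⊕ Fin m) F) U = U := by
    ext x
    simp only [Cfsg.imageSubmodule, Submodule.mem_map, Matrix.toLin'_apply, AutPSL.scalarGL_coe,
      smul_mulVec, one_mulVec]
    exact ⟨fun ⟨y, hy, e⟩ => e ▸ U.smul_mem _ hy,
      fun hx => ⟨(c : F)⁻¹ • x, U.smul_mem _ hx, smul_inv_smul₀ c.ne_zero x⟩⟩
  rw [Cfsg.SameParityClass, h, inf_idem, Nat.sub_self]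
  exact Even.zero

/-- The class-preserving similarities. -/
noncomputable def H (hm : 3 ≤ m) (F : Type u) [Field F] [Fintype F] : Subgroup (GL (Fin m ⊕ Fin m) F) :=
  (cls (m := m) (F := F) hm).ker.map (Sim m F).subtype

theorem mem_H (hm : 3 ≤ m) {g : GL (Fin m ⊕ Fin m) F} :
    g ∈ H hm F ↔ ∃ hg : g ∈ Sim m F, cls hm ⟨g, hg⟩ = 1 := by
  constructor
  · rintro ⟨⟨g, hg⟩, h, rfl⟩; exact ⟨hg, h⟩
  · rintro ⟨hg, h⟩; exact ⟨⟨g, hg⟩, h, rfl⟩

theorem H_le (hm : 3 ≤ m) : H hm F ≤ Sim m F := fun _ hg => ((mem_H hm).1 hg).1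

variable {F₀ : Type v} [Field F₀] [Fintype F₀]

omit [Fintype F] [Fintype F₀] in
theorem map_mem_sim (hm : 0 < m) (i : F₀ →+* F) {g : GL (Fin m ⊕ Fin m) F₀} :
    Matrix.GeneralLinearGroup.map i g ∈ Sim m F ↔ g ∈ Sim m F₀ :=
  map_mem_sim_iff (qf m F) (qf m F₀) i (qf_map i) (qf_e1 hm) g

omit [Fintype F] [Fintype F₀] in
theorem map_mem_iso (i : F₀ →+* F) (hm : 0 < m) (h : ↥(Iso m F₀)) :
    Matrix.GeneralLinearGroup.map i (h : GL (Fin m ⊕ Fin m) F₀) ∈ Iso m F := by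
  obtain ⟨c, hc⟩ := (map_mem_sim hm i).2 (iso_le_sim _ h.2)
  have h1 := hc (i ∘ e1 hm F₀)
  rw [show ((Matrix.GeneralLinearGroup.map i (h : GL (Fin m ⊕ Fin m) F₀) : GL (Fin m ⊕ Fin m) F) : Matrix _ _ F) *ᵥ
    (i ∘ e1 hm F₀) = i ∘ (((h : GL (Fin m ⊕ Fin m) F₀) : Matrix (Fin m ⊕ Fin m) (Fin m ⊕ Fin m) F₀) *ᵥ e1 hm F₀) from
      funext fun a => (RingHom.map_mulVec i _ _ a).symm, qf_map, qf_map, mem_iso.1 h.2, qf_e1,
    map_one, mul_one] at h1
  exact mem_iso.2 fun v => by rw [hc, ← h1, one_mul]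

/-- The class character is invariant under field embeddings. -/
theorem cls_map (hm : 3 ≤ m) (i : F₀ →+* F) (g : Sim m F₀) :
    cls hm (⟨Matrix.GeneralLinearGroup.map i (g : GL (Fin m ⊕ Fin m) F₀),
      (map_mem_sim (Nat.zero_lt_of_lt hm) i).2 g.2⟩ : Sim m F) = cls hm g := by
  set hm0 := Nat.zero_lt_of_lt hm
  let M : ↥(Iso m F₀) →* ↥(Iso m F) :=
    ((Matrix.GeneralLinearGroup.map i).comp (Iso m F₀).subtype).codRestrict _ fun h => map_mem_iso i hm0 h
  have e : cls0.comp M = (cls0 : ↥(Iso m F₀) →* _) := by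
    refine hom_ext_refl hm fun v hv => ?_
    have hv' : qf m F (i ∘ v) ≠ 0 := by rw [qf_map, map_ne_zero]; exact hv
    rw [MonoidHom.comp_apply, cls0_refl hv, ← cls0_refl hv']
    refine congrArg _ (Reflections.eq_of_mat ?_)
    show (mat (refl (qf m F₀) v)).map i = _
    rw [Reflections.mat_refl hv, Reflections.mat_refl hv']
    exact reflection_map i (qf_map i) v
  rw [cls_def, cls_def, ← e, MonoidHom.comp_apply]
  congr 1
  apply Subtype.ext
  show _ = Matrix.GeneralLinearGroup.map i ((g : GL (Fin m ⊕ Fin m) F₀) * _)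
  rw [isoPart_coe, map_mul, map_inv]
  congr 2
  have hμ : mult (qf m F) (qf_e1 hm0) (⟨Matrix.GeneralLinearGroup.map i (g : GL (Fin m ⊕ Fin m) F₀),
      (map_mem_sim hm0 i).2 g.2⟩ : Sim m F) = Units.map (i : F₀ →* F) (mult (qf m F₀) (qf_e1 hm0) g) := by
    obtain ⟨c, hc⟩ := (map_mem_sim hm0 i).2 g.2
    refine Units.ext ((mult_eq _ _ _ hc).trans ?_)
    have h1 := hc (i ∘ e1 hm0 F₀)
    rw [show ((Matrix.GeneralLinearGroup.map i (g : GL (Fin m ⊕ Fin m) F₀) : GL (Fin m ⊕ Fin m) F) : Matrix _ _ F) *ᵥ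
      (i ∘ e1 hm0 F₀) = i ∘ (((g : GL (Fin m ⊕ Fin m) F₀) : Matrix (Fin m ⊕ Fin m) (Fin m ⊕ Fin m) F₀) *ᵥ e1 hm0 F₀) from
        funext fun a => (RingHom.map_mulVec i _ _ a).symm, qf_map, qf_map,
      mult_spec (qf m F₀) (qf_e1 hm0), qf_e1, map_mul, map_one, mul_one, mul_one] at h1
    exact h1.symm
  rw [hμ]
  apply Units.ext
  ext a b
  show (diagonal fun j => ((Sum.elim (fun _ => Units.map (i : F₀ →* F) (mult (qf m F₀) (qf_e1 hm0) g))
    (fun _ => 1) j : Fˣ) : F)) a b = i ((diagonal fun j => ((Sum.elim (fun _ => mult (qf m F₀) (qf_e1 hm0) g)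
    (fun _ => 1) j : F₀ˣ) : F₀)) a b)
  by_cases hab : a = b
  · subst hab; rcases a with a | a <;> simp
  · simp [hab]

/-- The class character is invariant under field automorphisms. -/
theorem cls_fieldMap (hm : 3 ≤ m) (σ : F ≃+* F) (g : Sim m F) :
    cls hm ⟨fieldMap σ (g : GL (Fin m ⊕ Fin m) F), (map_mem_sim (Nat.zero_lt_of_lt hm) σ.toRingHom).2 g.2⟩ =
      cls hm g :=
  cls_map hm σ.toRingHom g

theorem map_mem_H (hm : 3 ≤ m) (i : F₀ →+* F) (g : GL (Fin m ⊕ Fin m) F₀) :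
    Matrix.GeneralLinearGroup.map i g ∈ H hm F ↔ g ∈ H hm F₀ := by
  rw [mem_H, mem_H]
  constructor
  · rintro ⟨hg, h⟩
    exact ⟨(map_mem_sim (Nat.zero_lt_of_lt hm) i).1 hg,
      (cls_map hm i ⟨g, (map_mem_sim (Nat.zero_lt_of_lt hm) i).1 hg⟩).symm.trans h⟩
  · rintro ⟨hg, h⟩
    exact ⟨_, (cls_map hm i ⟨g, hg⟩).trans h⟩

theorem hasSiegel (hm : 3 ≤ m) : HasSiegel (qf m F) :=
  Orth.hasSiegel _ qf_nondeg (by simp; omega)

theorem rho_mem_H (hm : 3 ≤ m) (s : ↥(Cfsg.Omega F ⇑(qf m F))) : rho ⇑(qf m F) s ∈ H hm F :=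
  (mem_H hm).2 ⟨iso_le_sim _ s.1.2, (cls_iso hm s.1).trans
    (Abelianization.commutator_subset_ker (cls0 (m := m) (F := F)) s.2)⟩

theorem setting (hm : 3 ≤ m) : Setting (rho (Cfsg.quadFormPlus m F)) (H hm F) ⊤ :=
  Orth.setting (qf m F) hm (frame m F) (hasSiegel hm) qf_sigma (H_le hm)
    (fun c => (mem_H hm).2 ⟨scalar_mem_sim _ c, cls_scalar hm c⟩) (rho_mem_H hm)
    (fun g hg σ => (map_mem_H hm σ.toRingHom g).2 hg)

theorem range_eq (hm : 3 ≤ m) (hS : Setting (rho (Cfsg.quadFormPlus m F)) (H hm F) ⊤) :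
    (conjH hS).range = Cfsg.inndiagPOmegaPlus m F := by
  rw [conjH_range]
  refine congrArg Cfsg.autSubgroupOf (funext fun β => propext (exists_congr fun g => ?_))
  rw [mem_H hm]
  constructor
  · rintro ⟨⟨hg, h⟩, hb⟩
    exact ⟨hg, (preserves_iff hm ⟨g, hg⟩).2 h, induced_iff.2 hb⟩
  · rintro ⟨hg, hp, hb⟩
    exact ⟨⟨hg, (preserves_iff hm ⟨g, hg⟩).1 hp⟩, induced_iff.1 hb⟩

end Cfsg.Agent.FieldAutGen.Plus
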