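import Mathlib
import Cfsg.Agent.FieldAutGen.PlusBasic
import Cfsg.Agent.Forms59.Elliptic2

/-!
Twisted cocycles of the similarity group of the hyperbolic form: they are coboundaries or descend the
form to a form of minus type (helper60).
-/

set_option autoImplicit false
set_option maxHeartbeats 400000

namespace Cfsg.Agent.FieldAutGen.Plus

open Matrix QuadraticMap
open Cfsg.Agent.AutPSL (fieldMap scalarGL normGL)
open Cfsg.Agent.FieldAutGen.Orth
open Cfsg.Agent.Reflections (refl)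

universe u v

variable {m : ℕ} {F : Type u} [Field F]

/-- Coordinates of the minus-type form. -/
noncomputable def mIdx (hm : 0 < m) :
    Fin m ⊕ Fin m ≃ (Fin (m - 1) ⊕ Fin (m - 1)) ⊕ Fin 2 :=
  Fintype.equivOfCardEq (by simp; omega)

/-- The minus-type form with coefficients `(1, ζ)` on the coordinates of the hyperbolic form. -/
noncomputable def qm (hm : 0 < m) (F : Type u) [Field F] (ζ : F) :
    QuadraticForm F (Fin m ⊕ Fin m → F) :=
  (Forms59.minusQF F (m - 1) 1 ζ).comp (LinearMap.funLeft F F (mIdx hm).symm)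

theorem qm_apply (hm : 0 < m) (ζ : F) (x : Fin m ⊕ Fin m → F) :
    qm hm F ζ x = Cfsg.quadFormMinus (m - 1) F 1 ζ (x ∘ (mIdx hm).symm) := by
  show Forms59.minusQF F (m - 1) 1 ζ _ = _
  rw [Forms59.coe_minusQF]
  rfl

theorem qm_map {K : Type v} [Field K] (i : F →+* K) (hm : 0 < m) (ζ : F)
    (x : Fin m ⊕ Fin m → F) : qm hm K (i ζ) (i ∘ x) = i (qm hm F ζ x) := by
  simp [qm_apply, Cfsg.quadFormMinus]

/-- `g` descends the hyperbolic form to a form of minus type over the fixed field of `σ`. -/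
def IsMinusTwist (hm : 0 < m) (σ : F ≃+* F) (g : GL (Fin m ⊕ Fin m) F) : Prop :=
  ∃ (h : GL (Fin m ⊕ Fin m) F) (ν : Fˣ) (ζ : F), g = h * (fieldMap σ h)⁻¹ ∧ σ ζ = ζ ∧
    (∀ t : F, σ t = t → t ^ 2 + t + ζ ≠ 0) ∧
    ∀ v, qf m F ((h : Matrix (Fin m ⊕ Fin m) (Fin m ⊕ Fin m) F) *ᵥ v) = (ν : F) * qm hm F ζ v

theorem normGL_of_fixed {σ : F ≃+* F} {t : GL (Fin m ⊕ Fin m) F} (ht : fieldMap σ t = t) :
    ∀ k : ℕ, normGL σ t k = t ^ k
  | 0 => rfl
  | k + 1 => by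
    show t * fieldMap σ (normGL σ t k) = _
    rw [normGL_of_fixed ht k, map_pow, ht, pow_succ']

theorem eq_ofAdd_one {x : Multiplicative (ZMod 2)} (h : x ≠ 1) : x = Multiplicative.ofAdd 1 :=
  (show ∀ y : Multiplicative (ZMod 2), y ≠ 1 → y = Multiplicative.ofAdd 1 by decide) x h

variable [Finite F]

theorem dichotomy (hm : 3 ≤ m) {σ : F ≃+* F} {g : GL (Fin m ⊕ Fin m) F} (hg : g ∈ Sim m F)
    (hN : normGL σ g (orderOf σ) = 1) :
    (∃ h ∈ Sim m F, g = h * (fieldMap σ h)⁻¹) ∨ IsMinusTwist (Nat.zero_lt_of_lt hm) σ g := by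
  have hm0 := Nat.zero_lt_of_lt hm
  haveI : Nonempty (Fin m ⊕ Fin m) := ⟨.inl ⟨0, hm0⟩⟩
  obtain ⟨h, ν, Q₀, hh, hQ₀, hx⟩ := exists_descended (qf m F) qf_nondeg (qf_sigma σ) hg hN
  have hrank : Module.finrank (fixField σ) (Fin m ⊕ Fin m → fixField σ) = 2 * m := by
    rw [Module.finrank_fintype_fun_eq_card, Fintype.card_sum, Fintype.card_fin]; omega
  rcases Forms59.exists_normal_form Q₀ hQ₀ with
    ⟨k, hk, e, he⟩ | ⟨k, hk, -⟩ | ⟨k, hk, ζ, e, hζ, he⟩
  · obtain rfl : k = m := by omega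
    exact Or.inl (assemble (qf k F) hh Q₀ hx (qf k (fixField σ))
      (fun x => qf_map (fixField σ).subtype x) e.symm 1 one_ne_zero
      fun x => by rw [he, e.apply_symm_apply, one_mul, qf_apply])
  · omega
  · obtain rfl : k = m - 1 := by omega
    let L := LinearEquiv.funCongrLeft (fixField σ) (fixField σ) (mIdx hm0).symm
    obtain ⟨K₂, hK₂, hv⟩ := assemble_two (qf m F) (qm hm0 F (ζ : F)) Q₀ hx
      (qm hm0 (fixField σ) ζ) (fun x => qm_map (fixField σ).subtype hm0 ζ x)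
      (L.trans e.symm) 1 fun x => by
        rw [he, LinearEquiv.trans_apply, e.apply_symm_apply, one_mul, qm_apply]
        rfl
    refine Or.inr ⟨h * K₂, ν, ζ, ?_, fixField_fixed ζ, fun t ht he0 => hζ ⟨t, ht⟩ ?_, fun v => ?_⟩
    · rw [map_mul, hK₂, _root_.mul_inv_rev, mul_assoc, mul_inv_cancel_left, ← hh]
    · exact Subtype.ext (by simpa using he0)
    · rw [hv, OneMemClass.coe_one, mul_one]

/-- Two cocycles of minus type differ by a twisted conjugation. -/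
theorem two_minus (hm : 0 < m) {σ : F ≃+* F} {g t : GL (Fin m ⊕ Fin m) F}
    (hg : IsMinusTwist hm σ g) (ht : IsMinusTwist hm σ t) :
    ∃ s ∈ Sim m F, g = s * t * (fieldMap σ s)⁻¹ := by
  obtain ⟨hg', νg, ζ₁, eg, f₁, r₁, vg⟩ := hg
  obtain ⟨ht', νt, ζ₂, et, f₂, r₂, vt⟩ := ht
  let z₁ : fixField σ := ⟨ζ₁, f₁⟩
  let z₂ : fixField σ := ⟨ζ₂, f₂⟩
  have hr₁ : ∀ x : fixField σ, x ^ 2 + x + z₁ ≠ 0 := fun x hx =>
    r₁ x (fixField_fixed x) (by simpa [z₁] using congrArg Subtype.val hx)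
  have hr₂ : ∀ x : fixField σ, x ^ 2 + x + z₂ ≠ 0 := fun x hx =>
    r₂ x (fixField_fixed x) (by simpa [z₂] using congrArg Subtype.val hx)
  obtain ⟨M, hM⟩ := Forms59.exists_binary_isometry z₂ z₁ hr₂ hr₁
  obtain ⟨T, hT⟩ := Forms59.exists_isometry_minus_of_binary (m - 1) 1 z₂ 1 z₁ M hM
  let L := LinearEquiv.funCongrLeft (fixField σ) (fixField σ) (mIdx hm).symm
  obtain ⟨K₂, hK₂, hv⟩ := assemble_two (qm hm F ζ₁) (qm hm F ζ₂) (h := 1) (ν := 1)
    (qm hm (fixField σ) z₁)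
    (fun x => by
      rw [Units.val_one, one_mulVec, Units.val_one, one_mul]
      exact qm_map (fixField σ).subtype hm z₁ x)
    (qm hm (fixField σ) z₂) (fun x => qm_map (fixField σ).subtype hm z₂ x)
    ((L.trans T).trans L.symm) 1 fun x => by
      rw [one_mul, qm_apply, qm_apply]
      show Cfsg.quadFormMinus _ _ 1 z₁ (L (L.symm (T (L x)))) = _
      rw [L.apply_symm_apply, hT]
      rfl
  refine ⟨hg' * K₂ * ht'⁻¹, ⟨νg * νt⁻¹, fun w => ?_⟩, ?_⟩
  · obtain ⟨u, rfl⟩ : ∃ u, w = (ht' : Matrix (Fin m ⊕ Fin m) (Fin m ⊕ Fin m) F) *ᵥ u :=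
      ⟨((ht'⁻¹ : GL (Fin m ⊕ Fin m) F) : Matrix (Fin m ⊕ Fin m) (Fin m ⊕ Fin m) F) *ᵥ w, by
        rw [mulVec_mulVec, ← Units.val_mul, mul_inv_cancel, Units.val_one, one_mulVec]⟩
    rw [mulVec_mulVec, ← Units.val_mul, inv_mul_cancel_right, Units.val_mul, ← mulVec_mulVec, vg, vt,
      Units.val_mul, ← mul_assoc, mul_assoc (νg : F), ← Units.val_mul, inv_mul_cancel, Units.val_one,
      mul_one]
    congr 1
    simpa using hv u
  · rw [eg, et, map_mul, map_mul, map_inv, hK₂]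
    group

/-- In an extension of odd degree there are no cocycles of minus type. -/
theorem no_minus_odd (hm : 0 < m) {σ : F ≃+* F} (hr : Odd (orderOf σ)) {g : GL (Fin m ⊕ Fin m) F}
    (hg : IsMinusTwist hm σ g) : False := by
  obtain ⟨h, ν, ζ, -, hζ, hroot, hv⟩ := hg
  have hnr : ∀ t : F, t ^ 2 + t + ζ ≠ 0 := by
    intro t ht
    have hs : σ t ^ 2 + σ t + ζ = 0 := by
      have := congrArg σ ht
      rwa [map_add, map_add, map_pow, hζ, map_zero] at this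
    have hts : σ t ≠ t := fun e => hroot t e ht
    have h2 : σ t = -1 - t := by
      have : (σ t - t) * (σ t + t + 1) = 0 := by linear_combination hs - ht
      linear_combination (mul_eq_zero.1 this).resolve_left (sub_ne_zero.2 hts)
    have h3 : σ (σ t) = t := by
      conv_lhs => rw [h2, map_sub, map_neg, map_one, h2]
      ring
    have h4 : ∀ k : ℕ, (σ ^ (2 * k + 1)) t = σ t := by
      intro k
      induction k with
      | zero => simp
      | succ k ih =>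
        rw [show 2 * (k + 1) + 1 = 2 + (2 * k + 1) by ring, pow_add]
        show (σ ^ 2) ((σ ^ (2 * k + 1)) t) = _
        rw [ih, pow_two]
        exact congrArg σ h3
    obtain ⟨k, hk⟩ := hr
    have := h4 k
    rw [← hk, pow_orderOf_eq_one] at this
    exact hts this.symm
  let φ : (Fin m ⊕ Fin m → F) →ₗ[F] ((Fin (m - 1) ⊕ Fin (m - 1)) ⊕ Fin 2 → F) :=
    (LinearMap.funLeft F F (mIdx hm).symm).comp
      (((h⁻¹ : GL (Fin m ⊕ Fin m) F) : Matrix (Fin m ⊕ Fin m) (Fin m ⊕ Fin m) F).mulVecLin)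
  have hφ : Function.Injective φ := by
    have hi := LinearMap.funLeft_injective_of_surjective F F _ (mIdx hm).symm.surjective
    intro x y hxy
    have h1 : ((h⁻¹ : GL (Fin m ⊕ Fin m) F) : Matrix (Fin m ⊕ Fin m) (Fin m ⊕ Fin m) F) *ᵥ x =
        ((h⁻¹ : GL (Fin m ⊕ Fin m) F) : Matrix (Fin m ⊕ Fin m) (Fin m ⊕ Fin m) F) *ᵥ y := hi hxy
    have h2 := congrArg ((h : Matrix (Fin m ⊕ Fin m) (Fin m ⊕ Fin m) F) *ᵥ ·) h1
    simp only [mulVec_mulVec, ← Units.val_mul, mul_inv_cancel, Units.val_one, one_mulVec] at h2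
    exact h2
  have := Forms59.finrank_le_of_totally_singular_minus (m - 1) 1 ζ
    (Forms59.anisotropic_of_no_root ζ hnr) ((CG26.Plus.std m F).map φ) (by
      rintro _ ⟨x, hx, rfl⟩
      have h1 := hv (((h⁻¹ : GL (Fin m ⊕ Fin m) F) : Matrix (Fin m ⊕ Fin m) (Fin m ⊕ Fin m) F) *ᵥ x)
      rw [mulVec_mulVec, ← Units.val_mul, mul_inv_cancel, Units.val_one, one_mulVec,
        show qf m F x = 0 from CG26.Plus.std_ts x hx, qm_apply, eq_comm, mul_eq_zero] at h1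
      exact h1.resolve_left ν.ne_zero)
  rw [← (Submodule.equivMapOfInjective φ hφ _).finrank_eq, CG26.Plus.std_finrank] at this
  omega

variable [Fintype F]

omit [Finite F] in
theorem cls_twist (hm : 3 ≤ m) {σ : F ≃+* F} {s t : GL (Fin m ⊕ Fin m) F} (hs : s ∈ Sim m F)
    (ht : t ∈ Sim m F) {g : Sim m F} (hg : (g : GL (Fin m ⊕ Fin m) F) = s * t * (fieldMap σ s)⁻¹) :
    cls hm g = cls hm ⟨t, ht⟩ := by
  have e : g = ⟨s, hs⟩ * ⟨t, ht⟩ *
      (⟨fieldMap σ s, (map_mem_sim (Nat.zero_lt_of_lt hm) σ.toRingHom).2 hs⟩ : Sim m F)⁻¹ :=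
    Subtype.ext hg
  rw [e, map_mul, map_mul, map_inv, cls_fieldMap hm σ ⟨s, hs⟩, mul_comm (cls hm ⟨s, hs⟩),
    mul_inv_cancel_right]

omit [Finite F] in
theorem cls_coboundary (hm : 3 ≤ m) {σ : F ≃+* F} {h : GL (Fin m ⊕ Fin m) F} (hh : h ∈ Sim m F)
    {g : Sim m F} (hg : (g : GL (Fin m ⊕ Fin m) F) = h * (fieldMap σ h)⁻¹) : cls hm g = 1 := by
  rw [cls_twist hm hh (one_mem _) (g := g) (by rw [mul_one]; exact hg)]
  exact map_one _

/-- A cocycle outside the class-preserving group is a twisted conjugate of a given fixed one. -/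
theorem exists_twist_conj (hm : 3 ≤ m) {σ : F ≃+* F} {g t : Sim m F}
    (hgN : normGL σ (g : GL (Fin m ⊕ Fin m) F) (orderOf σ) = 1)
    (htN : normGL σ (t : GL (Fin m ⊕ Fin m) F) (orderOf σ) = 1)
    (htσ : fieldMap σ (t : GL (Fin m ⊕ Fin m) F) = t) (hgt : cls hm g = cls hm t) (ht1 : cls hm t ≠ 1) :
    ∃ s ∈ H hm F, (g : GL (Fin m ⊕ Fin m) F) = s * t * (fieldMap σ s)⁻¹ := by
  have minus : ∀ x : Sim m F, normGL σ (x : GL (Fin m ⊕ Fin m) F) (orderOf σ) = 1 → cls hm x ≠ 1 →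
      IsMinusTwist (Nat.zero_lt_of_lt hm) σ (x : GL (Fin m ⊕ Fin m) F) := fun x hN hx => by
    rcases dichotomy hm x.2 hN with ⟨h, hh, e⟩ | h
    · exact absurd (cls_coboundary hm hh e) hx
    · exact h
  obtain ⟨s, hs, e⟩ := two_minus (Nat.zero_lt_of_lt hm) (minus g hgN (hgt ▸ ht1)) (minus t htN ht1)
  by_cases h1 : cls hm ⟨s, hs⟩ = 1
  · exact ⟨s, (mem_H hm).2 ⟨hs, h1⟩, e⟩
  · refine ⟨s * (t : GL (Fin m ⊕ Fin m) F), (mem_H hm).2 ⟨mul_mem hs t.2, ?_⟩, ?_⟩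
    · rw [show (⟨s * (t : GL (Fin m ⊕ Fin m) F), mul_mem hs t.2⟩ : Sim m F) =
        (⟨s, hs⟩ : Sim m F) * t from Subtype.ext rfl, map_mul, eq_ofAdd_one h1, eq_ofAdd_one ht1]
      decide
    · rw [e, map_mul, htσ]
      group

/-- The reflection in a vector of value one. -/
noncomputable def r1 (hm : 0 < m) (F : Type u) [Field F] : GL (Fin m ⊕ Fin m) F :=
  ((refl (qf m F) (e1 hm F) : ↥(Iso m F)) : GL (Fin m ⊕ Fin m) F)

omit [Finite F] [Fintype F] in
theorem r1_mem (hm : 0 < m) : r1 hm F ∈ Sim m F :=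
  iso_le_sim _ (refl (qf m F) (e1 hm F)).2

omit [Finite F] [Fintype F] in
theorem r1_fixed (hm : 0 < m) (σ : F ≃+* F) : fieldMap σ (r1 hm F) = r1 hm F :=
  Units.ext (by
    show (Reflections.mat (refl (qf m F) (e1 hm F))).map σ = Reflections.mat (refl (qf m F) (e1 hm F))
    rw [Reflections.mat_refl (by rw [qf_e1]; exact one_ne_zero)]
    exact reflection_fixed (qf_sigma σ) fun j => congrFun (e1_fixed hm σ) j)

omit [Finite F] [Fintype F] in
theorem r1_sq (hm : 0 < m) : r1 hm F * r1 hm F = 1 :=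
  congrArg Subtype.val (Reflections.refl_mul_self (Q := qf m F) (v := e1 hm F)
    (by rw [qf_e1]; exact one_ne_zero))

omit [Finite F] in
theorem cls_r1 (hm : 3 ≤ m) :
    cls hm (⟨r1 (Nat.zero_lt_of_lt hm) F, r1_mem (Nat.zero_lt_of_lt hm)⟩ : Sim m F) =
      Multiplicative.ofAdd 1 :=
  cls_refl hm (by rw [qf_e1]; exact one_ne_zero) rfl

/-- Hilbert 90 for the class-preserving similarities. -/
theorem exists_coboundary (hm : 3 ≤ m) {σ : F ≃+* F} :
    ∀ g ∈ H hm F, normGL σ g (orderOf σ) = 1 → ∃ h ∈ H hm F, g = h * (fieldMap σ h)⁻¹ := by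
  intro g hg hN
  obtain ⟨hgs, hg1⟩ := (mem_H hm).1 hg
  have hm0 := Nat.zero_lt_of_lt hm
  rcases dichotomy hm hgs hN with ⟨h, hh, e⟩ | hmin
  · by_cases h1 : cls hm ⟨h, hh⟩ = 1
    · exact ⟨h, (mem_H hm).2 ⟨hh, h1⟩, e⟩
    · refine ⟨h * r1 hm0 F, (mem_H hm).2 ⟨mul_mem hh (r1_mem hm0), ?_⟩, ?_⟩
      · rw [show (⟨h * r1 hm0 F, mul_mem hh (r1_mem hm0)⟩ : Sim m F) =
          (⟨h, hh⟩ : Sim m F) * (⟨r1 hm0 F, r1_mem hm0⟩ : Sim m F) from Subtype.ext rfl, map_mul, eq_ofAdd_one h1, cls_r1 hm]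
        decide
      · rw [e, map_mul, r1_fixed]
        group
  · exfalso
    rcases Nat.even_or_odd (orderOf σ) with hev | hodd
    · have hN0 : normGL σ (r1 hm0 F) (orderOf σ) = 1 := by
        obtain ⟨k, hk⟩ := hev
        rw [normGL_of_fixed (r1_fixed hm0 σ), hk, ← two_mul, pow_mul, pow_two, r1_sq, one_pow]
      rcases dichotomy hm (r1_mem hm0) hN0 with ⟨h, hh, e⟩ | hmin0
      · exact absurd ((cls_r1 hm).symm.trans (cls_coboundary hm hh e)) (by decide)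
      · obtain ⟨s, hs, e⟩ := two_minus hm0 hmin hmin0
        have := cls_twist hm hs (r1_mem hm0) (g := ⟨g, hgs⟩) e
        rw [hg1, cls_r1 hm] at this
        exact absurd this (by decide)
    · exact no_minus_odd hm0 hodd hmin

end Cfsg.Agent.FieldAutGen.Plus
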