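import Mathlib
import Cfsg.Agent.FieldAutGen.PlusDescent

/-!
The class-preserving similarities of a form of minus type through a splitting over the quadratic
extension, and the setting of `FieldAutGen` for `PΩ⁻` (helper60).
-/

set_option autoImplicit false
set_option maxHeartbeats 400000

namespace Cfsg.Agent.FieldAutGen.Minus

open Matrix QuadraticMap
open Cfsg.Agent.AutPSL (fieldMap scalarGL Normalises Induced)
open Cfsg.Agent.FieldAutGen.Orth

universe u v w

/-- Reindexing of invertible matrices. -/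
def re {ι ι' : Type} [Fintype ι] [DecidableEq ι] [Fintype ι'] [DecidableEq ι'] (e : ι ≃ ι')
    (F : Type u) [Field F] : GL ι F ≃* GL ι' F :=
  Units.mapEquiv (Matrix.reindexAlgEquiv F F e).toRingEquiv.toMulEquiv

section general

variable {ι ι' : Type} [Fintype ι] [DecidableEq ι] [Fintype ι'] [DecidableEq ι'] {K : Type u} [Field K]

theorem re_coe (e : ι ≃ ι') (g : GL ι K) :
    ((re e K g : GL ι' K) : Matrix ι' ι' K) = (g : Matrix ι ι K).submatrix e.symm e.symm := rfl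

theorem re_mulVec (e : ι ≃ ι') (g : GL ι K) (x : ι' → K) :
    ((re e K g : GL ι' K) : Matrix ι' ι' K) *ᵥ x = ((g : Matrix ι ι K) *ᵥ (x ∘ e)) ∘ e.symm := by
  rw [re_coe, submatrix_mulVec_equiv, Equiv.symm_symm]

theorem re_map {F : Type v} [Field F] (i : F →+* K) (e : ι ≃ ι') (g : GL ι F) :
    Matrix.GeneralLinearGroup.map i (re e F g) = re e K (Matrix.GeneralLinearGroup.map i g) :=
  Units.ext (Matrix.ext fun _ _ => rfl)

variable {Q : (ι → K) → K} {Q' : (ι' → K) → K} (L : (ι' → K) ≃ₗ[K] (ι → K)) {ν : K}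

theorem sim_transport (hν : ν ≠ 0) (hL : ∀ v, Q (L v) = ν * Q' v) {g : GL ι K} {g' : GL ι' K}
    (hg : ∀ v, (g : Matrix ι ι K) *ᵥ L v = L ((g' : Matrix ι' ι' K) *ᵥ v)) :
    g ∈ Cfsg.Geo.quadSimilarityGroup (F := K) Q ↔ g' ∈ Cfsg.Geo.quadSimilarityGroup (F := K) Q' := by
  constructor
  · rintro ⟨c, hc⟩
    refine ⟨c, fun v => mul_left_cancel₀ hν ?_⟩
    rw [← hL, ← hg, hc, hL, mul_left_comm]
  · rintro ⟨c, hc⟩
    refine ⟨c, fun w => ?_⟩
    obtain ⟨v, rfl⟩ := L.surjective w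
    rw [hg, hL, hc, hL, mul_left_comm]

theorem preserves_transport (hν : ν ≠ 0) (hL : ∀ v, Q (L v) = ν * Q' v) {g : Matrix ι ι K}
    {g' : Matrix ι' ι' K} (hg : ∀ v, g *ᵥ L v = L (g' *ᵥ v)) :
    Cfsg.PreservesSingularClasses Q' g' ↔ Cfsg.PreservesSingularClasses Q g := by
  set f : Submodule K (ι' → K) → Submodule K (ι → K) := Submodule.map L.toLinearMap with hf
  have hmem : ∀ U x, L x ∈ f U ↔ x ∈ U := fun U x =>
    ⟨fun ⟨y, hy, e⟩ => L.injective e ▸ hy, fun h => ⟨x, h, rfl⟩⟩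
  have hts : ∀ U, Cfsg.Geo.IsTotallySingularQuad Q (f U) ↔ Cfsg.Geo.IsTotallySingularQuad Q' U := by
    intro U
    refine ⟨fun h x hx => ?_, fun h y hy => ?_⟩
    · have h1 := h (L x) ((hmem U x).2 hx)
      rw [hL] at h1
      exact (mul_eq_zero.1 h1).resolve_left hν
    · obtain ⟨x, hx, rfl⟩ := hy
      show Q (L x) = 0
      rw [hL, show Q' x = 0 from h x hx, mul_zero]
  have hsurj : ∀ W, ∃ U, f U = W := fun W =>
    ⟨W.map L.symm.toLinearMap, by
      ext x
      constructor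
      · rintro ⟨_, ⟨z, hz, rfl⟩, rfl⟩; simpa using hz
      · exact fun hx => ⟨L.symm x, ⟨x, hx, rfl⟩, L.apply_symm_apply x⟩⟩
  have hle : ∀ U V, f U ≤ f V ↔ U ≤ V := fun U V =>
    ⟨fun h x hx => (hmem V x).1 (h ((hmem U x).2 hx)), fun h => Submodule.map_mono h⟩
  have hmax : ∀ U, Cfsg.IsMaxTotallySingular Q (f U) ↔ Cfsg.IsMaxTotallySingular Q' U := by
    intro U
    refine ⟨fun h => ⟨(hts U).1 h.1, fun V hV hUV => ?_⟩, fun h => ⟨(hts U).2 h.1, fun W hW hUW => ?_⟩⟩
    · exact Submodule.map_injective_of_injective L.injective (h.2 (f V) ((hts V).2 hV) ((hle U V).2 hUV))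
    · obtain ⟨V, rfl⟩ := hsurj W
      rw [h.2 V ((hts V).1 hW) ((hle U V).1 hUW)]
  have himg : ∀ U, Cfsg.imageSubmodule g (f U) = f (Cfsg.imageSubmodule g' U) := fun U => by
    show (U.map L.toLinearMap).map (Matrix.toLin' g) = (U.map (Matrix.toLin' g')).map L.toLinearMap
    rw [← Submodule.map_comp, ← Submodule.map_comp]
    congr 1
    exact LinearMap.ext fun v => by simpa [Matrix.toLin'_apply] using hg v
  have hpar : ∀ U V, Cfsg.SameParityClass (f U) (f V) ↔ Cfsg.SameParityClass U V := fun U V => by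
    rw [Cfsg.SameParityClass, Cfsg.SameParityClass, hf, ← Submodule.map_inf _ L.injective,
      LinearEquiv.finrank_map_eq, LinearEquiv.finrank_map_eq]
  refine ⟨fun h W hW => ?_, fun h U hU => ?_⟩
  · obtain ⟨U, rfl⟩ := hsurj W
    rw [himg, hpar]
    exact h U ((hmax U).1 hW)
  · have := h (f U) ((hmax U).2 hU)
    rwa [himg, hpar] at this

end general

variable {k : ℕ} {F : Type u} [Field F] {a b : F}

/-- The coordinate index type. -/
abbrev Idx (k : ℕ) : Type := (Fin k ⊕ Fin k) ⊕ Fin 2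

/-- The minus-type form. -/
noncomputable def qf (k : ℕ) (F : Type u) [Field F] (a b : F) : QuadraticForm F (Idx k → F) :=
  (Forms59.minusQF F k a b).copy (Cfsg.quadFormMinus k F a b) (Forms59.coe_minusQF F k a b).symm

theorem qf_apply (v : Idx k → F) : qf k F a b v = Cfsg.quadFormMinus k F a b v := rfl

theorem qf_map {K : Type v} [Field K] (i : F →+* K) (x : Idx k → F) :
    qf k K (i a) (i b) (i ∘ x) = i (qf k F a b x) := by
  simp [qf_apply, Cfsg.quadFormMinus]

theorem qf_sigma {σ : F ≃+* F} (ha : σ a = a) (hb : σ b = b) (v : Idx k → F) :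
    qf k F a b (σ ∘ v) = σ (qf k F a b v) := by
  conv_lhs => rw [← ha, ← hb]
  exact qf_map σ.toRingHom v

/-- A vector of value one. -/
def e1 (k : ℕ) (F : Type u) [Field F] : Idx k → F := Pi.single (.inr 0) 1

theorem qf_e1 : qf k F a b (e1 k F) = 1 := by simp [qf_apply, Cfsg.quadFormMinus, e1]

/-- The coordinate frame. -/
noncomputable def frame (k : ℕ) (F : Type u) [Field F] (a b : F) : Frame (qf k F a b) k where
  e i := Pi.single (.inl (.inl i)) 1
  f i := Pi.single (.inl (.inr i)) 1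
  Qe i := by simp [qf_apply, Cfsg.quadFormMinus]
  Qf i := by simp [qf_apply, Cfsg.quadFormMinus]
  ef i j := by
    simp only [polar, qf_apply, Cfsg.quadFormMinus, Pi.add_apply, Pi.single_apply, reduceCtorEq,
      if_false, Sum.inr.injEq, Sum.inl.injEq, add_zero, zero_add]
    simp [eq_comm]
  ee i j h := by simp [polar, qf_apply, Cfsg.quadFormMinus]
  ff i j h := by simp [polar, qf_apply, Cfsg.quadFormMinus]

/-- The similarity group. -/
noncomputable abbrev Sim (k : ℕ) (F : Type u) [Field F] (a b : F) : Subgroup (GL (Idx k) F) :=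
  Cfsg.Geo.quadSimilarityGroup (F := F) ⇑(qf k F a b)

/-- The coordinates of the hyperbolic form. -/
noncomputable def pIdx (k : ℕ) : Fin (k + 1) ⊕ Fin (k + 1) ≃ Idx k :=
  Plus.mIdx (Nat.succ_pos k)

theorem qm_eq (ζ : F) (x : Fin (k + 1) ⊕ Fin (k + 1) → F) :
    Plus.qm (Nat.succ_pos k) F ζ x = qf k F 1 ζ (x ∘ (pIdx k).symm) :=
  Plus.qm_apply _ _ _

variable {K : Type v} [Field K]

/-- `h` carries the minus-type form, read through `i`, to a multiple of the hyperbolic form. -/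
def IsSplit (k : ℕ) (a b : F) (i : F →+* K) (h : GL (Fin (k + 1) ⊕ Fin (k + 1)) K) : Prop :=
  ∃ ν : Kˣ, ∀ v, Plus.qf (k + 1) K ((h : Matrix _ _ K) *ᵥ v) =
    (ν : K) * qf k K (i a) (i b) (v ∘ (pIdx k).symm)

/-- Reading a matrix on the hyperbolic coordinates. -/
noncomputable def toPlus (i : F →+* K) (h : GL (Fin (k + 1) ⊕ Fin (k + 1)) K) :
    GL (Idx k) F →* GL (Fin (k + 1) ⊕ Fin (k + 1)) K :=
  (MulAut.conj h).toMonoidHom.comp
    ((re (pIdx k).symm K).toMonoidHom.comp (Matrix.GeneralLinearGroup.map i))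

theorem toPlus_apply (i : F →+* K) (h : GL (Fin (k + 1) ⊕ Fin (k + 1)) K) (g : GL (Idx k) F) :
    toPlus i h g = h * re (pIdx k).symm K (Matrix.GeneralLinearGroup.map i g) * h⁻¹ := rfl

/-- The coordinates of a splitting. -/
noncomputable def splitEquiv (h : GL (Fin (k + 1) ⊕ Fin (k + 1)) K) :
    (Idx k → K) ≃ₗ[K] (Fin (k + 1) ⊕ Fin (k + 1) → K) :=
  (LinearEquiv.funCongrLeft K K (pIdx k)).trans
    (LinearMap.GeneralLinearGroup.generalLinearEquiv K _ (Matrix.GeneralLinearGroup.toLin h))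

theorem splitEquiv_apply (h : GL (Fin (k + 1) ⊕ Fin (k + 1)) K) (v : Idx k → K) :
    splitEquiv h v = (h : Matrix _ _ K) *ᵥ (v ∘ pIdx k) := rfl

theorem splitEquiv_value {i : F →+* K} {h : GL (Fin (k + 1) ⊕ Fin (k + 1)) K} {ν : Kˣ}
    (hν : ∀ v, Plus.qf (k + 1) K ((h : Matrix _ _ K) *ᵥ v) =
      (ν : K) * qf k K (i a) (i b) (v ∘ (pIdx k).symm)) (v : Idx k → K) :
    Plus.qf (k + 1) K (splitEquiv h v) = (ν : K) * qf k K (i a) (i b) v := by
  rw [splitEquiv_apply, hν]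
  congr 2
  funext j
  simp

theorem toPlus_mulVec (i : F →+* K) (h : GL (Fin (k + 1) ⊕ Fin (k + 1)) K) (g : GL (Idx k) F)
    (v : Idx k → K) :
    (toPlus i h g : Matrix _ _ K) *ᵥ splitEquiv h v =
      splitEquiv h ((Matrix.GeneralLinearGroup.map i g : Matrix (Idx k) (Idx k) K) *ᵥ v) := by
  rw [splitEquiv_apply, splitEquiv_apply, toPlus_apply, mulVec_mulVec, ← Units.val_mul,
    inv_mul_cancel_right, Units.val_mul, ← mulVec_mulVec, re_mulVec]
  congr 2
  rw [show (v ∘ pIdx k) ∘ (pIdx k).symm = v by funext j; simp]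

theorem toPlus_mem_iff {i : F →+* K} {h : GL (Fin (k + 1) ⊕ Fin (k + 1)) K}
    (hh : IsSplit k a b i h) (g : GL (Idx k) F) :
    toPlus i h g ∈ Plus.Sim (k + 1) K ↔ g ∈ Sim k F a b := by
  obtain ⟨ν, hν⟩ := hh
  exact (sim_transport (splitEquiv h) ν.ne_zero (splitEquiv_value hν) (toPlus_mulVec i h g)).trans
    (map_mem_sim_iff (qf k K (i a) (i b)) (qf k F a b) i (qf_map i) qf_e1 g)

/-- Reading similarities on the hyperbolic coordinates. -/
noncomputable def simHom {i : F →+* K} {h : GL (Fin (k + 1) ⊕ Fin (k + 1)) K}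
    (hh : IsSplit k a b i h) : ↥(Sim k F a b) →* ↥(Plus.Sim (k + 1) K) :=
  ((toPlus i h).comp (Sim k F a b).subtype).codRestrict _ fun g => (toPlus_mem_iff hh _).2 g.2

variable [Fintype K]

/-- The class character. -/
noncomputable def chi (hk : 2 ≤ k) {i : F →+* K} {h : GL (Fin (k + 1) ⊕ Fin (k + 1)) K}
    (hh : IsSplit k a b i h) : ↥(Sim k F a b) →* Multiplicative (ZMod 2) :=
  (Plus.cls (show 3 ≤ k + 1 by omega)).comp (simHom hh)

theorem chi_eq_one_iff (hk : 2 ≤ k) {i : F →+* K} {h : GL (Fin (k + 1) ⊕ Fin (k + 1)) K}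
    (hh : IsSplit k a b i h) (g : Sim k F a b) :
    chi hk hh g = 1 ↔ Cfsg.PreservesSingularClasses (Cfsg.quadFormMinus k K (i a) (i b))
      (((g : GL (Idx k) F) : Matrix (Idx k) (Idx k) F).map i) := by
  obtain ⟨ν, hν⟩ := id hh
  rw [chi, MonoidHom.comp_apply, ← Plus.preserves_iff]
  exact (preserves_transport (Q' := ⇑(qf k K (i a) (i b))) (splitEquiv h) ν.ne_zero
    (splitEquiv_value hν) (toPlus_mulVec i h g)).symm

omit [Fintype K] in
theorem isSplit_comp {i : F →+* K} {h : GL (Fin (k + 1) ⊕ Fin (k + 1)) K} (hh : IsSplit k a b i h)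
    {K' : Type w} [Field K'] (j : K ≃+* K') :
    IsSplit k a b (j.toRingHom.comp i) (Matrix.GeneralLinearGroup.map j.toRingHom h) := by
  obtain ⟨ν, hν⟩ := hh
  refine ⟨Units.map (j.toRingHom : K →* K') ν, fun v => ?_⟩
  obtain ⟨w, rfl⟩ : ∃ w, v = j.toRingHom ∘ w :=
    ⟨j.symm ∘ v, funext fun l => (j.apply_symm_apply _).symm⟩
  refine (congrArg (fun y => Plus.qf (k + 1) K' y) (show
      ((Matrix.GeneralLinearGroup.map j.toRingHom h : GL (Fin (k + 1) ⊕ Fin (k + 1)) K') :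
        Matrix (Fin (k + 1) ⊕ Fin (k + 1)) (Fin (k + 1) ⊕ Fin (k + 1)) K') *ᵥ (j.toRingHom ∘ w) =
      j.toRingHom ∘ ((h : Matrix (Fin (k + 1) ⊕ Fin (k + 1)) (Fin (k + 1) ⊕ Fin (k + 1)) K) *ᵥ w) from
        funext fun l => (RingHom.map_mulVec j.toRingHom _ w l).symm)).trans ?_
  rw [Plus.qf_map, hν, map_mul]
  congr 1
  exact (qf_map j.toRingHom (w ∘ (pIdx k).symm)).symm

theorem chi_comp (hk : 2 ≤ k) {i : F →+* K} {h : GL (Fin (k + 1) ⊕ Fin (k + 1)) K}
    (hh : IsSplit k a b i h) {K' : Type w} [Field K'] [Fintype K'] (j : K ≃+* K') (g : Sim k F a b) :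
    chi hk (isSplit_comp hh j) g = chi hk hh g := by
  rw [chi, chi, MonoidHom.comp_apply, MonoidHom.comp_apply, ← Plus.cls_map _ j.toRingHom (simHom hh g)]
  refine congrArg _ (Subtype.ext ?_)
  show toPlus _ _ (g : GL (Idx k) F) = Matrix.GeneralLinearGroup.map j.toRingHom (toPlus i h g)
  rw [toPlus_apply, toPlus_apply, map_mul, map_mul, map_inv, ← re_map]
  rfl

variable [Fintype F]

theorem preservesMinus_iff (hk : 2 ≤ k) {i : F →+* K} {h : GL (Fin (k + 1) ⊕ Fin (k + 1)) K}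
    (hh : IsSplit k a b i h) (hcard : Fintype.card K = Fintype.card F ^ 2) (g : Sim k F a b) :
    Cfsg.PreservesSingularClassesMinus k a b ((g : GL (Idx k) F) : Matrix (Idx k) (Idx k) F) ↔
      chi hk hh g = 1 := by
  letI : Algebra F K := i.toAlgebra
  haveI : Module.Finite F K := Module.Finite.of_finite
  have hrank : Module.finrank F K = 2 := by
    have h1 := Module.natCard_eq_pow_finrank (K := F) (V := K)
    rw [Nat.card_eq_fintype_card, Nat.card_eq_fintype_card, hcard] at h1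
    exact (Nat.pow_right_injective Fintype.one_lt_card h1).symm
  constructor
  · rintro ⟨K', _, _, hfin, hp⟩
    haveI : Module.Finite F K' := Module.finite_of_finrank_eq_succ hfin
    haveI : Finite K' := Module.finite_of_finite F
    letI : Fintype K' := Fintype.ofFinite K'
    haveI : Fact (Nat.Prime (ringChar F)) := ⟨CharP.char_is_prime F (ringChar F)⟩
    let j : K ≃ₐ[F] K' := (FiniteField.algEquivExtension F (ringChar F) 2 K hrank).trans
      (FiniteField.algEquivExtension F (ringChar F) 2 K' hfin).symm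
    have hj : j.toRingEquiv.toRingHom.comp i = algebraMap F K' := RingHom.ext fun x => j.commutes x
    rw [← chi_comp hk hh j.toRingEquiv g, chi_eq_one_iff hk]
    show Cfsg.PreservesSingularClasses (Cfsg.quadFormMinus k K' ((j.toRingEquiv.toRingHom.comp i) a)
      ((j.toRingEquiv.toRingHom.comp i) b)) (Matrix.map _ (j.toRingEquiv.toRingHom.comp i))
    rw [hj]
    exact hp
  · intro h1
    haveI : Small.{u} K := Countable.toSmall K
    let e : Shrink.{u} K ≃+* K := Shrink.ringEquiv K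
    letI : Fintype (Shrink.{u} K) := Fintype.ofEquiv K e.symm.toEquiv
    refine ⟨Shrink.{u} K, inferInstance, inferInstance,
      ((Shrink.algEquiv F K).toLinearEquiv.finrank_eq).trans hrank, ?_⟩
    exact (chi_eq_one_iff hk (isSplit_comp hh e.symm) g).1 ((chi_comp hk hh e.symm g).trans h1)

omit [Fintype K] in
/-- The form splits over a quadratic extension. -/
theorem exists_split (hab : ∀ z₁ z₂ : F, z₁ ^ 2 + a * z₁ * z₂ + b * z₂ ^ 2 = 0 → z₁ = 0 ∧ z₂ = 0) :
    ∃ (K : Type u) (_ : Field K) (_ : Fintype K) (i : F →+* K)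
      (h : GL (Fin (k + 1) ⊕ Fin (k + 1)) K),
      Fintype.card K = Fintype.card F ^ 2 ∧ IsSplit k a b i h := by
  classical
  let P : Polynomial F := Polynomial.C 1 * Polynomial.X ^ 2 + Polynomial.C a * Polynomial.X + Polynomial.C b
  have hdeg : P.natDegree = 2 := Polynomial.natDegree_quadratic one_ne_zero
  have hirr : Irreducible P := by
    rw [Polynomial.irreducible_iff_roots_eq_zero_of_degree_le_three (by omega) (by omega)]
    refine Multiset.eq_zero_of_forall_notMem fun t ht => ?_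
    rw [Polynomial.mem_roots'] at ht
    have h2 := ht.2
    simp [P, Polynomial.IsRoot] at h2
    exact one_ne_zero (hab t 1 (by linear_combination h2)).2
  haveI : Fact (Irreducible P) := ⟨hirr⟩
  haveI : Module.Finite F (AdjoinRoot P) := (AdjoinRoot.powerBasis hirr.ne_zero).finite
  haveI : Finite (AdjoinRoot P) := Module.finite_of_finite F
  letI : Fintype (AdjoinRoot P) := Fintype.ofFinite _
  have hcard : Fintype.card (AdjoinRoot P) = Fintype.card F ^ 2 := by
    rw [← Nat.card_eq_fintype_card, Module.natCard_eq_pow_finrank (K := F),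
      PowerBasis.finrank (AdjoinRoot.powerBasis hirr.ne_zero), AdjoinRoot.powerBasis_dim, hdeg,
      Nat.card_eq_fintype_card]
  set t := AdjoinRoot.root P
  set i := AdjoinRoot.of P
  have ht : t * t + i a * t + i b = 0 := by
    have h1 := AdjoinRoot.eval₂_root P
    simp only [P, Polynomial.eval₂_add, Polynomial.eval₂_mul, Polynomial.eval₂_C, Polynomial.eval₂_X,
      Polynomial.eval₂_pow, map_one, one_mul] at h1
    linear_combination h1
  have hd : i a + 2 * t ≠ 0 := by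
    intro h0
    by_cases h2 : (2 : F) = 0
    · have h2K : (2 : AdjoinRoot P) = 0 := by rw [← map_ofNat i 2, h2, map_zero]
      rw [h2K, zero_mul, add_zero, map_eq_zero] at h0
      exact UnitaryOrthogonal.BinAniso.a_ne_zero hab h2 h0
    · have h2K : (2 : AdjoinRoot P) ≠ 0 := by rw [← map_ofNat i 2, map_ne_zero]; exact h2
      have e : t = i (-a / 2) := by
        rw [map_div₀, map_neg, map_ofNat, eq_div_iff h2K]
        linear_combination h0
      rw [e, ← map_mul, ← map_mul, ← map_add, ← map_add, map_eq_zero] at ht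
      exact one_ne_zero (hab (-a / 2) 1 (by linear_combination ht)).2
  obtain ⟨E⟩ := UnitaryOrthogonal.nonempty_qMinus_equiv k ht hd
  let f : (Fin (k + 1) ⊕ Fin (k + 1) → AdjoinRoot P) ≃ₗ[AdjoinRoot P]
      (Fin (k + 1) ⊕ Fin (k + 1) → AdjoinRoot P) :=
    (LinearEquiv.funCongrLeft _ _ (pIdx k).symm).trans E.toLinearEquiv
  have hu : IsUnit (LinearMap.toMatrix' f.toLinearMap).det := by
    rw [LinearMap.det_toMatrix']; exact LinearEquiv.isUnit_det' f
  refine ⟨AdjoinRoot P, inferInstance, inferInstance, i, Matrix.GeneralLinearGroup.mk'' _ hu, hcard,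
    1, fun v => ?_⟩
  rw [show ((Matrix.GeneralLinearGroup.mk'' _ hu : GL _ (AdjoinRoot P)) : Matrix _ _ (AdjoinRoot P)) *ᵥ v =
    f v from LinearMap.toMatrix'_mulVec _ v, Units.val_one, one_mul]
  refine (UnitaryOrthogonal.qPlus_apply (k + 1) (f v)).symm.trans ?_
  refine (E.map_app _).trans ?_
  exact UnitaryOrthogonal.qMinus_apply k (i a) (i b) _

omit [Fintype K] in
theorem preserves_mul (hk : 2 ≤ k)
    (hab : ∀ z₁ z₂ : F, z₁ ^ 2 + a * z₁ * z₂ + b * z₂ ^ 2 = 0 → z₁ = 0 ∧ z₂ = 0)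
    {g g' : GL (Idx k) F} (hg : g ∈ Sim k F a b) (hg' : g' ∈ Sim k F a b)
    (h1 : Cfsg.PreservesSingularClassesMinus k a b (g : Matrix (Idx k) (Idx k) F))
    (h1' : Cfsg.PreservesSingularClassesMinus k a b (g' : Matrix (Idx k) (Idx k) F)) :
    Cfsg.PreservesSingularClassesMinus k a b ((g * g' : GL (Idx k) F) : Matrix (Idx k) (Idx k) F) := by
  obtain ⟨K, _, _, i, h, hc, hh⟩ := exists_split (k := k) hab
  have e := preservesMinus_iff hk hh hc (⟨g * g', mul_mem hg hg'⟩ : Sim k F a b)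
  refine e.2 ?_
  have e1 := (preservesMinus_iff hk hh hc (⟨g, hg⟩ : Sim k F a b)).1 h1
  have e2 := (preservesMinus_iff hk hh hc (⟨g', hg'⟩ : Sim k F a b)).1 h1'
  calc chi hk hh (⟨g * g', mul_mem hg hg'⟩ : Sim k F a b)
      = chi hk hh (⟨g, hg⟩ : Sim k F a b) * chi hk hh (⟨g', hg'⟩ : Sim k F a b) :=
        map_mul (chi hk hh) (⟨g, hg⟩ : Sim k F a b) ⟨g', hg'⟩
    _ = 1 := by rw [e1, e2, one_mul]

omit [Fintype K] in
theorem preserves_one (hk : 2 ≤ k)
    (hab : ∀ z₁ z₂ : F, z₁ ^ 2 + a * z₁ * z₂ + b * z₂ ^ 2 = 0 → z₁ = 0 ∧ z₂ = 0) :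
    Cfsg.PreservesSingularClassesMinus k a b ((1 : GL (Idx k) F) : Matrix (Idx k) (Idx k) F) := by
  obtain ⟨K, _, _, i, h, hc, hh⟩ := exists_split (k := k) hab
  exact (preservesMinus_iff hk hh hc (1 : Sim k F a b)).2 (map_one (chi hk hh))

omit [Fintype K] in
theorem preserves_inv (hk : 2 ≤ k)
    (hab : ∀ z₁ z₂ : F, z₁ ^ 2 + a * z₁ * z₂ + b * z₂ ^ 2 = 0 → z₁ = 0 ∧ z₂ = 0)
    {g : GL (Idx k) F} (hg : g ∈ Sim k F a b)
    (h1 : Cfsg.PreservesSingularClassesMinus k a b (g : Matrix (Idx k) (Idx k) F)) :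
    Cfsg.PreservesSingularClassesMinus k a b ((g⁻¹ : GL (Idx k) F) : Matrix (Idx k) (Idx k) F) := by
  obtain ⟨K, _, _, i, h, hc, hh⟩ := exists_split (k := k) hab
  refine (preservesMinus_iff hk hh hc (⟨g⁻¹, inv_mem hg⟩ : Sim k F a b)).2 ?_
  exact (map_inv (chi hk hh) (⟨g, hg⟩ : Sim k F a b)).trans
    (by rw [(preservesMinus_iff hk hh hc (⟨g, hg⟩ : Sim k F a b)).1 h1, inv_one])

omit [Fintype K] in
/-- The class-preserving similarities. -/
noncomputable def H (hk : 2 ≤ k)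
    (hab : ∀ z₁ z₂ : F, z₁ ^ 2 + a * z₁ * z₂ + b * z₂ ^ 2 = 0 → z₁ = 0 ∧ z₂ = 0) :
    Subgroup (GL (Idx k) F) where
  carrier := {g | g ∈ Sim k F a b ∧
    Cfsg.PreservesSingularClassesMinus k a b (g : Matrix (Idx k) (Idx k) F)}
  one_mem' := ⟨one_mem _, preserves_one hk hab⟩
  mul_mem' h h' := ⟨mul_mem h.1 h'.1, preserves_mul hk hab h.1 h'.1 h.2 h'.2⟩
  inv_mem' h := ⟨inv_mem h.1, preserves_inv hk hab h.1 h.2⟩

omit [Fintype K] in
theorem mem_H {hk : 2 ≤ k}
    {hab : ∀ z₁ z₂ : F, z₁ ^ 2 + a * z₁ * z₂ + b * z₂ ^ 2 = 0 → z₁ = 0 ∧ z₂ = 0} {g : GL (Idx k) F} :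
    g ∈ H hk hab ↔ g ∈ Sim k F a b ∧
      Cfsg.PreservesSingularClassesMinus k a b (g : Matrix (Idx k) (Idx k) F) := Iff.rfl

omit [Fintype K] [Fintype F] in
/-- The field automorphisms fixing the coefficients. -/
def fixer (a b : F) : Subgroup (F ≃+* F) where
  carrier := {σ | σ a = a ∧ σ b = b}
  one_mem' := ⟨rfl, rfl⟩
  mul_mem' {σ τ} h h' :=
    ⟨show σ (τ a) = a by rw [h'.1, h.1], show σ (τ b) = b by rw [h'.2, h.2]⟩
  inv_mem' {σ} h :=
    ⟨(σ.symm_apply_eq).2 h.1.symm, (σ.symm_apply_eq).2 h.2.symm⟩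

omit [Fintype K] in
theorem nondeg (hab : ∀ z₁ z₂ : F, z₁ ^ 2 + a * z₁ * z₂ + b * z₂ ^ 2 = 0 → z₁ = 0 ∧ z₂ = 0) :
    (qf k F a b).polarBilin.Nondegenerate := by
  rw [show qf k F a b = Forms59.minusQF F k a b from QuadraticMap.copy_eq _ _ _]
  exact Forms59.minusQF_nondegenerate k a b hab

omit [Fintype K] in
theorem setting (hk : 3 ≤ k)
    (hab : ∀ z₁ z₂ : F, z₁ ^ 2 + a * z₁ * z₂ + b * z₂ ^ 2 = 0 → z₁ = 0 ∧ z₂ = 0) :
    Setting (rho (Cfsg.quadFormMinus k F a b)) (H (show 2 ≤ k by omega) hab) (fixer a b) := by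
  have hk2 : 2 ≤ k := by omega
  have semi : ∀ g ∈ Sim k F a b, ∀ σ ∈ fixer a b,
      Cfsg.IsSemisimilarityPair (⇑(qf k F a b)) g σ := fun g hg σ hσ => by
    have h := IsSemi_comp (isSemi_one_iff.2 hg) (isSemi_std (qf_sigma (k := k) hσ.1 hσ.2))
    rwa [map_one, mul_one, one_mul] at h
  obtain ⟨K, _, _, i, h, hc, hh⟩ := exists_split (k := k) hab
  refine ⟨inferInstance, rho_injective _, fun g hg σ hσ => normalises (semi g hg.1 σ hσ),
    fun c => ?_, fun g hg σ hσ => ?_, fun s => ?_, fun g hg σ hσ h1 => ?_⟩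
  · refine ⟨scalar_mem_sim _ c, (preservesMinus_iff hk2 hh hc ⟨_, scalar_mem_sim _ c⟩).2 ?_⟩
    rw [chi, MonoidHom.comp_apply, ← Plus.cls_scalar _ (Units.map (i : F →* K) c)]
    refine congrArg _ (Subtype.ext ?_)
    show toPlus i h _ = _
    rw [toPlus_apply, mul_inv_eq_iff_eq_mul]
    refine Eq.trans ?_ (AutPSL.scalarGL_mul_comm _ _).symm
    congr 1
    apply Units.ext
    rw [re_coe]
    ext p q
    simp only [submatrix_apply, Equiv.symm_symm, AutPSL.scalarGL_coe]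
    show i (((scalarGL (Idx k) c : GL (Idx k) F) : Matrix (Idx k) (Idx k) F) (pIdx k p) (pIdx k q)) = _
    rw [AutPSL.scalarGL_coe]
    by_cases hpq : p = q <;> simp [hpq]
  · have hsim : fieldMap σ g ∈ Sim k F a b := by
      have h2 := conj_similarity (isSemi_std (qf_sigma (k := k) hσ.1 hσ.2)) hg.1
      rwa [one_mul, inv_one, mul_one] at h2
    refine ⟨hsim, (preservesMinus_iff hk2 hh hc ⟨_, hsim⟩).2 ?_⟩
    have hh' : IsSplit k a b (i.comp σ.toRingHom) h := by
      obtain ⟨ν, hν⟩ := hh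
      refine ⟨ν, fun v => ?_⟩
      show _ = (ν : K) * qf k K (i (σ a)) (i (σ b)) _
      rw [hσ.1, hσ.2]
      exact hν v
    have h2 := (preservesMinus_iff hk2 hh' hc ⟨g, hg.1⟩).1 hg.2
    rw [← h2]
    exact congrArg (Plus.cls (show 3 ≤ k + 1 by omega)) (Subtype.ext rfl)
  · refine ⟨iso_le_sim _ s.1.2, (preservesMinus_iff hk2 hh hc ⟨_, iso_le_sim _ s.1.2⟩).2 ?_⟩
    exact Abelianization.commutator_subset_ker
      ((chi hk2 hh).comp (Subgroup.inclusion (iso_le_sim (⇑(qf k F a b))))) s.2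
  · exact eq_one_of_induced hk (frame k F a b)
      (Orth.hasSiegel _ (nondeg hab) (by simp; omega)) (semi g hg.1 σ hσ) h1

omit [Fintype K] in
theorem range_eq {hk : 2 ≤ k}
    {hab : ∀ z₁ z₂ : F, z₁ ^ 2 + a * z₁ * z₂ + b * z₂ ^ 2 = 0 → z₁ = 0 ∧ z₂ = 0}
    {Γ : Subgroup (F ≃+* F)} (hS : Setting (rho (Cfsg.quadFormMinus k F a b)) (H hk hab) Γ) :
    (conjH hS).range = Cfsg.inndiagPOmegaMinus k F a b := by
  rw [conjH_range]
  refine congrArg Cfsg.autSubgroupOf (funext fun β => propext (exists_congr fun g => ?_))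
  rw [mem_H, and_assoc]
  exact and_congr_right' (and_congr_right' induced_iff.symm)

end Cfsg.Agent.FieldAutGen.Minus
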