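import Mathlib
import Cfsg.Agent.FieldAutGen.Basic

/-!
The setting of `FieldAutGen` seen from a conjugate frame `k`: a semilinear map `v ↦ t σ(v)` with
`t = k σ(k)⁻¹` becomes the standard field automorphism of `σ` (helper60).
-/

set_option autoImplicit false

namespace Cfsg.Agent.FieldAutGen

open Matrix
open Cfsg.Agent.AutPSL (fieldMap Normalises Induced scalarGL normGL act act_apply)

universe u v

variable {ι : Type} [Fintype ι] [DecidableEq ι] {F : Type u} [Field F] {S : Type v} [Group S]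

/-- The representation in the frame `k`. -/
def twistRho (ρ : S →* GL ι F) (k : GL ι F) : S →* GL ι F :=
  (MulAut.conj k⁻¹).toMonoidHom.comp ρ

/-- The group in the frame `k`. -/
def twistH (H : Subgroup (GL ι F)) (k : GL ι F) : Subgroup (GL ι F) :=
  H.comap (MulAut.conj k).toMonoidHom

theorem mem_twistH {H : Subgroup (GL ι F)} {k g : GL ι F} : g ∈ twistH H k ↔ k * g * k⁻¹ ∈ H :=
  Iff.rfl

variable {ρ : S →* GL ι F} {H : Subgroup (GL ι F)} {Γ : Subgroup (F ≃+* F)} {k : GL ι F}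

theorem twist_eq_iff (g : GL ι F) (τ : F ≃+* F) (s s' : S) :
    twistRho ρ k s' = act g τ (twistRho ρ k s) ↔
      ρ s' = act (k * g * (fieldMap τ k)⁻¹) τ (ρ s) := by
  show k⁻¹ * ρ s' * k⁻¹⁻¹ = act g τ (k⁻¹ * ρ s * k⁻¹⁻¹) ↔ _
  simp only [act_apply, map_mul, map_inv, inv_inv, _root_.mul_inv_rev]
  constructor
  · intro h
    have e : ρ s' = k * (k⁻¹ * ρ s' * k) * k⁻¹ := by group
    rw [e, h]; group
  · intro h
    rw [h]; group

theorem normalises_twist_iff (g : GL ι F) (τ : F ≃+* F) :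
    Normalises (twistRho ρ k) g τ ↔ Normalises ρ (k * g * (fieldMap τ k)⁻¹) τ :=
  forall_congr' fun s => exists_congr fun s' => twist_eq_iff g τ s s'

theorem induced_twist_iff (g : GL ι F) (τ : F ≃+* F) (β : MulAut (S ⧸ Subgroup.center S)) :
    Induced (twistRho ρ k) g τ β ↔ Induced ρ (k * g * (fieldMap τ k)⁻¹) τ β :=
  forall_congr' fun s => forall_congr' fun s' => imp_congr_left (twist_eq_iff g τ s s')

theorem twist_scalar (c : Fˣ) : k * scalarGL ι c * k⁻¹ = scalarGL ι c := by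
  rw [← AutPSL.scalarGL_mul_comm c k, mul_inv_cancel_right]

/-- The setting in the frame `k`, for the field automorphisms `Γ'` with `k τ(k)⁻¹ ∈ N`. -/
theorem Setting.twist (hS : Setting ρ H Γ) {N : Subgroup (GL ι F)} {Γ' : Subgroup (F ≃+* F)}
    (hHN : H ≤ N) (hk : ∀ τ ∈ Γ', k * (fieldMap τ k)⁻¹ ∈ N)
    (hnorm : ∀ g ∈ N, ∀ τ ∈ Γ', Normalises ρ g τ)
    (heq : ∀ g ∈ N, ∀ τ ∈ Γ', Induced ρ g τ 1 → τ = 1 ∧ ∃ c : Fˣ, g = scalarGL ι c)
    (hconj : ∀ g ∈ N, ∀ h ∈ H, g * h * g⁻¹ ∈ H) (hfmap : ∀ g ∈ H, ∀ τ ∈ Γ', fieldMap τ g ∈ H) :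
    Setting (twistRho ρ k) (twistH H k) Γ' where
  fin := hS.fin
  inj := (MulAut.conj k⁻¹).injective.comp hS.inj
  norm g hg τ hτ := by
    rw [normalises_twist_iff]
    refine hnorm _ ?_ τ hτ
    rw [show k * g * (fieldMap τ k)⁻¹ = k * g * k⁻¹ * (k * (fieldMap τ k)⁻¹) by group]
    exact mul_mem (hHN (mem_twistH.1 hg)) (hk τ hτ)
  scalar c := mem_twistH.2 (by rw [twist_scalar]; exact hS.scalar c)
  fmap g hg τ hτ := mem_twistH.2 (by
    have e : k * fieldMap τ g * k⁻¹ =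
        k * (fieldMap τ k)⁻¹ * fieldMap τ (k * g * k⁻¹) * (k * (fieldMap τ k)⁻¹)⁻¹ := by
      rw [map_mul, map_mul, map_inv]; group
    rw [e]
    exact hconj _ (hk τ hτ) _ (hfmap _ (mem_twistH.1 hg) τ hτ))
  rho_mem s := mem_twistH.2 (by
    show k * (k⁻¹ * ρ s * k⁻¹⁻¹) * k⁻¹ ∈ H
    rw [show k * (k⁻¹ * ρ s * k⁻¹⁻¹) * k⁻¹ = ρ s by group]
    exact hS.rho_mem s)
  eq_one g hg τ hτ h := by
    rw [induced_twist_iff] at h
    have hmem : k * g * (fieldMap τ k)⁻¹ ∈ N := by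
      rw [show k * g * (fieldMap τ k)⁻¹ = k * g * k⁻¹ * (k * (fieldMap τ k)⁻¹) by group]
      exact mul_mem (hHN (mem_twistH.1 hg)) (hk τ hτ)
    obtain ⟨h1, c, hc⟩ := heq _ hmem τ hτ h
    refine ⟨h1, c, ?_⟩
    rw [h1, AutPSL.fieldMap_one] at hc
    rw [show g = k⁻¹ * (k * g * k⁻¹) * k by group, hc,
      mul_assoc, AutPSL.scalarGL_mul_comm, inv_mul_cancel_left]

/-- The image is the same. -/
theorem conjH_twist (hS : Setting ρ H Γ) {Γ' : Subgroup (F ≃+* F)}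
    (hS' : Setting (twistRho ρ k) (twistH H k) Γ') (g : twistH H k) :
    conjH hS' g = conjH hS ⟨k * (g : GL ι F) * k⁻¹, mem_twistH.1 g.2⟩ := by
  refine eq_conjH hS _ ?_
  have h := (induced_twist_iff _ _ _).1 (induced_conjH hS' g)
  rwa [AutPSL.fieldMap_one] at h

theorem conjH_twist_range (hS : Setting ρ H Γ) {Γ' : Subgroup (F ≃+* F)}
    (hS' : Setting (twistRho ρ k) (twistH H k) Γ') : (conjH hS').range = (conjH hS).range := by
  apply le_antisymm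
  · rintro _ ⟨g, rfl⟩; exact ⟨_, (conjH_twist hS hS' g).symm⟩
  · rintro _ ⟨g, rfl⟩
    have hg : k⁻¹ * (g : GL ι F) * k ∈ twistH H k := mem_twistH.2 (by
      rw [show k * (k⁻¹ * (g : GL ι F) * k) * k⁻¹ = g by group]; exact g.2)
    refine ⟨⟨_, hg⟩, (conjH_twist hS hS' _).trans (congrArg _ (Subtype.ext ?_))⟩
    show k * (k⁻¹ * (g : GL ι F) * k) * k⁻¹ = g
    group

theorem normGL_twist (σ : F ≃+* F) (g : GL ι F) : ∀ n : ℕ,
    normGL σ (k * g * (fieldMap σ k)⁻¹) n = k * normGL σ g n * (fieldMap (σ ^ n) k)⁻¹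
  | 0 => by
    show (1 : GL ι F) = k * 1 * _
    rw [pow_zero, AutPSL.fieldMap_one, mul_one, mul_inv_cancel]
  | n + 1 => by
    show k * g * (fieldMap σ k)⁻¹ * fieldMap σ (normGL σ (k * g * (fieldMap σ k)⁻¹) n) =
      k * (g * fieldMap σ (normGL σ g n)) * _
    rw [normGL_twist σ g n, map_mul, map_mul, map_inv, ← AutPSL.fieldMap_mul, ← pow_succ']
    group

/-- Hilbert 90 in the frame `k`. -/
theorem twist_hilb {σ : F ≃+* F} {t : GL ι F} (ht : t = k * (fieldMap σ k)⁻¹)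
    (hB : ∀ h ∈ H, normGL σ (h * t) (orderOf σ) = 1 → ∃ s ∈ H, h * t = s * t * (fieldMap σ s)⁻¹) :
    ∀ g ∈ twistH H k, normGL σ g (orderOf σ) = 1 → ∃ h ∈ twistH H k, g = h * (fieldMap σ h)⁻¹ := by
  intro g hg hN
  have e : k * g * k⁻¹ * t = k * g * (fieldMap σ k)⁻¹ := by rw [ht]; group
  obtain ⟨s, hs, he⟩ := hB _ (mem_twistH.1 hg) (by
    rw [e, normGL_twist, hN, pow_orderOf_eq_one, AutPSL.fieldMap_one, mul_one, mul_inv_cancel])
  refine ⟨k⁻¹ * s * k, mem_twistH.2 (by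
    rw [show k * (k⁻¹ * s * k) * k⁻¹ = s by group]; exact hs), ?_⟩
  rw [e] at he
  rw [show g = k⁻¹ * (k * g * (fieldMap σ k)⁻¹) * fieldMap σ k by group, he, ht, map_mul, map_mul,
    map_inv]
  group

end Cfsg.Agent.FieldAutGen
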