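import Mathlib
import Cfsg.Agent.FieldAutGen.PlusDescent
import Cfsg.Agent.FieldAutGen.Twist
import Cfsg.Agent.FieldAutGen.OrthAut
import Cfsg.Agent.AutPSL.Coset
import Cfsg.Agent.AutPSL.FiniteField

/-!
Field and graph-field automorphisms of `PΩ⁺_{2m}(q)`, `m ≥ 5`: each is conjugate by an inner-diagonal
automorphism to a standard one (helper60).
-/

set_option autoImplicit false
set_option maxHeartbeats 400000

namespace Cfsg.Agent.FieldAutGen.Plus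

open Matrix QuadraticMap
open Cfsg.Agent.AutPSL (fieldMap scalarGL Induced Normalises normGL)
open Cfsg.Agent.FieldAutGen.Orth
open Cfsg.Agent.Reflections (refl)

universe u

variable {m : ℕ} {F : Type u} [Field F]

/-- The carrier as a matrix group. -/
noncomputable abbrev R (m : ℕ) (F : Type u) [Field F] :
    ↥(Cfsg.Omega F (Cfsg.quadFormPlus m F)) →* GL (Fin m ⊕ Fin m) F :=
  rho (Cfsg.quadFormPlus m F)

theorem isSemi_sim {g : GL (Fin m ⊕ Fin m) F} (hg : g ∈ Sim m F) (σ : F ≃+* F) :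
    Cfsg.IsSemisimilarityPair (Cfsg.quadFormPlus m F) g σ :=
  isSemi_of_mem qf_sigma hg σ

theorem normalises_sim {g : GL (Fin m ⊕ Fin m) F} (hg : g ∈ Sim m F) (σ : F ≃+* F) :
    Normalises (R m F) g σ :=
  normalises (isSemi_sim hg σ)

theorem semi_mem_sim {g : GL (Fin m ⊕ Fin m) F} {σ : F ≃+* F}
    (h : Cfsg.IsSemisimilarityPair (Cfsg.quadFormPlus m F) g σ) : g ∈ Sim m F := by
  obtain ⟨c, hc⟩ := h
  refine ⟨c, fun v => ?_⟩
  obtain ⟨w, rfl⟩ : ∃ w, v = σ ∘ w := ⟨σ.symm ∘ v, funext fun i => (σ.apply_symm_apply _).symm⟩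
  rw [qf_sigma]
  exact hc w

theorem fmap_sim (hm : 0 < m) {g : GL (Fin m ⊕ Fin m) F} (hg : g ∈ Sim m F) (σ : F ≃+* F) :
    fieldMap σ g ∈ Sim m F :=
  (map_mem_sim hm σ.toRingHom).2 hg

variable [Fintype F]

theorem eq_one_sim (hm : 3 ≤ m) {g : GL (Fin m ⊕ Fin m) F} (hg : g ∈ Sim m F) {σ : F ≃+* F}
    (h : Induced (R m F) g σ 1) : σ = 1 ∧ ∃ c : Fˣ, g = scalarGL _ c :=
  eq_one_of_induced hm (frame m F) (hasSiegel hm) (isSemi_of_mem qf_sigma hg σ) h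

theorem conj_mem_H (hm : 3 ≤ m) {g h : GL (Fin m ⊕ Fin m) F} (hg : g ∈ Sim m F) (hh : h ∈ H hm F) :
    g * h * g⁻¹ ∈ H hm F := by
  obtain ⟨hhs, h1⟩ := (mem_H hm).1 hh
  refine (mem_H hm).2 ⟨mul_mem (mul_mem hg hhs) (inv_mem hg), ?_⟩
  rw [show (⟨g * h * g⁻¹, mul_mem (mul_mem hg hhs) (inv_mem hg)⟩ : Sim m F) =
    (⟨g, hg⟩ : Sim m F) * ⟨h, hhs⟩ * (⟨g, hg⟩ : Sim m F)⁻¹ from Subtype.ext rfl,
    map_mul, map_mul, map_inv, h1, mul_one, mul_inv_cancel]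

theorem exists_sim_induced (hm : 5 ≤ m) (α : MulAut (Cfsg.POmega F (Cfsg.quadFormPlus m F))) :
    ∃ (g : GL (Fin m ⊕ Fin m) F) (σ : F ≃+* F), g ∈ Sim m F ∧ Induced (R m F) g σ α := by
  obtain ⟨g, σ, hg, hα⟩ := exists_semi (fun v => UnitaryOrthogonal.qPlus_apply m v)
    (CG26.AutPO.setup_plus (by omega)) (CG26.AutPO.big_plus hm) α
  exact ⟨g, σ, semi_mem_sim hg, hα⟩

theorem conj_inndiag (hm : 5 ≤ m) (hS : Setting (R m F) (H (show 3 ≤ m by omega) F) ⊤)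
    (α : MulAut (Cfsg.POmega F (Cfsg.quadFormPlus m F)))
    {d : MulAut (Cfsg.POmega F (Cfsg.quadFormPlus m F))} (hd : d ∈ (conjH hS).range) :
    α * d * α⁻¹ ∈ (conjH hS).range := by
  obtain ⟨g, σ, hg, hα⟩ := exists_sim_induced hm α
  exact conj_range hS (normalises_sim hg σ) hα
    (fun h hh => conj_mem_H _ hg (hS.fmap h hh σ (Subgroup.mem_top _))) hd

theorem induced_pow (hm : 3 ≤ m) (hS : Setting (R m F) (H hm F) ⊤) {g : GL (Fin m ⊕ Fin m) F}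
    (hg : g ∈ Sim m F) {σ : F ≃+* F} {x : MulAut (Cfsg.POmega F (Cfsg.quadFormPlus m F))}
    (hx : Induced (R m F) g σ x) : ∀ k : ℕ,
      normGL σ g k ∈ Sim m F ∧ Induced (R m F) (normGL σ g k) (σ ^ k) (x ^ k)
  | 0 => ⟨one_mem _, by rw [pow_zero, pow_zero]; exact AutPSL.induced_one' hS.inj⟩
  | k + 1 => by
    obtain ⟨h1, h2⟩ := induced_pow hm hS hg hx k
    refine ⟨mul_mem hg (fmap_sim (Nat.zero_lt_of_lt hm) h1 σ), ?_⟩
    rw [pow_succ', pow_succ']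
    exact Induced.comp (normalises_sim h1 _) hx h2

theorem cls_pow_fixed (hm : 3 ≤ m) {σ : F ≃+* F} {t : Sim m F}
    (ht : fieldMap σ (t : GL (Fin m ⊕ Fin m) F) = t) (k : ℕ)
    (h : normGL σ (t : GL (Fin m ⊕ Fin m) F) k ∈ Sim m F) :
    cls hm ⟨_, h⟩ = cls hm t ^ k := by
  rw [← map_pow]
  exact congrArg _ (Subtype.ext (normGL_of_fixed ht k))

/-- Passing from a conjugate to the element. -/
theorem exists_same_class (hm : 5 ≤ m) (hS : Setting (R m F) (H (show 3 ≤ m by omega) F) ⊤)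
    {x α : MulAut (Cfsg.POmega F (Cfsg.quadFormPlus m F))} (t : Sim m F) {σ : F ≃+* F}
    (h : Induced (R m F) (t : GL (Fin m ⊕ Fin m) F) σ (α * x * α⁻¹)) :
    ∃ w : Sim m F, Induced (R m F) (w : GL (Fin m ⊕ Fin m) F) σ x ∧
      cls (show 3 ≤ m by omega) w = cls (show 3 ≤ m by omega) t := by
  have hm0 : 0 < m := by omega
  haveI := hS.fin
  obtain ⟨g, τ, hg, hα⟩ := exists_sim_induced hm α
  have hi := Induced.inverse hS.inj (normalises_sim hg τ) hα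
  have hgi : fieldMap τ⁻¹ g⁻¹ ∈ Sim m F := fmap_sim hm0 (inv_mem hg) _
  have h1 := Induced.comp (normalises_sim t.2 σ) hi h
  have h2 := Induced.comp (normalises_sim hg τ) h1 hα
  have e : τ⁻¹ * σ * τ = σ := by rw [mul_assoc, AutPSL.ringAut_comm σ τ, inv_mul_cancel_left]
  rw [show α⁻¹ * (α * x * α⁻¹) * α = x by group, e] at h2
  refine ⟨⟨_, mul_mem (mul_mem hgi (fmap_sim hm0 t.2 _)) (fmap_sim hm0 hg _)⟩, h2, ?_⟩
  rw [show (⟨fieldMap τ⁻¹ g⁻¹ * fieldMap τ⁻¹ (t : GL (Fin m ⊕ Fin m) F) * fieldMap (τ⁻¹ * σ) g,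
      mul_mem (mul_mem hgi (fmap_sim hm0 t.2 _)) (fmap_sim hm0 hg _)⟩ : Sim m F) =
    (⟨_, hgi⟩ : Sim m F) * ⟨_, fmap_sim hm0 t.2 τ⁻¹⟩ * ⟨_, fmap_sim hm0 hg (τ⁻¹ * σ)⟩ from
      Subtype.ext rfl, map_mul, map_mul, cls_fieldMap _ τ⁻¹ ⟨g⁻¹, inv_mem hg⟩, cls_fieldMap _ τ⁻¹ t,
    cls_fieldMap _ (τ⁻¹ * σ) ⟨g, hg⟩,
    show (⟨g⁻¹, inv_mem hg⟩ : Sim m F) = (⟨g, hg⟩ : Sim m F)⁻¹ from Subtype.ext rfl, map_inv,
    mul_right_comm, inv_mul_cancel, one_mul]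

/-- Semilinear maps with the same field part and class differ by an inner-diagonal automorphism. -/
theorem mem_coset (hm : 3 ≤ m) (hS : Setting (R m F) (H hm F) ⊤)
    {x y : MulAut (Cfsg.POmega F (Cfsg.quadFormPlus m F))} (w t : Sim m F) {σ : F ≃+* F}
    (hx : Induced (R m F) (w : GL (Fin m ⊕ Fin m) F) σ x)
    (hy : Induced (R m F) (t : GL (Fin m ⊕ Fin m) F) σ y) (h : cls hm w = cls hm t) :
    x * y⁻¹ ∈ (conjH hS).range := by
  have hd : (w : GL (Fin m ⊕ Fin m) F) * (t : GL (Fin m ⊕ Fin m) F)⁻¹ ∈ H hm F :=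
    (mem_H hm).2 ⟨(w * t⁻¹).2, by
      show cls hm (w * t⁻¹) = 1
      rw [map_mul, map_inv, h, mul_inv_cancel]⟩
  refine ⟨⟨_, hd⟩, eq_mul_inv_of_mul_eq ?_⟩
  have h1 := Induced.comp (normalises_sim t.2 σ) (induced_conjH hS ⟨_, hd⟩) hy
  rw [AutPSL.fieldMap_one, one_mul, inv_mul_cancel_right] at h1
  exact Induced.ext (normalises_sim w.2 σ) h1 hx

/-- A field automorphism is conjugate to a standard one by an inner-diagonal automorphism. -/
theorem field_normal (hm : 5 ≤ m) (hS : Setting (R m F) (H (show 3 ≤ m by omega) F) ⊤)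
    {x : MulAut (Cfsg.POmega F (Cfsg.quadFormPlus m F))}
    (hx : Cfsg.IsFieldAutClassPOmega (Cfsg.quadFormPlus m F) x) :
    ∃ (σ : F ≃+* F) (φ : MulAut (Cfsg.POmega F (Cfsg.quadFormPlus m F))),
      orderOf σ = orderOf x ∧ Induced (R m F) 1 σ φ ∧ Cfsg.IsConjUnder (conjH hS).range φ x := by
  haveI : Nonempty (Fin m ⊕ Fin m) := ⟨.inl ⟨0, by omega⟩⟩
  obtain ⟨α, φ, σ, -, hφ, hφe⟩ := hx
  have hφ' := isFieldAut_iff.1 hφ
  have ho : orderOf σ = orderOf x := by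
    rw [← orderOf_std hS (Subgroup.mem_top _) hφ', ← hφe, AutPSL.orderOf_conj']
  obtain ⟨w, hw, hw1⟩ := exists_same_class hm hS (x := x) (α := α) (1 : Sim m F) (σ := σ)
    (hφe ▸ hφ')
  have hmem := mem_coset (show 3 ≤ m by omega) hS w 1 hw hφ' hw1
  refine ⟨σ, φ, ho, hφ', ?_⟩
  have := field_coset hS (Subgroup.mem_top _) hφ' (exists_coboundary (show 3 ≤ m by omega)) hmem
    (by rw [inv_mul_cancel_right, ho])
  rwa [inv_mul_cancel_right] at this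

/-- The frame in which the semilinear map of a cocycle is standard. -/
theorem twist_setting (hm : 3 ≤ m) (hS : Setting (R m F) (H hm F) ⊤) {σ : F ≃+* F}
    (t : Sim m F) {k : GL (Fin m ⊕ Fin m) F} (hk : (t : GL (Fin m ⊕ Fin m) F) = k * (fieldMap σ k)⁻¹) :
    Setting (twistRho (R m F) k) (twistH (H hm F) k) (Subgroup.zpowers σ) := by
  refine hS.twist (N := Sim m F) (H_le hm) (fun τ hτ => ?_)
    (fun g hg τ _ => normalises_sim hg τ) (fun g hg τ _ h => eq_one_sim hm hg h)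
    (fun g hg h hh => conj_mem_H hm hg hh) fun g hg τ _ => hS.fmap g hg τ (Subgroup.mem_top _)
  haveI : Finite (F ≃+* F) :=
    Finite.of_injective (fun e : F ≃+* F => (e : F → F)) DFunLike.coe_injective
  obtain ⟨n, rfl⟩ : ∃ n : ℕ, σ ^ n = τ := mem_powers_iff_mem_zpowers.2 hτ
  have h1 : ∀ n : ℕ, normGL σ (t : GL (Fin m ⊕ Fin m) F) n ∈ Sim m F := by
    intro n
    induction n with
    | zero => exact one_mem _
    | succ n ih => exact mul_mem t.2 (fmap_sim (Nat.zero_lt_of_lt hm) ih σ)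
  have h2 := h1 n
  rw [show (t : GL (Fin m ⊕ Fin m) F) = k * 1 * (fieldMap σ k)⁻¹ by rw [mul_one]; exact hk,
    normGL_twist] at h2
  have h3 : normGL σ (1 : GL (Fin m ⊕ Fin m) F) n = 1 := by
    rw [normGL_of_fixed (map_one _), one_pow]
  rwa [h3, mul_one] at h2

/-- Automorphisms of the coset of a standard graph-field involution having order two. -/
theorem graph_coset (hm : 3 ≤ m) (hS : Setting (R m F) (H hm F) ⊤) {σ : F ≃+* F}
    (hσ : orderOf σ = 2) {t : Sim m F} (htσ : fieldMap σ (t : GL (Fin m ⊕ Fin m) F) = t)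
    (ht2 : (t : GL (Fin m ⊕ Fin m) F) * t = 1) (ht1 : cls hm t ≠ 1)
    {y₀ : MulAut (Cfsg.POmega F (Cfsg.quadFormPlus m F))}
    (hy₀ : Induced (R m F) (t : GL (Fin m ⊕ Fin m) F) σ y₀)
    {δ : MulAut (Cfsg.POmega F (Cfsg.quadFormPlus m F))} (hδ : δ ∈ (conjH hS).range)
    (ho : orderOf (δ * y₀) = 2) : Cfsg.IsConjUnder (conjH hS).range y₀ (δ * y₀) := by
  haveI : Nonempty (Fin m ⊕ Fin m) := ⟨.inl ⟨0, by omega⟩⟩
  have htN : normGL σ (t : GL (Fin m ⊕ Fin m) F) (orderOf σ) = 1 := by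
    rw [normGL_of_fixed htσ, hσ, pow_two, ht2]
  obtain ⟨k, hk⟩ := AutPSL.hilbert90 σ _ htN
  have hS' := twist_setting hm hS t hk
  rw [← conjH_twist_range hS hS'] at hδ ⊢
  refine field_coset hS' (Subgroup.mem_zpowers σ) ?_ (twist_hilb hk fun h hh hN => ?_) hδ
    (ho.trans hσ.symm)
  · rw [induced_twist_iff, mul_one, ← hk]
    exact hy₀
  · obtain ⟨hhs, hh1⟩ := (mem_H hm).1 hh
    exact exists_twist_conj hm (g := (⟨h, hhs⟩ : Sim m F) * t) hN htN htσ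
      (by rw [map_mul, hh1, one_mul]) ht1

/-- A graph-field automorphism of prime order is an involution, conjugate to every standard one. -/
theorem graph_normal (hm : 5 ≤ m) (hS : Setting (R m F) (H (show 3 ≤ m by omega) F) ⊤)
    {x : MulAut (Cfsg.POmega F (Cfsg.quadFormPlus m F))}
    (hx : Cfsg.IsGraphFieldAutClassPOmegaPlus m x) {r : ℕ} (hr : r.Prime) (hxr : orderOf x = r) :
    r = 2 ∧ ∃ σ : F ≃+* F, orderOf σ = 2 ∧
      ∀ (t : Sim m F) (y₀ : MulAut (Cfsg.POmega F (Cfsg.quadFormPlus m F))),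
        fieldMap σ (t : GL (Fin m ⊕ Fin m) F) = t → (t : GL (Fin m ⊕ Fin m) F) * t = 1 →
        cls (show 3 ≤ m by omega) t ≠ 1 → Induced (R m F) (t : GL (Fin m ⊕ Fin m) F) σ y₀ →
        Cfsg.IsConjUnder (conjH hS).range y₀ x := by
  haveI : Nonempty (Fin m ⊕ Fin m) := ⟨.inl ⟨0, by omega⟩⟩
  haveI := hS.fin
  have hm3 : 3 ≤ m := by omega
  obtain ⟨α, γ, φ, σ, v, g, hσ1, hv, hvσ, hg, hγ, hφ, he⟩ := hx
  have hv' : qf m F v ≠ 0 := hv
  have hgr : g = ((refl (qf m F) v : ↥(Iso m F)) : GL (Fin m ⊕ Fin m) F) :=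
    Units.ext (hg.trans (Reflections.mat_refl hv').symm)
  have hgs : g ∈ Sim m F := hgr ▸ iso_le_sim _ (refl (qf m F) v).2
  let t : Sim m F := ⟨g, hgs⟩
  have htσ : fieldMap σ g = g := Units.ext (by
    show (g : Matrix (Fin m ⊕ Fin m) (Fin m ⊕ Fin m) F).map σ = _
    rw [hg]
    exact reflection_fixed (qf_sigma σ) hvσ)
  have hc : cls hm3 t = Multiplicative.ofAdd 1 := cls_refl hm3 hv' hgr
  have h1 : Induced (R m F) g σ (α * x * α⁻¹) := by
    have h := Induced.comp (normalises_sim (one_mem _) σ)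
      (show Induced (R m F) g 1 γ from induced_iff.1 hγ) (isFieldAut_iff.1 hφ)
    rw [map_one, mul_one, one_mul, ← he] at h
    exact h
  obtain ⟨hns, hp⟩ := induced_pow hm3 hS hgs h1 r
  have hxr' : (α * x * α⁻¹) ^ r = 1 := by rw [← AutPSL.orderOf_conj' α x] at hxr; rw [← hxr, pow_orderOf_eq_one]
  rw [hxr'] at hp
  obtain ⟨hσr, c, hc'⟩ := eq_one_sim hm3 hns hp
  have hr2 : r = 2 := by
    have h2 : cls hm3 t ^ r = 1 := by
      rw [← cls_pow_fixed hm3 (t := t) htσ r hns, ← cls_scalar hm3 c]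
      exact congrArg _ (Subtype.ext hc')
    rw [hc, ← ofAdd_nsmul, ← ofAdd_zero, Multiplicative.ofAdd.apply_eq_iff_eq, nsmul_one,
      ZMod.natCast_eq_zero_iff_even] at h2
    exact (Nat.Prime.even_iff hr).1 h2
  subst hr2
  have hσ2 : orderOf σ = 2 := orderOf_eq_prime hσr hσ1
  refine ⟨rfl, σ, hσ2, fun t' y₀ ht' ht2 ht1 hy₀ => ?_⟩
  obtain ⟨w, hw, hw1⟩ := exists_same_class hm hS t h1
  have hmem := mem_coset hm3 hS w t' hw hy₀ (hw1.trans (hc.trans (eq_ofAdd_one ht1).symm))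
  have := graph_coset hm3 hS hσ2 ht' ht2 ht1 hy₀ hmem (by rw [inv_mul_cancel_right, hxr])
  rwa [inv_mul_cancel_right] at this

theorem isConjUnder_trans {X : Type*} [Group X] {G : Subgroup X} {a b c : X}
    (h₁ : Cfsg.IsConjUnder G a b) (h₂ : Cfsg.IsConjUnder G a c) : Cfsg.IsConjUnder G b c := by
  obtain ⟨p, hp, rfl⟩ := h₁
  obtain ⟨q, hq, rfl⟩ := h₂
  exact ⟨q * p⁻¹, mul_mem hq (inv_mem hp), by group⟩

/-- Elements of the coset having the same prime order are conjugate. -/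
theorem coset_order_iff (hm : 5 ≤ m) (x δ : MulAut (Cfsg.POmega F (Cfsg.quadFormPlus m F)))
    (hx : Cfsg.IsFieldAutClassPOmega (Cfsg.quadFormPlus m F) x ∨
      Cfsg.IsGraphFieldAutClassPOmegaPlus m x) {r : ℕ} (hr : r.Prime) (hxr : orderOf x = r)
    (hδ : δ ∈ Cfsg.inndiagPOmegaPlus m F) :
    orderOf (δ * x) = r ↔ Cfsg.IsConjUnder (Cfsg.inndiagPOmegaPlus m F) x (δ * x) := by
  refine ⟨fun ho => ?_, fun ⟨h, _, e⟩ => by rw [e, AutPSL.orderOf_conj', hxr]⟩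
  haveI : Nonempty (Fin m ⊕ Fin m) := ⟨.inl ⟨0, by omega⟩⟩
  have hm3 : 3 ≤ m := by omega
  have hS := setting (F := F) hm3
  rw [← range_eq hm3 hS] at hδ ⊢
  have hcoset : ∀ y₀, Cfsg.IsConjUnder (conjH hS).range y₀ x → δ * x * y₀⁻¹ ∈ (conjH hS).range := by
    rintro y₀ ⟨h, hh, rfl⟩
    rw [show δ * (h * y₀ * h⁻¹) * y₀⁻¹ = δ * h * (y₀ * h⁻¹ * y₀⁻¹) by group]
    exact mul_mem (mul_mem hδ hh) (conj_inndiag hm hS y₀ (inv_mem hh))
  rcases hx with hx | hx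
  · obtain ⟨σ, φ, hσ, hφ, hc⟩ := field_normal hm hS hx
    have := field_coset hS (Subgroup.mem_top _) hφ (exists_coboundary hm3) (hcoset φ hc)
      (by rw [inv_mul_cancel_right, ho, hσ, hxr])
    rw [inv_mul_cancel_right] at this
    exact isConjUnder_trans hc this
  · obtain ⟨rfl, σ, hσ, hall⟩ := graph_normal hm hS hx hr hxr
    have hm0 : 0 < m := by omega
    let t : Sim m F := ⟨r1 hm0 F, r1_mem hm0⟩
    haveI := hS.fin
    obtain ⟨y₀, hy₀⟩ := AutPSL.exists_induced (rho_injective _) (normalises_sim t.2 σ)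
    have ht1 : cls hm3 t ≠ 1 := by rw [cls_r1 hm3]; decide
    have hc := hall t y₀ (r1_fixed hm0 σ) (r1_sq hm0) ht1 hy₀
    have := graph_coset hm3 hS hσ (r1_fixed hm0 σ) (r1_sq hm0) ht1 hy₀ (hcoset y₀ hc)
      (by rw [inv_mul_cancel_right, ho])
    rw [inv_mul_cancel_right] at this
    exact isConjUnder_trans hc this

end Cfsg.Agent.FieldAutGen.Plus
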