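import Mathlib
import Cfsg.Agent.FieldAutGen.PlusBasic
import Cfsg.Agent.Forms59.PlusOmega

/-!
The inner-diagonal quotient of `PΩ⁺`: multiplier and spinor norm on the class-preserving similarities
(helper60).
-/

set_option autoImplicit false
set_option maxHeartbeats 400000

namespace Cfsg.Agent.FieldAutGen.Plus

open Matrix QuadraticMap
open Cfsg.Agent.AutPSL (fieldMap scalarGL)
open Cfsg.Agent.FieldAutGen.Orth
open Cfsg.Agent.Reflections (mat refl act theta detHom)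

universe u

variable {m : ℕ} {F : Type u} [Field F]

/-- The square class of a unit. -/
noncomputable def etaU (F : Type u) [Field F] [Fintype F] [DecidableEq F] : Fˣ →* ℤˣ :=
  (quadraticChar F).toUnitHom

theorem etaU_coe [Fintype F] [DecidableEq F] (a : Fˣ) : ((etaU F a : ℤˣ) : ℤ) = quadraticChar F (a : F) :=
  MulChar.coe_toUnitHom _ _

theorem etaU_eq_one_iff [Fintype F] [DecidableEq F] (a : Fˣ) : etaU F a = 1 ↔ IsSquare (a : F) := by
  rw [← quadraticChar_one_iff_isSquare a.ne_zero, ← etaU_coe, Units.val_eq_one]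

theorem etaU_of_not [Fintype F] [DecidableEq F] (a : Fˣ) (h : ¬ IsSquare (a : F)) : etaU F a = -1 :=
  (Int.units_eq_one_or _).resolve_left fun e => h ((etaU_eq_one_iff a).1 e)

/-- Diagonal isometries. -/
noncomputable def dg (m : ℕ) (F : Type u) [Field F] : (Fin m → Fˣ) →* ↥(Iso m F) :=
  ((diagHom m F).comp (MonoidHom.mk' (fun d => Sum.elim d fun j => (d j)⁻¹) fun a b => by
    funext j; rcases j with j | j <;> simp [mul_comm])).codRestrict _ fun d => mem_iso.2 fun v => by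
    rw [show ∀ M : Matrix (Fin m ⊕ Fin m) (Fin m ⊕ Fin m) F, qf m F (M *ᵥ v) =
      Cfsg.quadFormPlus m F (M *ᵥ v) from fun _ => rfl, qf_apply]
    simp only [Cfsg.quadFormPlus, MonoidHom.comp_apply, MonoidHom.mk'_apply, diagHom_coe,
      mulVec_diagonal, Sum.elim_inl, Sum.elim_inr]
    refine Finset.sum_congr rfl fun j _ => ?_
    rw [mul_mul_mul_comm, ← Units.val_mul, mul_inv_cancel, Units.val_one, one_mul]

theorem dg_coe (d : Fin m → Fˣ) :
    ((dg m F d : ↥(Iso m F)) : GL (Fin m ⊕ Fin m) F) = diagHom m F (Sum.elim d fun j => (d j)⁻¹) :=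
  rfl

theorem act_dg (d : Fin m → Fˣ) (x : Fin m ⊕ Fin m → F) :
    act (dg m F d) x = fun l => ((Sum.elim d (fun j => (d j)⁻¹) l : Fˣ) : F) * x l := by
  funext l
  show ((diagHom m F (Sum.elim d fun j => (d j)⁻¹) : GL (Fin m ⊕ Fin m) F) :
    Matrix (Fin m ⊕ Fin m) (Fin m ⊕ Fin m) F).mulVec x l = _
  rw [diagHom_coe, mulVec_diagonal]

/-- The vector `e_j + b f_j`. -/
def pairVec (j : Fin m) (b : F) : Fin m ⊕ Fin m → F :=
  Pi.single (.inl j) 1 + Pi.single (.inr j) b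

theorem qf_pairVec (j : Fin m) (b : F) : qf m F (pairVec j b) = b := by
  simp [qf_apply, Cfsg.quadFormPlus, pairVec, Pi.single_apply]

theorem polar_pairVec (j : Fin m) (b : F) (x : Fin m ⊕ Fin m → F) :
    polar ⇑(qf m F) (pairVec j b) x = x (.inr j) + b * x (.inl j) := by
  rw [qf_eq, Forms59.polar_qPlus']
  simp [pairVec, Pi.single_apply, Finset.sum_add_distrib, mul_comm]

theorem dg_single (j : Fin m) (b : Fˣ) :
    dg m F (Pi.mulSingle j b) = refl (qf m F) (pairVec j (1 : F)) * refl (qf m F) (pairVec j (b : F)) := by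
  have h1 : qf m F (pairVec j (1 : F)) ≠ 0 := by rw [qf_pairVec]; exact one_ne_zero
  have hb : qf m F (pairVec j (b : F)) ≠ 0 := by rw [qf_pairVec]; exact b.ne_zero
  refine Reflections.isom_ext fun x => ?_
  rw [Reflections.act_mul, Reflections.act_refl hb, Reflections.act_refl h1, act_dg, qf_pairVec,
    qf_pairVec, polar_pairVec, polar_pairVec]
  funext l
  rcases l with l | l <;> by_cases hl : l = j
  · subst hl
    simp [pairVec]
    field_simp
    ring
  · simp [pairVec, hl, Pi.mulSingle_eq_of_ne hl]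
  · subst hl
    simp [pairVec]
    field_simp
    ring
  · simp [pairVec, hl, Pi.mulSingle_eq_of_ne hl]

variable [Fintype F]

theorem cls0_dg (d : Fin m → Fˣ) : cls0 (dg m F d) = 1 := by
  show (cls0.comp (dg m F)) d = 1
  rw [← Finset.univ_prod_mulSingle d, map_prod]
  refine Finset.prod_eq_one fun j _ => ?_
  rw [MonoidHom.comp_apply]
  rw [dg_single, map_mul, cls0_refl (by rw [qf_pairVec]; exact one_ne_zero),
    cls0_refl (by rw [qf_pairVec]; exact (d j).ne_zero)]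
  decide

section odd

variable [DecidableEq F]

theorem theta_refl_eta (h2 : (2 : F) ≠ 0) {ε : F} (hε : ¬ IsSquare ε) {v : Fin m ⊕ Fin m → F}
    (hv : qf m F v ≠ 0) : theta (qf m F) ε (refl (qf m F) v) = etaU F (Units.mk0 _ hv) :=
  Units.ext ((Forms59.theta_pair_refl h2 hε hv).1.trans (etaU_coe (Units.mk0 _ hv)).symm)

theorem theta_dg (h2 : (2 : F) ≠ 0) {ε : F} (hε : ¬ IsSquare ε) (d : Fin m → Fˣ) :
    theta (qf m F) ε (dg m F d) = ∏ j, etaU F (d j) := by
  show ((theta (qf m F) ε).comp (dg m F)) d = _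
  conv_lhs => rw [← Finset.univ_prod_mulSingle d, map_prod]
  refine Finset.prod_congr rfl fun j _ => ?_
  rw [MonoidHom.comp_apply]
  rw [dg_single, map_mul, theta_refl_eta h2 hε (by rw [qf_pairVec]; exact one_ne_zero),
    theta_refl_eta h2 hε (by rw [qf_pairVec]; exact (d j).ne_zero),
    show Units.mk0 (qf m F (pairVec j (1 : F))) (by rw [qf_pairVec]; exact one_ne_zero) = 1 from
      Units.ext (qf_pairVec j 1), map_one, one_mul]
  exact congrArg _ (Units.ext (qf_pairVec j _))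

/-- The nontrivial character of a group of order two. -/
noncomputable def sgn : Multiplicative (ZMod 2) →* ℤˣ :=
  MonoidHom.mk' (fun x => if x = 1 then 1 else -1) (by decide)

theorem theta_conjIso (hm : 3 ≤ m) (h2 : (2 : F) ≠ 0) {ε : F} (hε : ¬ IsSquare ε)
    {g : GL (Fin m ⊕ Fin m) F} (hg : g ∈ Sim m F) {h : ↥(Iso m F)} (h1 : cls0 h = 1) :
    theta (qf m F) ε (conjIso hg h) = theta (qf m F) ε h := by
  obtain ⟨c, hc⟩ := id hg
  have key : ∀ v, qf m F v ≠ 0 →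
      theta (qf m F) ε (conjIso hg (refl (qf m F) v)) = etaU F c * theta (qf m F) ε (refl (qf m F) v) := by
    intro v hv
    obtain ⟨hv', he⟩ := conj_refl_sim c.ne_zero hc hv
    rw [show conjIso hg (refl (qf m F) v) = refl (qf m F) ((g : Matrix _ _ F) *ᵥ v) from Subtype.ext he,
      theta_refl_eta h2 hε hv', theta_refl_eta h2 hε hv, ← map_mul]
    exact congrArg _ (Units.ext (hc v))
  by_cases hsq : etaU F c = 1
  · have e : (theta (qf m F) ε).comp (conjIso hg) = theta (qf m F) ε :=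
      hom_ext_refl hm fun v hv => by rw [MonoidHom.comp_apply, key v hv, hsq, one_mul]
    exact DFunLike.congr_fun e h
  · have e : (theta (qf m F) ε).comp (conjIso hg) = theta (qf m F) ε * sgn.comp cls0 :=
      hom_ext_refl hm fun v hv => by
        rw [MonoidHom.comp_apply, key v hv, (Int.units_eq_one_or _).resolve_left hsq,
          MonoidHom.mul_apply, MonoidHom.comp_apply, cls0_refl hv, mul_comm]
        rfl
    have e2 := DFunLike.congr_fun e h
    rw [MonoidHom.comp_apply, MonoidHom.mul_apply, MonoidHom.comp_apply, h1, map_one, mul_one] at e2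
    exact e2

omit [DecidableEq F] in
theorem isoPart_mul (hm : 0 < m) (g h : Sim m F) : isoPart hm (g * h) =
    isoPart hm g * conjIso (delta_mem (mult (qf m F) (qf_e1 hm) g)) (isoPart hm h) := by
  apply Subtype.ext
  show ((g : GL (Fin m ⊕ Fin m) F) * (h : GL (Fin m ⊕ Fin m) F)) *
      (delta m F (mult (qf m F) (qf_e1 hm) (g * h)))⁻¹ =
    (g : GL (Fin m ⊕ Fin m) F) * (delta m F (mult (qf m F) (qf_e1 hm) g))⁻¹ *
      (delta m F (mult (qf m F) (qf_e1 hm) g) *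
        ((h : GL (Fin m ⊕ Fin m) F) * (delta m F (mult (qf m F) (qf_e1 hm) h))⁻¹) *
        (delta m F (mult (qf m F) (qf_e1 hm) g))⁻¹)
  rw [map_mul, map_mul, _root_.mul_inv_rev]
  simp only [mul_assoc, inv_mul_cancel_left]

omit [DecidableEq F] in
theorem cls0_isoPart (hm : 3 ≤ m) (g : ↥(H hm F)) :
    cls0 (isoPart (Nat.zero_lt_of_lt hm) (Subgroup.inclusion (H_le hm) g)) = 1 := by
  obtain ⟨h, h1⟩ := (mem_H hm).1 g.2
  exact h1

omit [DecidableEq F] in
/-- The spinor norm of the isometry part. -/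
noncomputable def chiSpin (hm : 3 ≤ m) (h2 : (2 : F) ≠ 0) {ε : F} (hε : ¬ IsSquare ε) :
    ↥(H hm F) →* ℤˣ :=
  MonoidHom.mk' (fun g => theta (qf m F) ε (isoPart (Nat.zero_lt_of_lt hm) (Subgroup.inclusion (H_le hm) g)))
    fun g h => by
      classical
      rw [map_mul, isoPart_mul, map_mul, theta_conjIso hm h2 hε _ (cls0_isoPart hm h)]

omit [DecidableEq F] in
/-- Multiplier and spinor norm. -/
noncomputable def chiP (hm : 3 ≤ m) (h2 : (2 : F) ≠ 0) {ε : F} (hε : ¬ IsSquare ε) :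
    ↥(H hm F) →* Fˣ × ℤˣ :=
  ((mult (qf m F) (qf_e1 (Nat.zero_lt_of_lt hm))).comp (Subgroup.inclusion (H_le hm))).prod
    (chiSpin hm h2 hε)

omit [DecidableEq F] in
/-- Scalars as class-preserving similarities. -/
noncomputable def scal (hm : 3 ≤ m) (F : Type u) [Field F] [Fintype F] : Fˣ →* ↥(H hm F) :=
  (Matrix.GeneralLinearGroup.scalar (R := F) (Fin m ⊕ Fin m)).codRestrict _ fun c =>
    (mem_H hm).2 ⟨scalar_mem_sim _ c, cls_scalar hm c⟩

omit [DecidableEq F] in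
theorem delta_mulVec_qf (d : Fin m → Fˣ) (μ : Fˣ) (v : Fin m ⊕ Fin m → F) :
    qf m F ((((dg m F d : ↥(Iso m F)) : GL (Fin m ⊕ Fin m) F) * delta m F μ : GL (Fin m ⊕ Fin m) F) *ᵥ v) =
      (μ : F) * qf m F v := by
  rw [Units.val_mul, ← mulVec_mulVec, mem_iso.1 (dg m F d).2, qf_delta]

omit [DecidableEq F] in
theorem isoPart_dg_delta (hm : 0 < m) (d : Fin m → Fˣ) (μ : Fˣ) (g : Sim m F)
    (hg : (g : GL (Fin m ⊕ Fin m) F) = ((dg m F d : ↥(Iso m F)) : GL (Fin m ⊕ Fin m) F) * delta m F μ) :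
    mult (qf m F) (qf_e1 hm) g = μ ∧ isoPart hm g = dg m F d := by
  have hμ : mult (qf m F) (qf_e1 hm) g = μ :=
    Units.ext (mult_eq _ _ g fun v => by rw [hg]; exact delta_mulVec_qf d μ v)
  exact ⟨hμ, Subtype.ext (by rw [isoPart_coe, hμ, hg, mul_inv_cancel_right])⟩

omit [DecidableEq F] in
theorem dg_delta_mem (hm : 3 ≤ m) (d : Fin m → Fˣ) (μ : Fˣ) :
    ((dg m F d : ↥(Iso m F)) : GL (Fin m ⊕ Fin m) F) * delta m F μ ∈ H hm F :=
  (mem_H hm).2 ⟨mul_mem (iso_le_sim _ (dg m F d).2) (delta_mem μ), by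
    rw [cls_def, (isoPart_dg_delta _ d μ _ rfl).2, cls0_dg]⟩

theorem chiP_dg_delta (hm : 3 ≤ m) (h2 : (2 : F) ≠ 0) {ε : F} (hε : ¬ IsSquare ε) (d : Fin m → Fˣ)
    (μ : Fˣ) (g : ↥(H hm F))
    (hg : (g : GL (Fin m ⊕ Fin m) F) = ((dg m F d : ↥(Iso m F)) : GL (Fin m ⊕ Fin m) F) * delta m F μ) :
    chiP hm h2 hε g = (μ, ∏ j, etaU F (d j)) := by
  obtain ⟨h1, h3⟩ := isoPart_dg_delta (Nat.zero_lt_of_lt hm) d μ (Subgroup.inclusion (H_le hm) g) hg
  refine Prod.ext h1 ?_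
  show theta (qf m F) ε _ = _
  rw [h3, theta_dg h2 hε]

theorem chiP_scal (hm : 3 ≤ m) (h2 : (2 : F) ≠ 0) {ε : F} (hε : ¬ IsSquare ε) (c : Fˣ) :
    chiP hm h2 hε (scal hm F c) = (c * c, etaU F c ^ m) := by
  rw [chiP_dg_delta hm h2 hε (fun _ => c⁻¹) (c * c)]
  · rw [Finset.prod_const, Finset.card_univ, Fintype.card_fin, map_inv, Int.units_inv_eq_self]
  · apply Units.ext
    show ((scalarGL (Fin m ⊕ Fin m) c : GL (Fin m ⊕ Fin m) F) : Matrix (Fin m ⊕ Fin m) (Fin m ⊕ Fin m) F) = _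
    rw [Units.val_mul, dg_coe, diagHom_coe, AutPSL.scalarGL_coe, smul_one_eq_diagonal,
      show (delta m F (c * c) : Matrix (Fin m ⊕ Fin m) (Fin m ⊕ Fin m) F) = Matrix.diagonal fun j =>
        (((Sum.elim (fun _ => c * c) fun _ => 1) j : Fˣ) : F) from rfl, diagonal_mul_diagonal]
    congr 1
    funext j
    rcases j with j | j <;> simp

theorem chiP_surjective (hm : 3 ≤ m) (h2 : (2 : F) ≠ 0) {ε : F} (hε : ¬ IsSquare ε) :
    Function.Surjective (chiP (m := m) hm h2 hε) := by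
  rintro ⟨μ, s⟩
  have hε0 : ε ≠ 0 := fun h => hε (h ▸ IsSquare.zero)
  obtain ⟨b, hb⟩ : ∃ b : Fˣ, etaU F b = s := by
    rcases Int.units_eq_one_or s with rfl | rfl
    · exact ⟨1, map_one _⟩
    · exact ⟨Units.mk0 ε hε0, etaU_of_not _ (by simpa using hε)⟩
  let j₀ : Fin m := ⟨0, by omega⟩
  refine ⟨⟨_, dg_delta_mem hm (Pi.mulSingle j₀ b) μ⟩, ?_⟩
  rw [chiP_dg_delta hm h2 hε (Pi.mulSingle j₀ b) μ _ rfl, Fintype.prod_eq_single j₀ (fun j hj => by
    rw [Pi.mulSingle_eq_of_ne hj, map_one]), Pi.mulSingle_eq_same, hb]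

theorem chiP_eq_one_iff (hm : 3 ≤ m) (h2 : (2 : F) ≠ 0) {ε : F} (hε : ¬ IsSquare ε) (g : ↥(H hm F)) :
    chiP hm h2 hε g = 1 ↔ ∃ s : ↥(Cfsg.Omega F ⇑(qf m F)), (g : GL (Fin m ⊕ Fin m) F) = rho ⇑(qf m F) s := by
  classical
  have hm0 := Nat.zero_lt_of_lt hm
  constructor
  · intro h
    set u := isoPart hm0 (Subgroup.inclusion (H_le hm) g) with hu
    have hμ : mult (qf m F) (qf_e1 hm0) (Subgroup.inclusion (H_le hm) g) = 1 := congrArg Prod.fst h
    have hθ : theta (qf m F) ε u = 1 := congrArg Prod.snd h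
    have hdet : detHom (qf m F) u = 1 := by
      have h1 := (Forms59.classHom_eq_one_iff_det h2 (toP u)).1 (cls0_isoPart hm g)
      exact Units.ext h1
    refine ⟨⟨u, ?_⟩, ?_⟩
    · rw [Reflections.omega_eq_ker h2 qf_nondeg (by simp; omega) hε, MonoidHom.mem_ker]
      simp only [Reflections.thetaPair, MonoidHom.prod_apply, Prod.mk_eq_one,
        theta_one_eq h2 _ qf_nondeg hε hdet, hθ, and_self]
    · show (g : GL (Fin m ⊕ Fin m) F) = (u : GL (Fin m ⊕ Fin m) F)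
      rw [hu, isoPart_coe, hμ, map_one, inv_one, mul_one]
      rfl
  · rintro ⟨s, hs⟩
    have hμ : mult (qf m F) (qf_e1 hm0) (Subgroup.inclusion (H_le hm) g) = 1 :=
      Units.ext (mult_eq _ _ _ fun v => by
        show qf m F (((g : GL (Fin m ⊕ Fin m) F) : Matrix _ _ F) *ᵥ v) = _
        rw [hs, Units.val_one, one_mul]
        exact mem_iso.1 s.1.2 v)
    refine Prod.ext hμ ?_
    show theta (qf m F) ε _ = 1
    rw [show isoPart hm0 (Subgroup.inclusion (H_le hm) g) = s.1 from Subtype.ext (by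
      rw [isoPart_coe, hμ, map_one, inv_one, mul_one]; exact hs)]
    exact Abelianization.commutator_subset_ker (theta (qf m F) ε) s.2

theorem chiP_hN (hm : 3 ≤ m) (h2 : (2 : F) ≠ 0) {ε : F} (hε : ¬ IsSquare ε) (g : ↥(H hm F)) :
    chiP hm h2 hε g ∈ ((chiP hm h2 hε).comp (scal hm F)).range ↔
      ∃ (s : ↥(Cfsg.Omega F ⇑(qf m F))) (c : Fˣ),
        (g : GL (Fin m ⊕ Fin m) F) = rho ⇑(qf m F) s * scalarGL _ c := by
  constructor
  · rintro ⟨c, hc⟩
    obtain ⟨s, hs⟩ := (chiP_eq_one_iff hm h2 hε (g * (scal hm F c)⁻¹)).1 (by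
      rw [map_mul, map_inv, ← hc]; exact mul_inv_cancel _)
    refine ⟨s, c, ?_⟩
    rw [← hs]
    exact (inv_mul_cancel_right _ _).symm
  · rintro ⟨s, c, hg⟩
    refine ⟨c, ?_⟩
    have h1 : chiP hm h2 hε (g * (scal hm F c)⁻¹) = 1 := (chiP_eq_one_iff hm h2 hε _).2 ⟨s, by
      show (g : GL (Fin m ⊕ Fin m) F) * (scalarGL _ c)⁻¹ = _
      rw [hg, mul_inv_cancel_right]⟩
    rw [map_mul, map_inv, mul_inv_eq_one] at h1
    exact h1.symm

end odd

/-- In characteristic two every class-preserving similarity is inner. -/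
theorem mem_omega_scalar (hm : 3 ≤ m) (h2 : (2 : F) = 0) (g : ↥(H hm F)) :
    ∃ (s : ↥(Cfsg.Omega F ⇑(qf m F))) (c : Fˣ),
      (g : GL (Fin m ⊕ Fin m) F) = rho ⇑(qf m F) s * scalarGL _ c := by
  haveI := Forms59.charTwo_of_two_eq_zero h2
  have hm0 := Nat.zero_lt_of_lt hm
  obtain ⟨hgs, hg1⟩ := (mem_H hm).1 g.2
  set μ := mult (qf m F) (qf_e1 hm0) ⟨(g : GL (Fin m ⊕ Fin m) F), hgs⟩ with hμdef
  obtain ⟨r, hr⟩ := Forms59.isSquare_of_two_eq_zero h2 (μ : F)
  have hr0 : r ≠ 0 := fun h => μ.ne_zero (by rw [hr, h, zero_mul])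
  set c := Units.mk0 r hr0
  let g' : Sim m F := ⟨(g : GL (Fin m ⊕ Fin m) F) * (scalarGL _ c)⁻¹,
    mul_mem hgs (inv_mem (scalar_mem_sim _ c))⟩
  have hiso : (g' : GL (Fin m ⊕ Fin m) F) ∈ Iso m F := by
    refine mem_iso.2 fun v => ?_
    show qf m F ((((g : GL (Fin m ⊕ Fin m) F) * (scalarGL _ c)⁻¹ : GL (Fin m ⊕ Fin m) F)) *ᵥ v) = _
    rw [← map_inv, Units.val_mul, ← mulVec_mulVec, mult_spec (qf m F) (qf_e1 hm0) ⟨_, hgs⟩, ← hμdef,
      AutPSL.scalarGL_coe, smul_mulVec, one_mulVec, QuadraticMap.map_smul, smul_eq_mul, hr, ← mul_assoc,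
      Units.val_inv_eq_inv_val, Units.val_mk0]
    field_simp
  have hc : cls0 (⟨_, hiso⟩ : ↥(Iso m F)) = 1 := by
    rw [← cls_iso hm, show (⟨(g' : GL (Fin m ⊕ Fin m) F), iso_le_sim _ hiso⟩ : Sim m F) =
      (⟨(g : GL (Fin m ⊕ Fin m) F), hgs⟩ : Sim m F) * (⟨_, scalar_mem_sim _ c⟩ : Sim m F)⁻¹ from
        Subtype.ext rfl, map_mul, map_inv, hg1, cls_scalar, inv_one, one_mul]
  have hmem : (⟨_, hiso⟩ : ↥(Iso m F)) ∈ Cfsg.Omega F ⇑(qf m F) := by
    obtain ⟨vs, hvs, he⟩ := Forms59.exists_reflProd qf_nondeg (Or.inr (by simp; omega)) (⟨_, hiso⟩ : ↥(Iso m F))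
    have hlen : Even vs.length := by
      rw [he, Forms59.parity_reflProd (fun v hv => cls0_refl hv) vs hvs, ofAdd_eq_one,
        ZMod.natCast_eq_zero_iff_even] at hc
      exact hc
    rw [he]
    exact Forms59.mem_omega_of_even_square qf_nondeg (Or.inr (by simp; omega)) (by simp; omega) vs hvs
      hlen (Forms59.isSquare_of_two_eq_zero h2 _)
  exact ⟨⟨_, hmem⟩, c, (inv_mul_cancel_right _ _).symm⟩

end Cfsg.Agent.FieldAutGen.Plus
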