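import Mathlib

/-!
Index computations in `Fˣ × {±1}` for the counts of classes (helper60).
-/

set_option autoImplicit false

namespace Cfsg.Agent.FieldAutGen.Count

universe u v

variable {F : Type u} [Field F] [Fintype F]

theorem index_squares (h2 : (2 : F) ≠ 0) : (powMonoidHom 2 : Fˣ →* Fˣ).range.index = 2 := by
  rw [Subgroup.index_range]
  have hne : (-1 : Fˣ) ≠ 1 := fun h => h2 (by
    have h1 := congrArg Units.val h
    rw [Units.val_neg, Units.val_one] at h1
    linear_combination -h1)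
  rw [Nat.card_eq_two_iff]
  refine ⟨⟨-1, by simp [MonoidHom.mem_ker]⟩, ⟨1, one_mem _⟩, fun h => hne (congrArg Subtype.val h),
    Set.eq_univ_of_forall ?_⟩
  rintro ⟨x, hx⟩
  rw [MonoidHom.mem_ker, powMonoidHom_apply, sq] at hx
  rcases mul_self_eq_one_iff.1 (by simpa using congrArg Units.val hx : (x : F) * x = 1) with h | h
  · exact Or.inr (Set.mem_singleton_iff.2 (Subtype.ext (Units.ext h)))
  · exact Or.inl (Subtype.ext (Units.ext (by simpa using h)))

/-- A subgroup of `Fˣ × {±1}` lying over the squares and onto them. -/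
theorem index_two_or_four (h2 : (2 : F) ≠ 0) (R : Subgroup (Fˣ × ℤˣ))
    (hsq : ∀ x ∈ R, ∃ c : Fˣ, x.1 = c * c) (hfull : ∀ c : Fˣ, ∃ s : ℤˣ, (c * c, s) ∈ R) :
    ((((1 : Fˣ), (-1 : ℤˣ)) ∈ R) → R.index = 2) ∧ ((((1 : Fˣ), (-1 : ℤˣ)) ∉ R) → R.index = 4) := by
  set S := (powMonoidHom 2 : Fˣ →* Fˣ).range with hS
  have hmem : ∀ μ, μ ∈ S ↔ ∃ c, μ = c * c := fun μ =>
    ⟨fun ⟨c, hc⟩ => ⟨c, hc ▸ sq c⟩, fun ⟨c, hc⟩ => ⟨c, hc ▸ sq c⟩⟩
  have hmap : R.map (MonoidHom.fst Fˣ ℤˣ) = S := by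
    refine le_antisymm ?_ fun μ hμ => ?_
    · rintro _ ⟨x, hx, rfl⟩
      exact (hmem _).2 (hsq x hx)
    · obtain ⟨c, rfl⟩ := (hmem μ).1 hμ
      obtain ⟨s, hs⟩ := hfull c
      exact ⟨_, hs, rfl⟩
  constructor
  · intro hm
    have hR : R = S.comap (MonoidHom.fst Fˣ ℤˣ) := by
      refine le_antisymm (Subgroup.map_le_iff_le_comap.1 hmap.le) fun x hx => ?_
      obtain ⟨c, hc⟩ := (hmem x.1).1 hx
      obtain ⟨s, hs⟩ := hfull c
      have e : x = (c * c, s) ∨ x = (c * c, s) * (1, -1) := by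
        obtain ⟨μ, s'⟩ := x
        change μ = c * c at hc
        subst hc
        rcases Int.units_eq_one_or s with rfl | rfl <;> rcases Int.units_eq_one_or s' with rfl | rfl <;> simp
      rcases e with e | e <;> rw [e]
      · exact hs
      · exact mul_mem hs hm
    rw [hR, Subgroup.index_comap_of_surjective _ (fun μ => ⟨(μ, 1), rfl⟩), index_squares h2]
  · intro hm
    have hcard : Nat.card R = Nat.card S := by
      refine Nat.card_congr (Equiv.ofBijective (fun x : R => (⟨x.1.1, hmap ▸ ⟨x.1, x.2, rfl⟩⟩ : S)) ⟨?_, ?_⟩)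
      · rintro ⟨⟨μ, s⟩, hx⟩ ⟨⟨ν, s'⟩, hy⟩ e
        obtain rfl : μ = ν := congrArg Subtype.val e
        have hq : ((1 : Fˣ), s * s'⁻¹) ∈ R := by
          simpa using mul_mem hx (inv_mem hy)
        rcases Int.units_eq_one_or (s * s'⁻¹) with h | h
        · exact Subtype.ext (Prod.ext rfl (mul_inv_eq_one.1 h))
        · exact absurd (h ▸ hq) hm
      · rintro ⟨μ, hμ⟩
        rw [← hmap] at hμ
        obtain ⟨x, hx, rfl⟩ := hμ
        exact ⟨⟨x, hx⟩, rfl⟩
    have h1 := R.card_mul_index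
    have h3 := S.card_mul_index
    rw [hS, index_squares h2, ← hS] at h3
    rw [hcard, Nat.card_prod, ← h3, Nat.card_eq_fintype_card (α := ℤˣ), Fintype.card_units_int] at h1
    have h4 : 0 < Nat.card S := Nat.card_pos
    nlinarith

end Cfsg.Agent.FieldAutGen.Count
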