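import Mathlib
import Cfsg.Agent.FieldAutGen.PlusAut
import Cfsg.Agent.FieldAutGen.PlusChi
import Cfsg.Agent.FieldAutGen.MinusBasic
import Cfsg.Agent.FieldAutGen.SquareCount

/-!
The involutory graph-field automorphisms of `PΩ⁺_{2m}(q)`: centraliser and splitting of the class
(helper60).
-/

set_option autoImplicit false
set_option maxHeartbeats 800000

namespace Cfsg.Agent.FieldAutGen.Plus

open Matrix QuadraticMap
open Cfsg.Agent.AutPSL (fieldMap scalarGL Induced normGL normU)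
open Cfsg.Agent.FieldAutGen.Orth
open Cfsg.Agent.Reflections (mat refl act detHom theta)

universe u v

theorem nondeg_of_transport {ι ι' : Type} {K : Type u} [Field K] {Q : QuadraticForm K (ι → K)}
    {Q' : QuadraticForm K (ι' → K)} (L : (ι' → K) ≃ₗ[K] (ι → K)) {ν : K}
    (hL : ∀ v, Q (L v) = ν * Q' v) (hQ : Q.polarBilin.Nondegenerate) :
    Q'.polarBilin.Nondegenerate := by
  have key : ∀ x, (∀ y, polar ⇑Q' x y = 0) → x = 0 := fun x hx => by
    refine L.injective ((hQ.1 _ fun z => ?_).trans (map_zero L).symm)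
    obtain ⟨y, rfl⟩ := L.surjective z
    have := hx y
    simp only [polar] at this
    simp only [polarBilin_apply_apply, polar, ← map_add, hL]
    linear_combination ν * this
  exact ⟨fun x hx => key x hx, fun x hx => key x fun y => by rw [polar_comm]; exact hx y⟩

variable {m : ℕ} {F : Type u} [Field F]

/-- The coordinates of a twisted frame. -/
noncomputable def glEquiv (h : GL (Fin m ⊕ Fin m) F) :
    (Fin m ⊕ Fin m → F) ≃ₗ[F] (Fin m ⊕ Fin m → F) :=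
  LinearMap.GeneralLinearGroup.generalLinearEquiv F _ (Matrix.GeneralLinearGroup.toLin h)

theorem glEquiv_apply (h : GL (Fin m ⊕ Fin m) F) (v : Fin m ⊕ Fin m → F) :
    glEquiv h v = (h : Matrix (Fin m ⊕ Fin m) (Fin m ⊕ Fin m) F) *ᵥ v := rfl

/-- The form of minus type in all coordinates is nondegenerate over a field in which it is anisotropic. -/
theorem qm_nondeg [Finite F] (hm : 0 < m) {ζ : F} (hζ : ∀ t : F, t ^ 2 + t + ζ ≠ 0) :
    (qm hm F ζ).polarBilin.Nondegenerate :=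
  nondeg_of_transport (Q := Forms59.minusQF F (m - 1) 1 ζ)
    (LinearEquiv.funCongrLeft F F (mIdx hm).symm) (ν := 1)
    (fun v => by rw [one_mul]; rfl)
    (Forms59.minusQF_nondegenerate _ 1 ζ (Forms59.anisotropic_of_no_root ζ hζ))

/-- The sign set of the standard graph twist. -/
theorem r1_mulVec (hm : 0 < m) (x : Fin m ⊕ Fin m → F) :
    (r1 hm F : Matrix (Fin m ⊕ Fin m) (Fin m ⊕ Fin m) F) *ᵥ x =
      x - (x (.inr ⟨0, hm⟩) + x (.inl ⟨0, hm⟩)) • e1 hm F := by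
  have h := Reflections.act_refl (Q := qf m F) (v := e1 hm F) (by rw [qf_e1]; exact one_ne_zero) x
  rw [qf_e1, inv_one, one_mul, show e1 hm F = pairVec ⟨0, hm⟩ (1 : F) from rfl, polar_pairVec,
    one_mul] at h
  exact h

theorem twistH_conj {H : Subgroup (GL (Fin m ⊕ Fin m) F)} {k : GL (Fin m ⊕ Fin m) F} {σ : F ≃+* F}
    {t : GL (Fin m ⊕ Fin m) F} (ht : t = k * (fieldMap σ k)⁻¹) (g : twistH H k) :
    fieldMap σ (g : GL (Fin m ⊕ Fin m) F) = g ↔
      t * fieldMap σ (k * (g : GL (Fin m ⊕ Fin m) F) * k⁻¹) * t⁻¹ = k * (g : GL (Fin m ⊕ Fin m) F) * k⁻¹ := by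
  have e : t * fieldMap σ (k * (g : GL (Fin m ⊕ Fin m) F) * k⁻¹) * t⁻¹ =
      k * fieldMap σ (g : GL (Fin m ⊕ Fin m) F) * k⁻¹ := by
    rw [ht, map_mul, map_mul, map_inv]; group
  rw [e, mul_left_inj, mul_right_inj]

variable [Fintype F]

/-- The centraliser of a standard graph-field involution. -/
theorem graph_centralizer {k : ℕ} (hk : 3 ≤ k) {hm : 3 ≤ k + 1}
    (hS : Setting (R (k + 1) F) (H hm F) ⊤) {σ : F ≃+* F} (hσ : orderOf σ = 2) {t : Sim (k + 1) F}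
    (htσ : fieldMap σ (t : GL (Fin (k + 1) ⊕ Fin (k + 1)) F) = t)
    (ht2 : (t : GL (Fin (k + 1) ⊕ Fin (k + 1)) F) * t = 1) (ht1 : cls hm t ≠ 1)
    {y₀ : MulAut (Cfsg.POmega F (Cfsg.quadFormPlus (k + 1) F))}
    (hy₀ : Induced (R (k + 1) F) (t : GL (Fin (k + 1) ⊕ Fin (k + 1)) F) σ y₀)
    {F₀ : Type v} [Field F₀] [Fintype F₀] (i : F₀ →+* F) (hi : ∀ x : F, σ x = x ↔ ∃ y, i y = x)
    (hcard : Fintype.card F = Fintype.card F₀ ^ 2) :
    ∃ a₀ b₀ : F₀, (∀ z₁ z₂ : F₀, z₁ ^ 2 + a₀ * z₁ * z₂ + b₀ * z₂ ^ 2 = 0 → z₁ = 0 ∧ z₂ = 0) ∧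
      Nonempty (↥((conjH hS).range ⊓ Subgroup.centralizer {y₀}) ≃*
        ↥(Cfsg.inndiagPOmegaMinus k F₀ a₀ b₀)) := by
  have hm0 : 0 < k + 1 := Nat.succ_pos k
  haveI : Nonempty (Fin (k + 1) ⊕ Fin (k + 1)) := ⟨.inl ⟨0, hm0⟩⟩
  have hk2 : 2 ≤ k := by omega
  have htN : normGL σ (t : GL (Fin (k + 1) ⊕ Fin (k + 1)) F) (orderOf σ) = 1 := by
    rw [normGL_of_fixed htσ, hσ, pow_two, ht2]
  rcases dichotomy hm t.2 htN with ⟨h, hh, e⟩ | ⟨h, ν, ζ, ht, hζ, hroot, hv⟩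
  · exact absurd (cls_coboundary hm hh e) ht1
  obtain ⟨ζ₀, hζ₀⟩ := (hi ζ).1 hζ
  have hroot₀ : ∀ z : F₀, z ^ 2 + z + ζ₀ ≠ 0 := fun z hz => hroot (i z) ((hi _).2 ⟨z, rfl⟩) (by
    rw [← hζ₀, ← map_pow, ← map_add, ← map_add, hz, map_zero])
  have hab := Forms59.anisotropic_of_no_root ζ₀ hroot₀
  have hh : Minus.IsSplit k 1 ζ₀ i h := ⟨ν, fun v => by
    rw [hv, Minus.qm_eq, map_one, hζ₀]⟩
  have hS' := twist_setting hm hS t ht
  have hy₀' : Induced (twistRho (R (k + 1) F) h) 1 σ y₀ := by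
    rw [induced_twist_iff, mul_one, ← ht]; exact hy₀
  let E := Minus.re (Minus.pIdx k).symm F₀
  let Hm := Minus.H (F := F₀) (a := 1) (b := ζ₀) hk2 hab
  have hmap : ∀ g, Matrix.GeneralLinearGroup.map i g ∈ twistH (H hm F) h ↔ g ∈ Hm.map E.toMonoidHom := by
    intro g
    obtain ⟨g', rfl⟩ := E.surjective g
    rw [show E g' = E.toMonoidHom g' from rfl,
      Subgroup.mem_map_iff_mem (show Function.Injective E.toMonoidHom from E.injective), mem_twistH]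
    show h * Matrix.GeneralLinearGroup.map i (Minus.re (Minus.pIdx k).symm F₀ g') * h⁻¹ ∈ _ ↔ _
    rw [Minus.re_map, ← Minus.toPlus_apply, mem_H hm, Minus.mem_H]
    constructor
    · rintro ⟨hg, h1⟩
      exact ⟨(Minus.toPlus_mem_iff hh g').1 hg,
        (Minus.preservesMinus_iff hk2 hh hcard ⟨g', (Minus.toPlus_mem_iff hh g').1 hg⟩).2 h1⟩
    · rintro ⟨hg, h1⟩
      exact ⟨(Minus.toPlus_mem_iff hh g').2 hg,
        (Minus.preservesMinus_iff hk2 hh hcard ⟨g', hg⟩).1 h1⟩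
  obtain ⟨e1⟩ := exists_centralizer_equiv hS' (Subgroup.mem_zpowers σ) hy₀' i hi
    (Hm.map E.toMonoidHom) hmap
  have hSm := Minus.setting (F := F₀) hk hab
  obtain ⟨e2⟩ := exists_range_equiv hSm
  haveI : ((Cfsg.Geo.scalars (Minus.Idx k) F₀).subgroupOf Hm).Normal := by
    refine ⟨fun x hx g => ?_⟩
    rw [Subgroup.mem_subgroupOf, Cfsg.Geo.mem_scalars_iff] at hx ⊢
    obtain ⟨c, hc⟩ := hx
    refine ⟨c, ?_⟩
    rw [Subgroup.coe_mul, Subgroup.coe_mul, Subgroup.coe_inv, Units.val_mul, Units.val_mul, hc,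
      mul_smul_comm, smul_mul_assoc, mul_one, ← Units.val_mul, mul_inv_cancel, Units.val_one]
  let e3 : ↥Hm ≃* ↥(Hm.map E.toMonoidHom) := E.subgroupMap Hm
  have he3 : ((Cfsg.Geo.scalars (Minus.Idx k) F₀).subgroupOf Hm).map e3.toMonoidHom =
      (Cfsg.Geo.scalars (Fin (k + 1) ⊕ Fin (k + 1)) F₀).subgroupOf (Hm.map E.toMonoidHom) := by
    ext y
    rw [Subgroup.mem_map, Subgroup.mem_subgroupOf, Cfsg.Geo.mem_scalars_iff]
    constructor
    · rintro ⟨x, hx, rfl⟩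
      rw [Subgroup.mem_subgroupOf, Cfsg.Geo.mem_scalars_iff] at hx
      obtain ⟨c, hc⟩ := hx
      refine ⟨c, ?_⟩
      show ((Minus.re (Minus.pIdx k).symm F₀ (x : GL (Minus.Idx k) F₀) :
        GL (Fin (k + 1) ⊕ Fin (k + 1)) F₀) : Matrix (Fin (k + 1) ⊕ Fin (k + 1)) (Fin (k + 1) ⊕ Fin (k + 1)) F₀) = _
      rw [Minus.re_coe, hc]
      ext a b
      by_cases hab' : a = b <;> simp [hab']
    · rintro ⟨c, hc⟩
      refine ⟨e3.symm y, ?_, e3.apply_symm_apply y⟩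
      rw [Subgroup.mem_subgroupOf, Cfsg.Geo.mem_scalars_iff]
      refine ⟨c, ?_⟩
      have hy : (Minus.re (Minus.pIdx k).symm F₀ ((e3.symm y : Hm) : GL (Minus.Idx k) F₀) :
          GL (Fin (k + 1) ⊕ Fin (k + 1)) F₀) = (y : GL (Fin (k + 1) ⊕ Fin (k + 1)) F₀) :=
        congrArg Subtype.val (e3.apply_symm_apply y)
      ext a b
      have := congrArg (fun g : GL (Fin (k + 1) ⊕ Fin (k + 1)) F₀ =>
        (g : Matrix _ _ F₀) ((Minus.pIdx k).symm a) ((Minus.pIdx k).symm b)) hy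
      simp only [Minus.re_coe, hc, submatrix_apply, Equiv.symm_symm, Equiv.apply_symm_apply] at this
      rw [this]
      by_cases hab' : a = b <;> simp [hab']
  refine ⟨1, ζ₀, hab, ?_⟩
  rw [← Minus.range_eq hSm, ← conjH_twist_range hS hS']
  haveI : ((Cfsg.Geo.scalars (Fin (k + 1) ⊕ Fin (k + 1)) F₀).subgroupOf (Hm.map E.toMonoidHom)).Normal :=
    he3 ▸ Subgroup.Normal.map inferInstance _ e3.surjective
  exact ⟨e1.trans ((QuotientGroup.congr _ _ e3 he3).symm.trans e2.symm)⟩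

theorem etaU_map [DecidableEq F] (σ : F ≃+* F) (a : Fˣ) :
    etaU F (Units.map (σ.toRingHom : F →* F) a) = etaU F a := by
  rcases Int.units_eq_one_or (etaU F a) with h | h
  · rw [h, etaU_eq_one_iff]
    exact (IsSquare.map σ.toRingHom ((etaU_eq_one_iff a).1 h))
  · rw [h]
    refine etaU_of_not _ fun hs => ?_
    have : IsSquare (a : F) := by simpa using IsSquare.map σ.symm.toRingHom hs
    rw [(etaU_eq_one_iff a).2 this] at h
    exact absurd h (by decide)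

/-- The twisted spinor values: `(a σ(a) c², η(a) η(c)ᵐ)`. -/
noncomputable def graphPairs [DecidableEq F] (m : ℕ) (σ : F ≃+* F) : Fˣ × Fˣ →* Fˣ × ℤˣ :=
  (((MonoidHom.id Fˣ * Units.map (σ.toRingHom : F →* F)).prod (etaU F)).comp (MonoidHom.fst Fˣ Fˣ)) *
    (((MonoidHom.id Fˣ * MonoidHom.id Fˣ).prod ((powMonoidHom m).comp (etaU F))).comp
      (MonoidHom.snd Fˣ Fˣ))

theorem graphPairs_apply [DecidableEq F] (σ : F ≃+* F) (a c : Fˣ) :
    graphPairs m σ (a, c) =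
      (a * Units.map (σ.toRingHom : F →* F) a * (c * c), etaU F a * etaU F c ^ m) := rfl

/-- The twisted conjugation into the class-preserving group. -/
noncomputable def toH {hm : 3 ≤ m} (k : GL (Fin m ⊕ Fin m) F) : ↥(twistH (H hm F) k) →* ↥(H hm F) :=
  (MulAut.conj k).toMonoidHom.subgroupComap (H hm F)

theorem toH_coe {hm : 3 ≤ m} (k : GL (Fin m ⊕ Fin m) F) (g : twistH (H hm F) k) :
    (toH k g : GL (Fin m ⊕ Fin m) F) = k * (g : GL (Fin m ⊕ Fin m) F) * k⁻¹ := rfl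

theorem toH_surjective {hm : 3 ≤ m} (k : GL (Fin m ⊕ Fin m) F) :
    Function.Surjective (toH (hm := hm) k) := fun g => by
  refine ⟨⟨k⁻¹ * (g : GL (Fin m ⊕ Fin m) F) * k, mem_twistH.2 ?_⟩, Subtype.ext ?_⟩
  · rw [show k * (k⁻¹ * (g : GL (Fin m ⊕ Fin m) F) * k) * k⁻¹ = g by group]; exact g.2
  · rw [toH_coe]; group

/-- The element of the centraliser with given twisted norm. -/
theorem exists_fixed_pair (hm : 3 ≤ m) (h2 : (2 : F) ≠ 0) [DecidableEq F] {ε : F} (hε : ¬ IsSquare ε)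
    {σ : F ≃+* F} (hσσ : ∀ x, σ (σ x) = x) (a : Fˣ) :
    ∃ g : ↥(H hm F),
      r1 (Nat.zero_lt_of_lt hm) F * fieldMap σ (g : GL (Fin m ⊕ Fin m) F) * (r1 (Nat.zero_lt_of_lt hm) F)⁻¹ = g ∧
      chiP hm h2 hε g = (a * Units.map (σ.toRingHom : F →* F) a, etaU F a) := by
  have hm0 := Nat.zero_lt_of_lt hm
  set j₀ : Fin m := ⟨0, hm0⟩ with hj₀
  set a' := Units.map (σ.toRingHom : F →* F) a with ha'
  set μ := a * a' with hμ
  set d : Fin m → Fˣ := Function.update (fun _ => μ⁻¹) j₀ a'⁻¹ with hd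
  refine ⟨⟨_, dg_delta_mem hm d μ⟩, ?_, ?_⟩
  · rw [mul_inv_eq_iff_eq_mul]
    refine Units.ext (Matrix.ext_iff_mulVec.mpr fun x => ?_)
    have hG : ∀ y : Fin m ⊕ Fin m → F,
        (((dg m F d : ↥(Iso m F)) : GL (Fin m ⊕ Fin m) F) * delta m F μ : GL (Fin m ⊕ Fin m) F) *ᵥ y =
        fun l => ((Sum.elim (fun j => d j * μ) (fun j => (d j)⁻¹) l : Fˣ) : F) * y l := by
      intro y
      rw [Units.val_mul, ← mulVec_mulVec, delta_mulVec]
      funext l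
      show act (dg m F d) _ l = _
      rw [act_dg]
      rcases l with l | l <;> simp [mul_assoc]
    have hfG : ∀ y : Fin m ⊕ Fin m → F,
        (fieldMap σ (((dg m F d : ↥(Iso m F)) : GL (Fin m ⊕ Fin m) F) * delta m F μ) :
          Matrix (Fin m ⊕ Fin m) (Fin m ⊕ Fin m) F) *ᵥ y =
        fun l => σ ((Sum.elim (fun j => d j * μ) (fun j => (d j)⁻¹) l : Fˣ) : F) * y l := by
      intro y
      obtain ⟨w, rfl⟩ : ∃ w, y = σ ∘ w := ⟨σ.symm ∘ y, funext fun l => (σ.apply_symm_apply _).symm⟩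
      rw [AutPSL.fieldMap_coe, map_mulVec, hG]
      funext l
      simp
    rw [Units.val_mul, Units.val_mul, ← mulVec_mulVec, ← mulVec_mulVec]
    show (r1 hm0 F : Matrix (Fin m ⊕ Fin m) (Fin m ⊕ Fin m) F) *ᵥ
      ((fieldMap σ (((dg m F d : ↥(Iso m F)) : GL (Fin m ⊕ Fin m) F) * delta m F μ) :
        Matrix (Fin m ⊕ Fin m) (Fin m ⊕ Fin m) F) *ᵥ x) =
      ((((dg m F d : ↥(Iso m F)) : GL (Fin m ⊕ Fin m) F) * delta m F μ : GL (Fin m ⊕ Fin m) F)) *ᵥ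
        ((r1 hm0 F : Matrix (Fin m ⊕ Fin m) (Fin m ⊕ Fin m) F) *ᵥ x)
    rw [hfG, hG, r1_mulVec, r1_mulVec]
    have hμv : (μ : F) = (a : F) * σ (a : F) := rfl
    funext l
    rcases l with l | l <;> by_cases hl : l = j₀
    · subst hl
      simp [e1, ← hj₀, hd, ha', hμv, hσσ]
      field_simp
      ring_nf
      simp
    · simp [e1, ← hj₀, hd, hl, hμv, hσσ, mul_comm]
    · subst hl
      simp [e1, ← hj₀, hd, ha', hμv, hσσ]
      field_simp
      ring_nf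
      simp
    · simp [e1, ← hj₀, hd, hl, hμv, hσσ, mul_comm]
  · rw [chiP_dg_delta hm h2 hε d μ _ rfl]
    refine Prod.ext rfl ?_
    have hμ1 : etaU F μ = 1 := by
      rw [hμ, map_mul, ha', etaU_map, Int.units_mul_self]
    rw [Fintype.prod_eq_single j₀ (fun j hj => by rw [hd, Function.update_of_ne hj, map_inv, hμ1, inv_one]),
      hd, Function.update_self, map_inv, Int.units_inv_eq_self, ha', etaU_map]

/-- Twisted fixed isometries of determinant one have trivial spinor norm. -/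
theorem twisted_spinor_one (hm : 3 ≤ m) (h2 : (2 : F) ≠ 0) {ε : F}
    {σ : F ≃+* F} {k : GL (Fin m ⊕ Fin m) F} {ν : Fˣ} {ζ : F}
    (hv : ∀ v, qf m F ((k : Matrix (Fin m ⊕ Fin m) (Fin m ⊕ Fin m) F) *ᵥ v) =
      (ν : F) * qm (Nat.zero_lt_of_lt hm) F ζ v)
    {F₀ : Type v} [Field F₀] [Fintype F₀] (i : F₀ →+* F) (hi : ∀ x : F, σ x = x ↔ ∃ y, i y = x)
    (hcard : Fintype.card F = Fintype.card F₀ ^ 2) {ζ₀ : F₀} (hζ₀ : i ζ₀ = ζ)
    (hroot₀ : ∀ z : F₀, z ^ 2 + z + ζ₀ ≠ 0) (u : ↥(Iso m F))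
    (hfix : fieldMap σ (k⁻¹ * (u : GL (Fin m ⊕ Fin m) F) * k) = k⁻¹ * (u : GL (Fin m ⊕ Fin m) F) * k)
    (hu : cls0 u = 1) : theta (qf m F) ε u = 1 := by
  have hm0 := Nat.zero_lt_of_lt hm
  have hkm : ∀ {g : GL (Fin m ⊕ Fin m) F}, g ∈ Cfsg.isometryGroup F ⇑(qm hm0 F ζ) →
      k * g * k⁻¹ ∈ Iso m F := fun {g} hg => mem_iso.2 fun w => by
    obtain ⟨v, rfl⟩ : ∃ v, w = (k : Matrix (Fin m ⊕ Fin m) (Fin m ⊕ Fin m) F) *ᵥ v :=
      ⟨((k⁻¹ : GL (Fin m ⊕ Fin m) F) : Matrix (Fin m ⊕ Fin m) (Fin m ⊕ Fin m) F) *ᵥ w, by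
        rw [mulVec_mulVec, ← Units.val_mul, mul_inv_cancel, Units.val_one, one_mulVec]⟩
    rw [mulVec_mulVec, ← Units.val_mul, inv_mul_cancel_right, Units.val_mul, ← mulVec_mulVec, hv, hv,
      mem_iso.1 hg]
  let Φ : ↥(Cfsg.isometryGroup F ⇑(qm hm0 F ζ)) →* ↥(Iso m F) :=
    ((MulAut.conj k).toMonoidHom.comp (Cfsg.isometryGroup F ⇑(qm hm0 F ζ)).subtype).codRestrict _
      fun g => hkm g.2
  have hg' : k⁻¹ * (u : GL (Fin m ⊕ Fin m) F) * k ∈ Cfsg.isometryGroup F ⇑(qm hm0 F ζ) :=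
    mem_iso.2 fun v => mul_left_cancel₀ ν.ne_zero (by
      rw [← hv, ← hv, mulVec_mulVec, ← Units.val_mul,
        show k * (k⁻¹ * (u : GL (Fin m ⊕ Fin m) F) * k) = (u : GL (Fin m ⊕ Fin m) F) * k by group,
        Units.val_mul, ← mulVec_mulVec, mem_iso.1 u.2])
  have hdet : detHom (qm hm0 F ζ) ⟨_, hg'⟩ = 1 := by
    show Matrix.GeneralLinearGroup.det (k⁻¹ * (u : GL (Fin m ⊕ Fin m) F) * k) = 1
    have h1 : Matrix.GeneralLinearGroup.det (u : GL (Fin m ⊕ Fin m) F) = 1 :=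
      Units.ext ((Forms59.classHom_eq_one_iff_det h2 (toP u)).1 hu)
    rw [map_mul, map_mul, h1, mul_one, ← map_mul, inv_mul_cancel, map_one]
  have hmem : (⟨_, hg'⟩ : ↥(Cfsg.isometryGroup F ⇑(qm hm0 F ζ))) ∈ Cfsg.Omega F ⇑(qm hm0 F ζ) :=
    fixed_special_mem_omega h2 (qm hm0 F ζ)
      (nondeg_of_transport (glEquiv k) (fun v => by rw [glEquiv_apply]; exact hv v) qf_nondeg)
      (qm hm0 F₀ ζ₀) (qm_nondeg hm0 hroot₀) (by simp; omega) i
      (fun x => by rw [← hζ₀]; exact qm_map i hm0 ζ₀ x) hcard hi (congrArg Units.val hfix) hdet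
  have h1 := Abelianization.commutator_subset_ker ((theta (qf m F) ε).comp Φ) hmem
  rwa [MonoidHom.mem_ker, MonoidHom.comp_apply, show Φ ⟨_, hg'⟩ = u from Subtype.ext (by
    show k * (k⁻¹ * (u : GL (Fin m ⊕ Fin m) F) * k) * k⁻¹ = _
    group)] at h1

/-- The twisted fixed points have the spinor values of the pairs. -/
theorem twisted_image (hm : 3 ≤ m) (h2 : (2 : F) ≠ 0) [DecidableEq F] {ε : F} (hε : ¬ IsSquare ε)
    {σ : F ≃+* F} (hσ : orderOf σ = 2) {k : GL (Fin m ⊕ Fin m) F}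
    (hk : r1 (Nat.zero_lt_of_lt hm) F = k * (fieldMap σ k)⁻¹) {ν : Fˣ} {ζ : F}
    (hv : ∀ v, qf m F ((k : Matrix (Fin m ⊕ Fin m) (Fin m ⊕ Fin m) F) *ᵥ v) =
      (ν : F) * qm (Nat.zero_lt_of_lt hm) F ζ v)
    {F₀ : Type v} [Field F₀] [Fintype F₀] (i : F₀ →+* F) (hi : ∀ x : F, σ x = x ↔ ∃ y, i y = x)
    (hcard : Fintype.card F = Fintype.card F₀ ^ 2) {ζ₀ : F₀} (hζ₀ : i ζ₀ = ζ)
    (hroot₀ : ∀ z : F₀, z ^ 2 + z + ζ₀ ≠ 0) :
    (((fieldMap σ).eqLocus (MonoidHom.id (GL (Fin m ⊕ Fin m) F))).subgroupOf (twistH (H hm F) k)).map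
        ((chiP hm h2 hε).comp (toH k)) =
      ((MonoidHom.id Fˣ * Units.map (σ.toRingHom : F →* F)).prod (etaU F)).range := by
  have hm0 := Nat.zero_lt_of_lt hm
  set t := r1 hm0 F
  have hσσ : ∀ x, σ (σ x) = x := fun x => by
    have h := DFunLike.congr_fun (hσ ▸ pow_orderOf_eq_one σ : σ ^ 2 = 1) x
    rwa [pow_two] at h
  apply le_antisymm
  · rintro _ ⟨g, hg, rfl⟩
    have hg' := (twistH_conj hk g).1 hg
    rw [← toH_coe] at hg'
    set G := toH k g with hG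
    set μ := mult (qf m F) (qf_e1 hm0) (Subgroup.inclusion (H_le hm) G) with hμ
    have hμfix : σ (μ : F) = μ := by
      have ht : t ∈ Sim m F := r1_mem hm0
      have h1 := congrArg (fun x : Sim m F => mult (qf m F) (qf_e1 hm0) x)
        (show (⟨t, ht⟩ : Sim m F) * ⟨fieldMap σ (G : GL (Fin m ⊕ Fin m) F), fmap_sim hm0 (H_le hm G.2) σ⟩ *
          (⟨t, ht⟩ : Sim m F)⁻¹ = Subgroup.inclusion (H_le hm) G from Subtype.ext hg')
      simp only [map_mul, map_inv, mul_inv_cancel_comm] at h1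
      rw [← hμ] at h1
      have h3 : (mult (qf m F) (qf_e1 hm0)
          ⟨fieldMap σ (G : GL (Fin m ⊕ Fin m) F), fmap_sim hm0 (H_le hm G.2) σ⟩ : F) = σ (μ : F) := by
        refine mult_eq _ _ _ fun v => ?_
        obtain ⟨w, rfl⟩ : ∃ w, v = σ ∘ w := ⟨σ.symm ∘ v, funext fun l => (σ.apply_symm_apply _).symm⟩
        rw [AutPSL.fieldMap_coe, map_mulVec, qf_sigma, qf_sigma, hμ, ← map_mul,
          ← mult_spec (qf m F) (qf_e1 hm0) (Subgroup.inclusion (H_le hm) G) w]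
        rfl
      rw [← h3, h1]
    obtain ⟨a, ha⟩ := AutPSL.exists_norm_eq σ μ hμfix
    have haN : a * Units.map (σ.toRingHom : F →* F) a = μ := by
      rw [← ha, hσ]
      show _ = ∏ l ∈ Finset.range 2, Units.map ((σ ^ l).toRingHom : F →* F) a
      rw [Finset.prod_range_succ, Finset.prod_range_one]
      rfl
    obtain ⟨D, hD, hDχ⟩ := exists_fixed_pair hm h2 hε hσσ a
    refine ⟨a, ?_⟩
    show _ = chiP hm h2 hε G
    rw [MonoidHom.prod_apply, MonoidHom.mul_apply, MonoidHom.id_apply, ← hDχ, eq_comm,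
      ← mul_inv_eq_one, ← map_inv, ← map_mul]
    set B := G * D⁻¹ with hB
    have hBμ : mult (qf m F) (qf_e1 hm0) (Subgroup.inclusion (H_le hm) B) = 1 := by
      have h5 : mult (qf m F) (qf_e1 hm0) (Subgroup.inclusion (H_le hm) D) = μ :=
        (congrArg Prod.fst hDχ).trans haN
      rw [hB, map_mul, map_inv, map_mul, map_inv, h5]
      exact mul_inv_cancel _
    have hBu : (isoPart hm0 (Subgroup.inclusion (H_le hm) B) : GL (Fin m ⊕ Fin m) F) = B := by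
      rw [isoPart_coe, hBμ, map_one, inv_one, mul_one]; rfl
    have hBfix : t * fieldMap σ (B : GL (Fin m ⊕ Fin m) F) * t⁻¹ = B := by
      rw [hB, Subgroup.coe_mul, Subgroup.coe_inv, map_mul, map_inv]
      have hD' : t * fieldMap σ (D : GL (Fin m ⊕ Fin m) F) * t⁻¹ = D := hD
      conv_rhs => rw [← hg', ← hD']
      group
    refine Prod.ext hBμ ?_
    show theta (qf m F) ε _ = 1
    refine twisted_spinor_one hm h2 hv i hi hcard hζ₀ hroot₀ _ ?_ (cls0_isoPart hm B)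
    rw [hBu]
    have hmem : k⁻¹ * (B : GL (Fin m ⊕ Fin m) F) * k ∈ twistH (H hm F) k := mem_twistH.2 (by
      rw [show k * (k⁻¹ * (B : GL (Fin m ⊕ Fin m) F) * k) * k⁻¹ = B by group]; exact B.2)
    refine (twistH_conj hk ⟨_, hmem⟩).2 ?_
    rw [show k * (k⁻¹ * (B : GL (Fin m ⊕ Fin m) F) * k) * k⁻¹ = B by group]
    exact hBfix
  · rintro _ ⟨a, rfl⟩
    obtain ⟨D, hD, hDχ⟩ := exists_fixed_pair hm h2 hε hσσ a
    obtain ⟨g, rfl⟩ := toH_surjective (hm := hm) k D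
    exact ⟨g, (twistH_conj hk g).2 (by rw [← toH_coe]; exact hD), hDχ⟩

theorem graph_parity {q₀ i j m : ℕ} (hm : Odd m) (h4 : q₀ % 4 = 1)
    (hd : q₀ ^ 2 - 1 ∣ i * (q₀ + 1) + 2 * j) : Even (i + j * m) := by
  obtain ⟨t, rfl⟩ : ∃ t, q₀ = 4 * t + 1 := ⟨q₀ / 4, by omega⟩
  obtain ⟨z, hz⟩ := hd
  have e : (4 * t + 1) ^ 2 - 1 = 8 * (t * (2 * t + 1)) := by
    rw [show (4 * t + 1) ^ 2 = 8 * (t * (2 * t + 1)) + 1 by ring]; omega
  rw [e] at hz
  have h3 : i * (2 * t + 1) + j = 2 * (2 * (t * (2 * t + 1)) * z) := by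
    have : 2 * (i * (2 * t + 1) + j) = 8 * (t * (2 * t + 1)) * z := by rw [← hz]; ring
    linarith
  have h5 : Even (i + j) := by
    have : i + j + 2 * (i * t) = 2 * (2 * (t * (2 * t + 1)) * z) := by rw [← h3]; ring
    rw [Nat.even_iff]; omega
  obtain ⟨s, rfl⟩ := hm
  rw [show i + j * (2 * s + 1) = i + j + 2 * (j * s) by ring]
  exact h5.add (even_two_mul _)

/-- Index of the spinor values. -/
theorem graph_index [DecidableEq F] (h2 : (2 : F) ≠ 0) {σ : F ≃+* F} {q₀ : ℕ}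
    (hσ : ∀ x : F, σ x = x ^ q₀) (hq : Fintype.card F = q₀ ^ 2) :
    ((Odd m ∧ q₀ % 4 = 1) → (graphPairs (F := F) m σ).range.index = 4) ∧
      (¬ (Odd m ∧ q₀ % 4 = 1) → (graphPairs (F := F) m σ).range.index = 2) := by
  have hodd : q₀ % 2 = 1 := by
    have h := FiniteField.odd_card_of_char_ne_two (F := F) (fun h => h2 (by
      haveI := ringChar.of_eq h; exact CharTwo.two_eq_zero))
    rw [hq] at h
    rcases Nat.mod_two_eq_zero_or_one q₀ with h0 | h0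
    · rw [Nat.pow_mod, h0] at h; norm_num at h
    · exact h0
  have hN : ∀ a : Fˣ, a * Units.map (σ.toRingHom : F →* F) a = a ^ (q₀ + 1) := fun a => Units.ext (by
    show (a : F) * σ (a : F) = _
    rw [hσ, Units.val_pow_eq_pow_val, pow_succ'])
  have h12 : ∀ x ∈ (graphPairs (F := F) m σ).range, ∃ c : Fˣ, x.1 = c * c := by
    rintro _ ⟨⟨a, c⟩, rfl⟩
    refine ⟨a ^ ((q₀ + 1) / 2) * c, ?_⟩
    rw [graphPairs_apply, hN, mul_mul_mul_comm (a ^ ((q₀ + 1) / 2)), ← pow_add,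
      show (q₀ + 1) / 2 + (q₀ + 1) / 2 = q₀ + 1 by omega]
  have hfull : ∀ c : Fˣ, ∃ s : ℤˣ, (c * c, s) ∈ (graphPairs (F := F) m σ).range := fun c =>
    ⟨_, (1, c), by rw [graphPairs_apply, map_one, map_one, mul_one, one_mul, one_mul]⟩
  obtain ⟨h2', h4'⟩ := Count.index_two_or_four h2 _ h12 hfull
  obtain ⟨g, hg⟩ := IsCyclic.exists_generator (α := Fˣ)
  have hgη : etaU F g = -1 := by
    refine etaU_of_not _ fun hs => ?_
    obtain ⟨ε, -, hε⟩ := Reflections.exists_nonsquare_scalar (F := F) h2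
    have hε0 : ε ≠ 0 := fun h => hε (h ▸ IsSquare.zero)
    obtain ⟨n, hn⟩ := Subgroup.mem_zpowers_iff.1 (hg (Units.mk0 ε hε0))
    refine hε ((etaU_eq_one_iff (Units.mk0 ε hε0)).1 ?_)
    rw [← hn, map_zpow, (etaU_eq_one_iff g).2 hs, _root_.one_zpow]
  have hord : orderOf g = q₀ ^ 2 - 1 := by
    rw [orderOf_eq_card_of_forall_mem_zpowers hg, Nat.card_units, Nat.card_eq_fintype_card, hq]
  constructor
  · rintro ⟨hmo, h4⟩
    refine h4' ?_
    rintro ⟨⟨a, c⟩, hac⟩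
    rw [graphPairs_apply, hN, Prod.mk.injEq] at hac
    obtain ⟨i, rfl⟩ : ∃ i : ℕ, g ^ i = a := mem_powers_iff_mem_zpowers.2 (hg a)
    obtain ⟨j, rfl⟩ : ∃ j : ℕ, g ^ j = c := mem_powers_iff_mem_zpowers.2 (hg c)
    obtain ⟨h1, h1'⟩ := hac
    rw [← pow_mul, ← pow_add, ← pow_add, ← orderOf_dvd_iff_pow_eq_one, hord, ← two_mul] at h1
    rw [map_pow, map_pow, ← pow_mul, ← pow_add, hgη, (graph_parity hmo h4 h1).neg_one_pow] at h1'
    exact absurd h1' (by decide)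
  · intro hnot
    refine h2' ⟨(g⁻¹, g ^ ((q₀ + 1) / 2)), ?_⟩
    rw [graphPairs_apply, hN, Prod.mk.injEq, inv_pow, ← pow_add,
      show (q₀ + 1) / 2 + (q₀ + 1) / 2 = q₀ + 1 by omega, map_inv, map_pow, hgη, ← pow_mul]
    refine ⟨inv_mul_cancel _, ?_⟩
    have he : Even ((q₀ + 1) / 2 * m) := by
      rcases Nat.even_or_odd m with hme | hmo
      · exact hme.mul_left _
      · refine Even.mul_right (Nat.even_iff.2 ?_) _
        have : q₀ % 4 = 3 := by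
          by_contra h3
          exact hnot ⟨hmo, by omega⟩
        omega
    rw [he.neg_one_pow, mul_one]
    rfl

/-- The splitting of the class of a standard graph-field involution. -/
theorem graph_split {hm : 3 ≤ m} (hS : Setting (R m F) (H hm F) ⊤) {σ : F ≃+* F} (hσ : orderOf σ = 2)
    {y₀ : MulAut (Cfsg.POmega F (Cfsg.quadFormPlus m F))}
    (hy₀ : Induced (R m F) (r1 (Nat.zero_lt_of_lt hm) F) σ y₀)
    {F₀ : Type v} [Field F₀] [Fintype F₀] (i : F₀ →+* F) (hi : ∀ x : F, σ x = x ↔ ∃ y, i y = x)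
    (hσq : ∀ x : F, σ x = x ^ Fintype.card F₀) (hcard : Fintype.card F = Fintype.card F₀ ^ 2) :
    ((2 : F) = 0 → Cfsg.splitClassCount (conjH hS).range (Cfsg.Inn (Cfsg.POmega F (Cfsg.quadFormPlus m F))) y₀ = 1) ∧
      ((2 : F) ≠ 0 → (Odd m ∧ Fintype.card F₀ % 4 = 1) →
        Cfsg.splitClassCount (conjH hS).range (Cfsg.Inn (Cfsg.POmega F (Cfsg.quadFormPlus m F))) y₀ = 4) ∧
      ((2 : F) ≠ 0 → ¬ (Odd m ∧ Fintype.card F₀ % 4 = 1) →
        Cfsg.splitClassCount (conjH hS).range (Cfsg.Inn (Cfsg.POmega F (Cfsg.quadFormPlus m F))) y₀ = 2) := by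
  classical
  have hm0 := Nat.zero_lt_of_lt hm
  haveI : Nonempty (Fin m ⊕ Fin m) := ⟨.inl ⟨0, hm0⟩⟩
  let t : Sim m F := ⟨r1 hm0 F, r1_mem hm0⟩
  have htN : normGL σ (r1 hm0 F) (orderOf σ) = 1 := by
    rw [normGL_of_fixed (r1_fixed hm0 σ), hσ, pow_two, r1_sq]
  rcases dichotomy hm (r1_mem hm0) htN with ⟨h, hh, e⟩ | ⟨k, ν, ζ, hk, hζ, hroot, hv⟩
  · exact absurd ((cls_r1 hm).symm.trans (cls_coboundary hm hh e)) (by decide)
  obtain ⟨ζ₀, hζ₀⟩ := (hi ζ).1 hζ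
  have hroot₀ : ∀ z : F₀, z ^ 2 + z + ζ₀ ≠ 0 := fun z hz => hroot (i z) ((hi _).2 ⟨z, rfl⟩) (by
    rw [← hζ₀, ← map_pow, ← map_add, ← map_add, hz, map_zero])
  have hS' := twist_setting hm hS t hk
  have hy₀' : Induced (twistRho (R m F) k) 1 σ y₀ := by
    rw [induced_twist_iff, mul_one, ← hk]; exact hy₀
  rw [← conjH_twist_range hS hS']
  have conv : ∀ (g : twistH (H hm F) k) (s : ↥(Cfsg.Omega F ⇑(qf m F))) (c : Fˣ),
      (g : GL (Fin m ⊕ Fin m) F) = twistRho (R m F) k s * scalarGL _ c ↔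
      (toH k g : GL (Fin m ⊕ Fin m) F) = rho ⇑(qf m F) s * scalarGL _ c := by
    intro g s c
    rw [toH_coe, show twistRho (R m F) k s = k⁻¹ * rho ⇑(qf m F) s * k⁻¹⁻¹ from rfl]
    constructor
    · intro e
      rw [e]
      simp only [inv_inv, mul_assoc, AutPSL.scalarGL_mul_comm c k⁻¹, mul_inv_cancel_left]
    · intro e
      rw [show (g : GL (Fin m ⊕ Fin m) F) = k⁻¹ * (k * (g : GL (Fin m ⊕ Fin m) F) * k⁻¹) * k by group, e]
      simp only [inv_inv, mul_assoc, AutPSL.scalarGL_mul_comm c k]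
  refine ⟨fun h2 => ?_, ?_⟩
  · rw [splitClassCount_field hS' (Subgroup.mem_zpowers σ) hy₀' (1 : ↥(twistH (H hm F) k) →* PUnit.{u + 1})
      (fun _ => ⟨1, rfl⟩) ⊤ (fun g => ⟨fun _ => ?_, fun _ => Subgroup.mem_top _⟩)]
    · rw [sup_top_eq, Subgroup.index_top]
    · obtain ⟨s, c, hg⟩ := mem_omega_scalar hm h2 (toH k g)
      exact ⟨s, c, (conv g s c).2 hg⟩
  have key : ∀ h2 : (2 : F) ≠ 0,
      Cfsg.splitClassCount (conjH hS').range (Cfsg.Inn (Cfsg.POmega F (Cfsg.quadFormPlus m F))) y₀ =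
        (graphPairs (F := F) m σ).range.index := by
    intro h2
    obtain ⟨ε, -, hε⟩ := Reflections.exists_nonsquare_scalar (F := F) h2
    rw [splitClassCount_field hS' (Subgroup.mem_zpowers σ) hy₀' ((chiP hm h2 hε).comp (toH k))
      ((chiP_surjective hm h2 hε).comp (toH_surjective k))
      ((chiP hm h2 hε).comp (scal hm F)).range (fun g => ?_),
      twisted_image hm h2 hε hσ hk hv i hi hcard hζ₀ hroot₀]
    · congr 1
      have hs : ∀ c : Fˣ, chiP hm h2 hε (scal hm F c) = (c * c, etaU F c ^ m) := chiP_scal hm h2 hε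
      refine le_antisymm (sup_le ?_ ?_) ?_
      · rintro _ ⟨a, rfl⟩
        exact ⟨(a, 1), by rw [graphPairs_apply, map_one, one_pow, mul_one, mul_one, mul_one]; rfl⟩
      · rintro _ ⟨c, rfl⟩
        exact ⟨(1, c), by rw [graphPairs_apply, map_one, map_one, mul_one, one_mul, one_mul]; exact (hs c).symm⟩
      · rintro _ ⟨⟨a, c⟩, rfl⟩
        rw [graphPairs_apply, show (a * Units.map (σ.toRingHom : F →* F) a * (c * c), etaU F a * etaU F c ^ m) =
          (a * Units.map (σ.toRingHom : F →* F) a, etaU F a) * (c * c, etaU F c ^ m) from rfl, ← hs c]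
        exact Subgroup.mul_mem_sup ⟨a, rfl⟩ ⟨c, rfl⟩
    · rw [MonoidHom.comp_apply, chiP_hN hm h2 hε]
      exact ⟨fun ⟨s, c, e⟩ => ⟨s, c, (conv g s c).2 e⟩, fun ⟨s, c, e⟩ => ⟨s, c, (conv g s c).1 e⟩⟩
  exact ⟨fun h2 h4 => (key h2).trans ((graph_index h2 hσq hcard).1 h4),
    fun h2 h4 => (key h2).trans ((graph_index h2 hσq hcard).2 h4)⟩

end Cfsg.Agent.FieldAutGen.Plus
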