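import Mathlib
import Cfsg.Agent.FieldAutGen.PlusGraph

/-!
The class of an involutory graph-field automorphism of `PΩ⁺_{2m}(q)`, `m ≥ 5` (helper60).
-/

set_option autoImplicit false
set_option maxHeartbeats 1600000

namespace Cfsg.Agent.FieldAutGen.Plus

open Matrix
open Cfsg.Agent.AutPSL (fieldMap Induced)
open Cfsg.Agent.FieldAutGen.Orth

universe u v

variable {F : Type u} [Field F] [Fintype F]

theorem two_eq_zero_iff {p f : ℕ} (hp : p.Prime) (hF : Fintype.card F = p ^ f) :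
    (2 : F) = 0 ↔ p = 2 := by
  have hpF : ((p : ℕ) : F) = 0 := by
    have h := FiniteField.cast_card_eq_zero F
    rw [hF, Nat.cast_pow] at h
    exact eq_zero_of_pow_eq_zero h
  constructor
  · intro h2
    rcases hp.eq_two_or_odd with h | h
    · exact h
    · exfalso
      rw [← Nat.div_add_mod p 2, h] at hpF
      push_cast at hpF
      rw [h2, zero_mul, zero_add] at hpF
      exact one_ne_zero hpF
  · rintro rfl
    exact_mod_cast hpF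

theorem cent_transfer {X : Type*} [Group X] {G : Subgroup X} {B : Type*} [Group B]
    (hH : ∀ α : X, ∀ d ∈ G, α * d * α⁻¹ ∈ G) {x y : X} (hc : Cfsg.IsConjUnder G y x)
    (e : ↥(G ⊓ Subgroup.centralizer {y}) ≃* B) : Nonempty (↥(G ⊓ Subgroup.centralizer {x}) ≃* B) := by
  obtain ⟨h, -, rfl⟩ := hc
  obtain ⟨e'⟩ := AutPSL.centralizer_conj_equiv G hH h y
  exact ⟨e'.symm.trans e⟩

theorem graph_class {p f : ℕ} (hp : p.Prime) (hF : Fintype.card F = p ^ f) (hf : 1 ≤ f) {k : ℕ}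
    (hm : 5 ≤ k + 1) (x : MulAut (Cfsg.POmega F (Cfsg.quadFormPlus (k + 1) F)))
    (hx : Cfsg.IsGraphFieldAutClassPOmegaPlus (k + 1) x) (hx2 : orderOf x = 2) (F₀ : Type v)
    [Field F₀] [Fintype F₀] (hF₀ : Fintype.card F₀ = p ^ (f / 2)) :
    Even f ∧ (∀ y : MulAut (Cfsg.POmega F (Cfsg.quadFormPlus (k + 1) F)),
        Cfsg.IsGraphFieldAutClassPOmegaPlus (k + 1) y → orderOf y = 2 →
        Cfsg.IsConjUnder (Cfsg.inndiagPOmegaPlus (k + 1) F) x y) ∧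
      (∃ a₀ b₀ : F₀, (∀ z₁ z₂ : F₀, z₁ ^ 2 + a₀ * z₁ * z₂ + b₀ * z₂ ^ 2 = 0 → z₁ = 0 ∧ z₂ = 0) ∧
        Nonempty (↥(Cfsg.inndiagPOmegaPlus (k + 1) F ⊓ Subgroup.centralizer {x}) ≃*
          ↥(Cfsg.inndiagPOmegaMinus k F₀ a₀ b₀))) ∧
      (p = 2 → Cfsg.splitClassCount (Cfsg.inndiagPOmegaPlus (k + 1) F)
        (Cfsg.Inn (Cfsg.POmega F (Cfsg.quadFormPlus (k + 1) F))) x = 1) ∧
      ((p ≠ 2 ∧ Odd (k + 1) ∧ p ^ (f / 2) % 4 = 1) → Cfsg.splitClassCount (Cfsg.inndiagPOmegaPlus (k + 1) F)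
        (Cfsg.Inn (Cfsg.POmega F (Cfsg.quadFormPlus (k + 1) F))) x = 4) ∧
      ((p ≠ 2 ∧ ¬ (Odd (k + 1) ∧ p ^ (f / 2) % 4 = 1)) → Cfsg.splitClassCount (Cfsg.inndiagPOmegaPlus (k + 1) F)
        (Cfsg.Inn (Cfsg.POmega F (Cfsg.quadFormPlus (k + 1) F))) x = 2) := by
  haveI : Fact p.Prime := ⟨hp⟩
  have hm3 : 3 ≤ k + 1 := by omega
  have hm0 : 0 < k + 1 := Nat.succ_pos k
  haveI : Nonempty (Fin (k + 1) ⊕ Fin (k + 1)) := ⟨.inl ⟨0, hm0⟩⟩
  have hS := setting (F := F) hm3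
  haveI := hS.fin
  obtain ⟨-, σ, hσ, hall⟩ := graph_normal hm hS hx Nat.prime_two hx2
  obtain ⟨h2f, hfix⟩ := AutPSL.card_fixed_eq hσ hp hF hf
  obtain ⟨i, hi⟩ := AutPSL.exists_fixed_embedding σ F₀ (hF₀.trans hfix.symm)
  have hcard : Fintype.card F = Fintype.card F₀ ^ 2 := by
    rw [hF, hF₀, ← pow_mul, Nat.div_mul_cancel h2f]
  have hσq : ∀ z : F, σ z = z ^ Fintype.card F₀ := fun z => by
    rw [hF₀]; exact AutPSL.involution_eq_pow hσ hp hF hf z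
  let t : Sim (k + 1) F := ⟨r1 hm0 F, r1_mem hm0⟩
  obtain ⟨y₀, hy₀⟩ := AutPSL.exists_induced (rho_injective _) (normalises_sim t.2 σ)
  have ht1 : cls hm3 t ≠ 1 := by rw [cls_r1 hm3]; decide
  have hc := hall t y₀ (r1_fixed hm0 σ) (r1_sq hm0) ht1 hy₀
  have hH : ∀ α : MulAut (Cfsg.POmega F (Cfsg.quadFormPlus (k + 1) F)), ∀ d ∈ (conjH hS).range,
      α * d * α⁻¹ ∈ (conjH hS).range := fun α d hd => conj_inndiag hm hS α hd
  rw [← range_eq hm3 hS]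
  refine ⟨even_iff_two_dvd.2 h2f, fun y hy hy2 => ?_, ?_, ?_⟩
  · obtain ⟨-, σ', hσ', hall'⟩ := graph_normal hm hS hy Nat.prime_two hy2
    obtain rfl : σ' = σ := RingEquiv.ext fun z => by
      rw [AutPSL.involution_eq_pow hσ' hp hF hf, AutPSL.involution_eq_pow hσ hp hF hf]
    exact isConjUnder_trans hc (hall' t y₀ (r1_fixed hm0 σ') (r1_sq hm0) ht1 hy₀)
  · obtain ⟨a₀, b₀, hab, ⟨e⟩⟩ := graph_centralizer (show 3 ≤ k by omega) hS hσ (t := t)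
      (r1_fixed hm0 σ) (r1_sq hm0) ht1 hy₀ i hi hcard
    exact ⟨a₀, b₀, hab, cent_transfer hH hc e⟩
  · obtain ⟨h, hh, rfl⟩ := hc
    obtain ⟨s1, s4, s2⟩ := graph_split hS hσ hy₀ i hi hσq hcard
    rw [AutPSL.splitClassCount_conj (X := MulAut (Cfsg.POmega F (Cfsg.quadFormPlus (k + 1) F))) _ _ hH
      (fun α d hd => AutPSL.inn_conj α d hd) h y₀]
    have h2 := two_eq_zero_iff hp hF
    rw [hF₀] at s4 s2
    exact ⟨fun e => s1 (h2.2 e), fun ⟨e, e'⟩ => s4 (fun z => e (h2.1 z)) e',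
      fun ⟨e, e'⟩ => s2 (fun z => e (h2.1 z)) e'⟩

end Cfsg.Agent.FieldAutGen.Plus
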