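import Mathlib
import Cfsg.Prelude.Def_LieTypeDatum

/-!
Transport of conjugacy, centralisers and splitting numbers along an isomorphism (helper60).
-/

set_option autoImplicit false

namespace Cfsg.Agent.FieldAutGen.Transport

universe u v

variable {X : Type u} [Group X] {X' : Type v} [Group X'] (Ψ : X ≃* X') {H K : Subgroup X} {H' K' : Subgroup X'}

theorem mem_iff (h : H.map Ψ.toMonoidHom = H') (z : X) : Ψ z ∈ H' ↔ z ∈ H := by
  rw [← h]
  exact Subgroup.mem_map_iff_mem (show Function.Injective Ψ.toMonoidHom from Ψ.injective)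

theorem isConjUnder_iff (h : H.map Ψ.toMonoidHom = H') (x y : X) :
    Cfsg.IsConjUnder H' (Ψ x) (Ψ y) ↔ Cfsg.IsConjUnder H x y := by
  constructor
  · rintro ⟨z, hz, e⟩
    obtain ⟨z, rfl⟩ := Ψ.surjective z
    refine ⟨z, (mem_iff Ψ h z).1 hz, Ψ.injective ?_⟩
    rw [e, map_mul, map_mul, map_inv]
  · rintro ⟨z, hz, rfl⟩
    exact ⟨Ψ z, (mem_iff Ψ h z).2 hz, by rw [map_mul, map_mul, map_inv]⟩

theorem centralizer_equiv (h : H.map Ψ.toMonoidHom = H') (x : X) :
    Nonempty (↥(H ⊓ Subgroup.centralizer ({x} : Set X)) ≃*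
      ↥(H' ⊓ Subgroup.centralizer ({Ψ x} : Set X'))) := by
  have e : (H ⊓ Subgroup.centralizer ({x} : Set X)).map Ψ.toMonoidHom =
      H' ⊓ Subgroup.centralizer ({Ψ x} : Set X') := by
    ext z
    obtain ⟨w, rfl⟩ := Ψ.surjective z
    rw [show Ψ w = Ψ.toMonoidHom w from rfl,
      Subgroup.mem_map_iff_mem (show Function.Injective Ψ.toMonoidHom from Ψ.injective)]
    show w ∈ H ⊓ _ ↔ Ψ w ∈ H' ⊓ _
    simp only [Subgroup.mem_inf, mem_iff Ψ h, Subgroup.mem_centralizer_singleton_iff, ← map_mul,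
      EmbeddingLike.apply_eq_iff_eq]
  exact ⟨(Ψ.subgroupMap _).trans (MulEquiv.subgroupCongr e)⟩

theorem splitClassCount_eq (hH : H.map Ψ.toMonoidHom = H') (hK : K.map Ψ.toMonoidHom = K') (x : X) :
    Cfsg.splitClassCount H' K' (Ψ x) = Cfsg.splitClassCount H K x := by
  let e : {y : X // Cfsg.IsConjUnder H x y} ≃ {y : X' // Cfsg.IsConjUnder H' (Ψ x) y} :=
    Ψ.toEquiv.subtypeEquiv fun y => (isConjUnder_iff Ψ hH x y).symm
  exact (Nat.card_congr (Quot.congr e fun y z => (isConjUnder_iff Ψ hK y.1 z.1).symm)).symm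

/-- The inner automorphisms correspond. -/
theorem map_inn {G : Type u} [Group G] {G' : Type v} [Group G'] (ψ : G ≃* G') :
    (Cfsg.Inn G).map (MulAut.congr ψ).toMonoidHom = Cfsg.Inn G' := by
  have e : ∀ g : G, MulAut.congr ψ (MulAut.conj g) = MulAut.conj (ψ g) := fun g =>
    MulEquiv.ext fun z => by
      show ψ (g * ψ.symm z * g⁻¹) = ψ g * z * (ψ g)⁻¹
      rw [map_mul, map_mul, map_inv, ψ.apply_symm_apply]
  ext β
  constructor
  · rintro ⟨_, ⟨g, rfl⟩, rfl⟩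
    exact ⟨ψ g, (e g).symm⟩
  · rintro ⟨g, rfl⟩
    obtain ⟨g, rfl⟩ := ψ.surjective g
    exact ⟨_, ⟨g, rfl⟩, e g⟩

end Cfsg.Agent.FieldAutGen.Transport
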