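import Mathlib
import Cfsg.Agent.FieldAutGen.MinusBasic
import Cfsg.Agent.FieldAutGen.OrthAut
import Cfsg.Agent.FieldAutGen.Transport
import Cfsg.Agent.FieldAutGen.PlusAut

/-!
Semisimilarities between forms of minus type: they carry inner-diagonal groups to inner-diagonal groups
(helper60).
-/

set_option autoImplicit false
set_option maxHeartbeats 800000

namespace Cfsg.Agent.FieldAutGen.Minus

open Matrix QuadraticMap
open Cfsg.Agent.AutPSL (fieldMap scalarGL Normalises Induced)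
open Cfsg.Agent.FieldAutGen.Orth
open Cfsg.Agent.Reflections (mat refl)

universe u v

variable {k : ℕ} {F : Type u} [Field F] {a b a' b' : F}

/-- `v ↦ g τ(v)` is a semisimilarity between two forms of minus type. -/
def IsPair (k : ℕ) (a b a' b' : F) (g : GL (Idx k) F) (τ : F ≃+* F) : Prop :=
  ∃ c : Fˣ, ∀ v, qf k F a' b' ((g : Matrix (Idx k) (Idx k) F) *ᵥ (τ ∘ v)) = (c : F) * τ (qf k F a b v)

theorem IsPair.inverse {g : GL (Idx k) F} {τ : F ≃+* F} (hg : IsPair k a b a' b' g τ) :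
    IsPair k a' b' a b (fieldMap τ⁻¹ g⁻¹) τ⁻¹ := by
  obtain ⟨c, hc⟩ := hg
  refine ⟨(Units.map (τ.symm.toRingHom : F →* F) c)⁻¹, fun w => ?_⟩
  obtain ⟨v, rfl⟩ := exists_preimage g τ w
  have e : ((fieldMap τ⁻¹ g⁻¹ : GL (Idx k) F) : Matrix (Idx k) (Idx k) F) *ᵥ
      (⇑(τ⁻¹ : F ≃+* F) ∘ ((g : Matrix (Idx k) (Idx k) F) *ᵥ (τ ∘ v))) = v := by
    rw [AutPSL.fieldMap_coe, map_mulVec, mulVec_mulVec, ← Units.val_mul, inv_mul_cancel,
      Units.val_one, one_mulVec, ← Function.comp_assoc]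
    exact funext fun l => τ.symm_apply_apply (v l)
  rw [e, hc]
  show _ = _ * τ.symm _
  rw [map_mul, τ.symm_apply_apply, Units.val_inv_eq_inv_val]
  exact (inv_mul_cancel_left₀ ((map_ne_zero τ.symm).2 c.ne_zero) _).symm

section split

variable {K : Type v} [Field K]

theorem pair_map {g : GL (Idx k) F} {τ : F ≃+* F} {c : Fˣ}
    (hc : ∀ v, qf k F a' b' ((g : Matrix (Idx k) (Idx k) F) *ᵥ (τ ∘ v)) = (c : F) * τ (qf k F a b v))
    (i : F →+* K) (w : Idx k → K) :
    qf k K (i a') (i b') ((Matrix.GeneralLinearGroup.map i g : Matrix (Idx k) (Idx k) K) *ᵥ w) =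
      i (c : F) * qf k K (i (τ a)) (i (τ b)) w := by
  set G := ((Matrix.GeneralLinearGroup.map i g : GL (Idx k) K) : Matrix (Idx k) (Idx k) K)
  have hL : ∀ v : Idx k → F, qf k K (i a') (i b') (G *ᵥ (i ∘ v)) =
      i (c : F) * qf k K (i (τ a)) (i (τ b)) (i ∘ v) := by
    intro v
    obtain ⟨v, rfl⟩ : ∃ y, v = τ ∘ y := ⟨τ.symm ∘ v, funext fun l => (τ.apply_symm_apply _).symm⟩
    rw [show G *ᵥ (i ∘ τ ∘ v) = i ∘ ((g : Matrix (Idx k) (Idx k) F) *ᵥ (τ ∘ v)) from
      funext fun l => (RingHom.map_mulVec i _ _ l).symm, qf_map, hc, map_mul]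
    exact congrArg _ (qf_map (i.comp τ.toRingHom) v).symm
  have hq : (qf k K (i a') (i b')).comp G.mulVecLin = i (c : F) • qf k K (i (τ a)) (i (τ b)) := by
    refine quadraticForm_ext (fun j => ?_) fun j l => ?_
    · rw [← comp_single i j]; exact hL _
    · simp only [polar]
      rw [← comp_single i j, ← comp_single i l,
        show i ∘ (Pi.single j 1 : Idx k → F) + i ∘ Pi.single l 1 = i ∘ (Pi.single j 1 + Pi.single l 1) from
          funext fun n => (map_add i _ _).symm]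
      show qf k K (i a') (i b') (G *ᵥ _) - qf k K (i a') (i b') (G *ᵥ _) -
          qf k K (i a') (i b') (G *ᵥ _) =
        i (c : F) * qf k K (i (τ a)) (i (τ b)) _ - i (c : F) * qf k K (i (τ a)) (i (τ b)) _ -
          i (c : F) * qf k K (i (τ a)) (i (τ b)) _
      rw [hL, hL, hL]
  exact QuadraticMap.congr_fun hq w

/-- A splitting pulled back along a semisimilarity. -/
theorem isSplit_pair {g : GL (Idx k) F} {τ : F ≃+* F} (hg : IsPair k a b a' b' g τ) {i : F →+* K}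
    {h : GL (Fin (k + 1) ⊕ Fin (k + 1)) K} (hh : IsSplit k a' b' i h) :
    IsSplit k a b (i.comp τ.toRingHom)
      (h * re (pIdx k).symm K (Matrix.GeneralLinearGroup.map i g)) := by
  obtain ⟨ν, hν⟩ := hh
  obtain ⟨c, hc⟩ := hg
  refine ⟨ν * Units.map (i : F →* K) c, fun v => ?_⟩
  rw [Units.val_mul, ← mulVec_mulVec, hν, re_mulVec, Equiv.symm_symm, Units.val_mul, mul_assoc]
  congr 1
  rw [show ((((Matrix.GeneralLinearGroup.map i g : GL (Idx k) K) : Matrix (Idx k) (Idx k) K) *ᵥ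
      (v ∘ (pIdx k).symm)) ∘ pIdx k) ∘ (pIdx k).symm =
    ((Matrix.GeneralLinearGroup.map i g : GL (Idx k) K) : Matrix (Idx k) (Idx k) K) *ᵥ
      (v ∘ (pIdx k).symm) by funext l; simp, pair_map hc i]
  rfl

theorem toPlus_pair (g : GL (Idx k) F) (τ : F ≃+* F) (i : F →+* K)
    (h : GL (Fin (k + 1) ⊕ Fin (k + 1)) K) (x : GL (Idx k) F) :
    toPlus (i.comp τ.toRingHom) (h * re (pIdx k).symm K (Matrix.GeneralLinearGroup.map i g)) x =
      toPlus i h (g * fieldMap τ x * g⁻¹) := by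
  rw [toPlus_apply, toPlus_apply, map_mul, map_mul, map_mul, map_mul, map_inv, map_inv,
    show Matrix.GeneralLinearGroup.map (i.comp τ.toRingHom) x =
      Matrix.GeneralLinearGroup.map i (fieldMap τ x) from Units.ext rfl]
  group

end split

variable [Fintype F]

/-- Semisimilarities carry class-preserving similarities to class-preserving similarities. -/
theorem pair_mem_H (hk : 2 ≤ k)
    (hab : ∀ z₁ z₂ : F, z₁ ^ 2 + a * z₁ * z₂ + b * z₂ ^ 2 = 0 → z₁ = 0 ∧ z₂ = 0)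
    (hab' : ∀ z₁ z₂ : F, z₁ ^ 2 + a' * z₁ * z₂ + b' * z₂ ^ 2 = 0 → z₁ = 0 ∧ z₂ = 0)
    {g : GL (Idx k) F} {τ : F ≃+* F} (hg : IsPair k a b a' b' g τ) {x : GL (Idx k) F}
    (hx : x ∈ H hk hab) : g * fieldMap τ x * g⁻¹ ∈ H hk hab' := by
  obtain ⟨hxs, hxp⟩ := mem_H.1 hx
  obtain ⟨K, _, _, i, h, hc, hh⟩ := exists_split (k := k) hab'
  have hh' := isSplit_pair hg hh
  have hsim : g * fieldMap τ x * g⁻¹ ∈ Sim k F a' b' := by
    rw [← toPlus_mem_iff hh, ← toPlus_pair]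
    exact (toPlus_mem_iff hh' x).2 hxs
  refine mem_H.2 ⟨hsim, (preservesMinus_iff hk hh hc ⟨_, hsim⟩).2 ?_⟩
  rw [← (preservesMinus_iff hk hh' hc ⟨x, hxs⟩).1 hxp]
  exact congrArg (Plus.cls (show 3 ≤ k + 1 by omega)) (Subtype.ext (toPlus_pair g τ i h x).symm)

/-- The matrix group of the carrier. -/
noncomputable abbrev R (k : ℕ) (F : Type u) [Field F] (a b : F) :
    ↥(Cfsg.Omega F (Cfsg.quadFormMinus k F a b)) →* GL (Idx k) F :=
  rho (Cfsg.quadFormMinus k F a b)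

theorem conj_inndiag (hk : 3 ≤ k)
    (hab : ∀ z₁ z₂ : F, z₁ ^ 2 + a * z₁ * z₂ + b * z₂ ^ 2 = 0 → z₁ = 0 ∧ z₂ = 0)
    (α : MulAut (Cfsg.POmega F (Cfsg.quadFormMinus k F a b)))
    {d : MulAut (Cfsg.POmega F (Cfsg.quadFormMinus k F a b))}
    (hd : d ∈ (conjH (setting hk hab)).range) : α * d * α⁻¹ ∈ (conjH (setting hk hab)).range := by
  obtain ⟨g, τ, hg, hα⟩ := exists_semi (fun v => UnitaryOrthogonal.qMinus_apply k a b v)
    (CG26.AutPO.setup_minus hab hk) (CG26.AutPO.big_minus hab hk) α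
  have hp : IsPair k a b a b g τ := hg
  exact conj_range (setting hk hab) (normalises hg) hα
    (fun h hh => pair_mem_H _ hab hab hp hh) hd

/-- The class of a reflection. -/
theorem chi_refl (hk : 2 ≤ k) {K : Type v} [Field K] [Fintype K] {i : F →+* K}
    {h : GL (Fin (k + 1) ⊕ Fin (k + 1)) K} (hh : IsSplit k a b i h) {v : Idx k → F}
    (hv : qf k F a b v ≠ 0) {g : Sim k F a b}
    (hg : (g : GL (Idx k) F) = ((refl (qf k F a b) v : ↥(Cfsg.isometryGroup F ⇑(qf k F a b))) : GL (Idx k) F)) :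
    chi hk hh g = Multiplicative.ofAdd 1 := by
  obtain ⟨ν, hν⟩ := id hh
  set L := splitEquiv (k := k) h
  have hw0 : qf k K (i a) (i b) (i ∘ v) ≠ 0 := by rw [qf_map, map_ne_zero]; exact hv
  have hw : Plus.qf (k + 1) K (L (i ∘ v)) ≠ 0 := by
    rw [splitEquiv_value hν]; exact mul_ne_zero ν.ne_zero hw0
  refine Plus.cls_refl (show 3 ≤ k + 1 by omega) hw (Units.ext (Matrix.ext_iff_mulVec.mpr fun x => ?_))
  obtain ⟨y, rfl⟩ := L.surjective x
  show (toPlus i h (g : GL (Idx k) F) : Matrix _ _ K) *ᵥ L y = Reflections.act (refl (Plus.qf (k + 1) K) (L (i ∘ v))) (L y)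
  rw [toPlus_mulVec, Reflections.act_refl hw,
    show ((Matrix.GeneralLinearGroup.map i (g : GL (Idx k) F) : GL (Idx k) K) : Matrix (Idx k) (Idx k) K) =
      Cfsg.reflectionMatrix ⇑(qf k K (i a) (i b)) (i ∘ v) by
      rw [hg]
      show (mat (refl (qf k F a b) v)).map i = _
      rw [Reflections.mat_refl hv]
      exact reflection_map i (qf_map i) v,
    Reflections.reflectionMatrix_mulVec, map_sub, map_smul]
  congr 2
  simp only [polar, ← map_add, L, splitEquiv_value hν]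
  field_simp

/-- A similarity between the forms gives an isomorphism of the carriers, carrying inner-diagonal
automorphisms to inner-diagonal automorphisms. -/
theorem exists_iso (hk : 3 ≤ k)
    (hab : ∀ z₁ z₂ : F, z₁ ^ 2 + a * z₁ * z₂ + b * z₂ ^ 2 = 0 → z₁ = 0 ∧ z₂ = 0)
    (hab' : ∀ z₁ z₂ : F, z₁ ^ 2 + a' * z₁ * z₂ + b' * z₂ ^ 2 = 0 → z₁ = 0 ∧ z₂ = 0)
    {g : GL (Idx k) F} (hg : IsPair k a b a' b' g 1) :
    ∃ θ : Cfsg.POmega F (Cfsg.quadFormMinus k F a b) ≃* Cfsg.POmega F (Cfsg.quadFormMinus k F a' b'),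
      (conjH (setting hk hab)).range.map (MulAut.congr θ).toMonoidHom =
        (conjH (setting hk hab')).range := by
  have hg' : IsPair k a' b' a b g⁻¹ 1 := by
    have h := hg.inverse
    rwa [inv_one, AutPSL.fieldMap_one] at h
  have key : ∀ {p q p' q' : F} {G : GL (Idx k) F}, IsPair k p q p' q' G 1 →
      ∀ x ∈ Cfsg.isometryGroup F (Cfsg.quadFormMinus k F p q),
        G * x * G⁻¹ ∈ Cfsg.isometryGroup F (Cfsg.quadFormMinus k F p' q') := by
    intro p q p' q' G hG x hx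
    obtain ⟨c, hc⟩ := hG
    refine mem_iso.2 fun w => ?_
    obtain ⟨v, rfl⟩ : ∃ v, w = (G : Matrix (Idx k) (Idx k) F) *ᵥ v :=
      ⟨((G⁻¹ : GL (Idx k) F) : Matrix (Idx k) (Idx k) F) *ᵥ w, by
        rw [mulVec_mulVec, ← Units.val_mul, mul_inv_cancel, Units.val_one, one_mulVec]⟩
    rw [mulVec_mulVec, ← Units.val_mul, inv_mul_cancel_right, Units.val_mul, ← mulVec_mulVec]
    refine (hc _).trans ((congrArg (fun z => (c : F) * z) (mem_iso.1 hx v)).trans (hc v).symm)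
  let e : ↥(Cfsg.isometryGroup F (Cfsg.quadFormMinus k F a b)) ≃*
      ↥(Cfsg.isometryGroup F (Cfsg.quadFormMinus k F a' b')) :=
    { toFun := fun x => ⟨g * (x : GL (Idx k) F) * g⁻¹, key hg _ x.2⟩
      invFun := fun x => ⟨g⁻¹ * (x : GL (Idx k) F) * g⁻¹⁻¹, key hg' _ x.2⟩
      left_inv := fun x => Subtype.ext (by
        show g⁻¹ * (g * (x : GL (Idx k) F) * g⁻¹) * g⁻¹⁻¹ = x
        group)
      right_inv := fun x => Subtype.ext (by
        show g * (g⁻¹ * (x : GL (Idx k) F) * g⁻¹⁻¹) * g⁻¹ = x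
        group)
      map_mul' := fun x y => Subtype.ext (by
        show g * ((x : GL (Idx k) F) * (y : GL (Idx k) F)) * g⁻¹ =
          g * (x : GL (Idx k) F) * g⁻¹ * (g * (y : GL (Idx k) F) * g⁻¹)
        group) }
  have hmap : (Cfsg.Omega F (Cfsg.quadFormMinus k F a b)).map e.toMonoidHom =
      Cfsg.Omega F (Cfsg.quadFormMinus k F a' b') := by
    rw [Cfsg.Omega, Cfsg.Omega, commutator_def, Subgroup.map_commutator,
      Subgroup.map_top_of_surjective _ e.surjective, commutator_def]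
  let eS : ↥(Cfsg.Omega F (Cfsg.quadFormMinus k F a b)) ≃* ↥(Cfsg.Omega F (Cfsg.quadFormMinus k F a' b')) :=
    (e.subgroupMap _).trans (MulEquiv.subgroupCongr hmap)
  have heS : ∀ s, R k F a' b' (eS s) = g * R k F a b s * g⁻¹ := fun s => rfl
  have hZ : (Subgroup.center ↥(Cfsg.Omega F (Cfsg.quadFormMinus k F a b))).map eS.toMonoidHom =
      Subgroup.center ↥(Cfsg.Omega F (Cfsg.quadFormMinus k F a' b')) := by
    refine le_antisymm ?_ fun y hy => ?_
    · rintro _ ⟨x, hx, rfl⟩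
      refine Subgroup.mem_center_iff.2 fun y => ?_
      have := congrArg eS (Subgroup.mem_center_iff.1 hx (eS.symm y))
      rw [map_mul, map_mul, eS.apply_symm_apply] at this
      exact this
    · refine ⟨eS.symm y, Subgroup.mem_center_iff.2 fun x => eS.injective ?_, eS.apply_symm_apply y⟩
      rw [map_mul, map_mul, eS.apply_symm_apply]
      exact Subgroup.mem_center_iff.1 hy (eS x)
  let θ : Cfsg.POmega F (Cfsg.quadFormMinus k F a b) ≃* Cfsg.POmega F (Cfsg.quadFormMinus k F a' b') :=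
    QuotientGroup.congr _ _ eS hZ
  refine ⟨θ, le_antisymm ?_ ?_⟩
  · rintro _ ⟨_, ⟨x, rfl⟩, rfl⟩
    have hx' : g * (x : GL (Idx k) F) * g⁻¹ ∈ H (show 2 ≤ k by omega) hab' := by
      have := pair_mem_H _ hab hab' hg x.2
      rwa [AutPSL.fieldMap_one] at this
    refine ⟨⟨_, hx'⟩, (eq_conjH (setting hk hab') hx' fun t t' ht => ?_).symm⟩
    obtain ⟨s, rfl⟩ := eS.surjective t
    obtain ⟨s', rfl⟩ := eS.surjective t'
    rw [AutPSL.act_apply, AutPSL.fieldMap_one, heS, heS] at ht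
    show θ (conjH (setting hk hab) x (θ.symm (θ (QuotientGroup.mk s)))) = θ (QuotientGroup.mk s')
    rw [θ.symm_apply_apply]
    congr 1
    refine induced_conjH (setting hk hab) x s s' ?_
    rw [AutPSL.act_apply, AutPSL.fieldMap_one]
    have e1 : R k F a b s' = g⁻¹ * (g * R k F a b s' * g⁻¹) * g := by group
    rw [e1, ht]
    group
  · rintro _ ⟨y, rfl⟩
    have hy : g⁻¹ * (y : GL (Idx k) F) * g ∈ H (show 2 ≤ k by omega) hab := by
      have := pair_mem_H _ hab' hab hg' y.2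
      rwa [AutPSL.fieldMap_one, inv_inv] at this
    refine ⟨conjH (setting hk hab) ⟨_, hy⟩, ⟨_, rfl⟩, (eq_conjH (setting hk hab') y.2 fun t t' ht => ?_)⟩
    obtain ⟨s, rfl⟩ := eS.surjective t
    obtain ⟨s', rfl⟩ := eS.surjective t'
    rw [AutPSL.act_apply, AutPSL.fieldMap_one, heS, heS] at ht
    show θ (conjH (setting hk hab) ⟨_, hy⟩ (θ.symm (θ (QuotientGroup.mk s)))) = θ (QuotientGroup.mk s')
    rw [θ.symm_apply_apply]
    congr 1
    refine induced_conjH (setting hk hab) ⟨_, hy⟩ s s' ?_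
    rw [AutPSL.act_apply, AutPSL.fieldMap_one]
    have e1 : R k F a b s' = g⁻¹ * (g * R k F a b s' * g⁻¹) * g := by group
    rw [e1, ht]
    group

/-- Every isomorphism of carriers of minus type respects the inner-diagonal groups. -/
theorem map_range (hk : 3 ≤ k)
    (hab : ∀ z₁ z₂ : F, z₁ ^ 2 + a * z₁ * z₂ + b * z₂ ^ 2 = 0 → z₁ = 0 ∧ z₂ = 0)
    (hab' : ∀ z₁ z₂ : F, z₁ ^ 2 + a' * z₁ * z₂ + b' * z₂ ^ 2 = 0 → z₁ = 0 ∧ z₂ = 0)
    (ψ : Cfsg.POmega F (Cfsg.quadFormMinus k F a b) ≃* Cfsg.POmega F (Cfsg.quadFormMinus k F a' b')) :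
    (conjH (setting hk hab)).range.map (MulAut.congr ψ).toMonoidHom =
      (conjH (setting hk hab')).range := by
  obtain ⟨T, hT⟩ := CG26.AutPO.exists_minus_isometry (m := k) hab hab'
  have hu : IsUnit (LinearMap.toMatrix' T.toLinearMap).det := by
    rw [LinearMap.det_toMatrix']; exact LinearEquiv.isUnit_det' T
  obtain ⟨θ, hθ⟩ := exists_iso hk hab hab' (g := Matrix.GeneralLinearGroup.mk'' _ hu) ⟨1, fun v => by
    rw [Units.val_one, one_mul]
    show qf k F a' b' (LinearMap.toMatrix' T.toLinearMap *ᵥ v) = qf k F a b v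
    rw [LinearMap.toMatrix'_mulVec]
    refine (UnitaryOrthogonal.qMinus_apply k a' b' (T v)).symm.trans ?_
    rw [hT]
    exact UnitaryOrthogonal.qMinus_apply k a b v⟩
  let α : MulAut (Cfsg.POmega F (Cfsg.quadFormMinus k F a' b')) := θ.symm.trans ψ
  have e : ∀ β, MulAut.congr ψ β = α * MulAut.congr θ β * α⁻¹ := fun β => MulEquiv.ext fun z => by
    show ψ (β (ψ.symm z)) = ψ (θ.symm (θ (β (θ.symm (θ (ψ.symm z))))))
    rw [θ.symm_apply_apply, θ.symm_apply_apply]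
  apply le_antisymm
  · rintro _ ⟨β, hβ, rfl⟩
    show MulAut.congr ψ β ∈ _
    rw [e]
    exact conj_inndiag hk hab' α (hθ ▸ ⟨β, hβ, rfl⟩)
  · intro γ hγ
    have h1 : α⁻¹ * γ * α ∈ (conjH (setting hk hab')).range := by
      simpa using conj_inndiag hk hab' α⁻¹ hγ
    rw [← hθ] at h1
    obtain ⟨β, hβ, hβe⟩ := h1
    refine ⟨β, hβ, ?_⟩
    show MulAut.congr ψ β = γ
    rw [e, show MulAut.congr θ β = α⁻¹ * γ * α from hβe]
    group

end Cfsg.Agent.FieldAutGen.Minus
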