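import Mathlib
import Cfsg.Agent.FieldAutGen.MinusPair
import Cfsg.Agent.AutPSL.FiniteField
import Cfsg.Agent.AutPSL.Coset

/-!
Standard field automorphisms of `PΩ⁻`: Hilbert 90, centraliser, a single class (helper60).
-/

set_option autoImplicit false
set_option maxHeartbeats 800000

namespace Cfsg.Agent.FieldAutGen

open Matrix QuadraticMap
open Cfsg.Agent.AutPSL (fieldMap scalarGL Normalises Induced normGL)

universe u v w

/-- If every element of `H` is an inner element times one fixed by the field automorphism, the class does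
not split. -/
theorem split_one {ι : Type} [Fintype ι] [DecidableEq ι] {F : Type u} [Field F] [Finite F] [Nonempty ι]
    {S : Type v} [Group S] {ρ : S →* GL ι F} {H : Subgroup (GL ι F)} {Γ : Subgroup (F ≃+* F)}
    (hS : Setting ρ H Γ) {σ : F ≃+* F} (hσ : σ ∈ Γ) {φ : MulAut (S ⧸ Subgroup.center S)}
    (hφ : Induced ρ 1 σ φ)
    (hdec : ∀ g : H, ∃ (s : S) (g₀ : H) (c : Fˣ), fieldMap σ (g₀ : GL ι F) = g₀ ∧
      (g : GL ι F) = ρ s * g₀ * scalarGL ι c) :
    Cfsg.splitClassCount (conjH hS).range (Cfsg.Inn (S ⧸ Subgroup.center S)) φ = 1 := by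
  refine Nat.card_eq_one_iff_unique.2 ⟨⟨?_⟩, ⟨Quot.mk _ ⟨φ, 1, one_mem _, by group⟩⟩⟩
  have key : ∀ y : {y // Cfsg.IsConjUnder (conjH hS).range φ y},
      Quot.mk (fun y z : {y // Cfsg.IsConjUnder (conjH hS).range φ y} =>
        Cfsg.IsConjUnder (Cfsg.Inn (S ⧸ Subgroup.center S)) y.1 z.1) y = Quot.mk _ ⟨φ, 1, one_mem _, by group⟩ := by
    rintro ⟨y, _, ⟨g, rfl⟩, hy⟩
    obtain ⟨s, g₀, c, hg₀, hg⟩ := hdec g
    have e : g = (⟨ρ s, hS.rho_mem s⟩ : H) * g₀ * ⟨scalarGL ι c, hS.scalar c⟩ := Subtype.ext hg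
    have hcomm : φ * conjH hS g₀ = conjH hS g₀ * φ := by
      rw [semi_comm hS hσ hφ g₀]
      congr 1
      exact congrArg _ (Subtype.ext hg₀)
    refine (Quot.sound ?_).symm
    refine ⟨MulAut.conj (QuotientGroup.mk s), ⟨_, rfl⟩, ?_⟩
    show y = _
    rw [hy, e, map_mul, map_mul, conjH_scalar hS, mul_one, conjH_rho hS]
    rw [show MulAut.conj (QuotientGroup.mk s : S ⧸ Subgroup.center S) * conjH hS g₀ * φ *
        (MulAut.conj (QuotientGroup.mk s : S ⧸ Subgroup.center S) * conjH hS g₀)⁻¹ =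
      MulAut.conj (QuotientGroup.mk s : S ⧸ Subgroup.center S) * (conjH hS g₀ * φ) * (conjH hS g₀)⁻¹ *
        (MulAut.conj (QuotientGroup.mk s : S ⧸ Subgroup.center S))⁻¹ by group, ← hcomm]
    group
  rintro ⟨y⟩ ⟨z⟩
  rw [key y, key z]

namespace Minus

open Cfsg.Agent.FieldAutGen.Orth
open Cfsg.Agent.Reflections (mat refl)

variable {k : ℕ} {F : Type u} [Field F] {a b : F}

theorem forms_eq {ι : Type} [Fintype ι] [DecidableEq ι] {L : Type v} [Field L] (f : L →+* F)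
    {Q Q' : QuadraticForm F (ι → F)} (h : ∀ v : ι → L, Q (f ∘ v) = Q' (f ∘ v)) : Q = Q' := by
  refine quadraticForm_ext (fun j => by rw [← comp_single f j]; exact h _) fun j l => ?_
  simp only [polar]
  rw [← comp_single f j, ← comp_single f l,
    show f ∘ (Pi.single j 1 : ι → L) + f ∘ Pi.single l 1 = f ∘ (Pi.single j 1 + Pi.single l 1) from
      funext fun n => (map_add f _ _).symm, h, h, h]

section maps

variable {K : Type v} [Field K] {K' : Type w} [Field K']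

theorem isSplit_map {i : F →+* K} {h : GL (Fin (k + 1) ⊕ Fin (k + 1)) K} (hh : IsSplit k a b i h)
    (f : K →+* K') : IsSplit k a b (f.comp i) (Matrix.GeneralLinearGroup.map f h) := by
  obtain ⟨ν, hν⟩ := hh
  refine ⟨Units.map (f : K →* K') ν, fun w => ?_⟩
  have e : (Plus.qf (k + 1) K').comp
        (Matrix.GeneralLinearGroup.map f h : Matrix (Fin (k + 1) ⊕ Fin (k + 1)) (Fin (k + 1) ⊕ Fin (k + 1)) K').mulVecLin =
      f (ν : K) • (qf k K' ((f.comp i) a) ((f.comp i) b)).comp (LinearMap.funLeft K' K' (pIdx k).symm) :=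
    forms_eq f fun v => by
      show Plus.qf (k + 1) K' (_ *ᵥ (f ∘ v)) = f (ν : K) * qf k K' (f (i a)) (f (i b)) (f ∘ (v ∘ (pIdx k).symm))
      refine (congrArg (fun y => Plus.qf (k + 1) K' y)
        (funext fun l => (RingHom.map_mulVec f _ v l).symm)).trans ?_
      rw [qf_map, ← map_mul, ← hν]
      exact Plus.qf_map f _
  exact QuadraticMap.congr_fun e w

theorem chi_map [Fintype K] [Fintype K'] (hk : 2 ≤ k) {i : F →+* K}
    {h : GL (Fin (k + 1) ⊕ Fin (k + 1)) K} (hh : IsSplit k a b i h) (f : K →+* K') (g : Sim k F a b) :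
    chi hk (isSplit_map hh f) g = chi hk hh g := by
  rw [chi, chi, MonoidHom.comp_apply, MonoidHom.comp_apply, ← Plus.cls_map _ f (simHom hh g)]
  refine congrArg _ (Subtype.ext ?_)
  show toPlus _ _ (g : GL (Idx k) F) = Matrix.GeneralLinearGroup.map f (toPlus i h g)
  rw [toPlus_apply, toPlus_apply, map_mul, map_mul, map_inv, ← re_map]
  rfl

theorem chi_indep [Fintype K] (hk : 2 ≤ k) {i : F →+* K} {h h' : GL (Fin (k + 1) ⊕ Fin (k + 1)) K}
    (hh : IsSplit k a b i h) (hh' : IsSplit k a b i h') (g : Sim k F a b) :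
    chi hk hh g = chi hk hh' g := by
  obtain ⟨ν, hν⟩ := id hh
  obtain ⟨ν', hν'⟩ := id hh'
  have hs : h * h'⁻¹ ∈ Plus.Sim (k + 1) K := by
    refine ⟨ν * ν'⁻¹, fun w => ?_⟩
    obtain ⟨v, rfl⟩ : ∃ v, w = (h' : Matrix (Fin (k + 1) ⊕ Fin (k + 1)) (Fin (k + 1) ⊕ Fin (k + 1)) K) *ᵥ v :=
      ⟨((h'⁻¹ : GL (Fin (k + 1) ⊕ Fin (k + 1)) K) : Matrix (Fin (k + 1) ⊕ Fin (k + 1)) (Fin (k + 1) ⊕ Fin (k + 1)) K) *ᵥ w, by
        rw [mulVec_mulVec, ← Units.val_mul, mul_inv_cancel, Units.val_one, one_mulVec]⟩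
    rw [mulVec_mulVec, ← Units.val_mul, inv_mul_cancel_right, hν, hν', Units.val_mul,
      mul_assoc, ← mul_assoc ((ν'⁻¹ : Kˣ) : K), ← Units.val_mul, inv_mul_cancel, Units.val_one, one_mul]
  rw [chi, chi, MonoidHom.comp_apply, MonoidHom.comp_apply,
    show simHom hh g = (⟨_, hs⟩ : Plus.Sim (k + 1) K) * simHom hh' g * (⟨_, hs⟩ : Plus.Sim (k + 1) K)⁻¹ from
      Subtype.ext (by
        show toPlus i h (g : GL (Idx k) F) = h * h'⁻¹ * toPlus i h' (g : GL (Idx k) F) * (h * h'⁻¹)⁻¹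
        rw [toPlus_apply, toPlus_apply]
        group),
    map_mul, map_mul, map_inv, mul_comm (Plus.cls (show 3 ≤ k + 1 by omega) (⟨_, hs⟩ : Plus.Sim (k + 1) K)),
    mul_inv_cancel_right]

end maps

/-- An anisotropic form does not split over its own field. -/
theorem not_split_self (hab : ∀ z₁ z₂ : F, z₁ ^ 2 + a * z₁ * z₂ + b * z₂ ^ 2 = 0 → z₁ = 0 ∧ z₂ = 0)
    {h : GL (Fin (k + 1) ⊕ Fin (k + 1)) F} (hh : IsSplit k a b (RingHom.id F) h) : False := by
  obtain ⟨ν, hν⟩ := hh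
  have h1 := Forms59.finrank_le_of_totally_singular_minus k a b hab
    ((CG26.Plus.std (k + 1) F).map (splitEquiv (k := k) h).symm.toLinearMap) (by
      rintro _ ⟨x, hx, rfl⟩
      have h2 := splitEquiv_value hν ((splitEquiv (k := k) h).symm x)
      rw [LinearEquiv.apply_symm_apply, show Plus.qf (k + 1) F x = 0 from CG26.Plus.std_ts x hx,
        eq_comm, mul_eq_zero] at h2
      exact h2.resolve_left ν.ne_zero)
  rw [LinearEquiv.finrank_map_eq, CG26.Plus.std_finrank] at h1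
  omega

theorem aniso_fix {σ : F ≃+* F} (hσ : σ ∈ fixer a b)
    (hab : ∀ z₁ z₂ : F, z₁ ^ 2 + a * z₁ * z₂ + b * z₂ ^ 2 = 0 → z₁ = 0 ∧ z₂ = 0)
    (z₁ z₂ : fixField σ)
    (hz : z₁ ^ 2 + (⟨a, hσ.1⟩ : fixField σ) * z₁ * z₂ + (⟨b, hσ.2⟩ : fixField σ) * z₂ ^ 2 = 0) :
    z₁ = 0 ∧ z₂ = 0 := by
  obtain ⟨h1, h2⟩ := hab z₁ z₂ (by simpa using congrArg Subtype.val hz)
  exact ⟨Subtype.ext h1, Subtype.ext h2⟩

variable [Fintype F]

/-- A field automorphism fixing the coefficients of an anisotropic form has odd order. -/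
theorem odd_order {σ : F ≃+* F} (hσ : σ ∈ fixer a b)
    (hab : ∀ z₁ z₂ : F, z₁ ^ 2 + a * z₁ * z₂ + b * z₂ ^ 2 = 0 → z₁ = 0 ∧ z₂ = 0) :
    Odd (orderOf σ) := by
  rw [← Nat.not_even_iff_odd]
  intro hev
  classical
  letI : Fintype (fixField σ) := Fintype.ofFinite _
  obtain ⟨K, _, _, i, h, hc, hh⟩ := exists_split (k := 0) (aniso_fix hσ hab)
  letI : Algebra (fixField σ) K := i.toAlgebra
  haveI : Module.Finite (fixField σ) K := Module.Finite.of_finite
  haveI : Module.Finite (fixField σ) F := Module.Finite.of_finite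
  have hq := AutPSL.card_fixed_pow σ
  have hL : Nat.card {x : F // σ x = x} = Nat.card (fixField σ) :=
    Nat.card_congr (Equiv.subtypeEquivRight fun _ => Iff.rfl)
  have hK : Module.finrank (fixField σ) K = 2 := by
    have h1 := Module.natCard_eq_pow_finrank (K := fixField σ) (V := K)
    rw [Nat.card_eq_fintype_card, Nat.card_eq_fintype_card, hc] at h1
    exact (Nat.pow_right_injective Fintype.one_lt_card h1).symm
  have hF : Module.finrank (fixField σ) F = orderOf σ := by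
    have h1 := Module.natCard_eq_pow_finrank (K := fixField σ) (V := F)
    rw [← hq, hL] at h1
    exact (Nat.pow_right_injective Finite.one_lt_card h1).symm
  obtain ⟨f⟩ := FiniteField.nonempty_algHom_of_finrank_dvd (F := fixField σ) (K := K) (L := F)
    (by rw [hK, hF]; exact even_iff_two_dvd.1 hev)
  obtain ⟨ν, hν⟩ := isSplit_map hh f.toRingHom
  refine not_split_self (k := 0) hab (h := Matrix.GeneralLinearGroup.map f.toRingHom h) ⟨ν, fun v => ?_⟩
  rw [hν]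
  show (ν : F) * qf 0 F (f (i ⟨a, hσ.1⟩)) (f (i ⟨b, hσ.2⟩)) _ = (ν : F) * qf 0 F a b _
  rw [show f (i ⟨a, hσ.1⟩) = a from f.commutes _, show f (i ⟨b, hσ.2⟩) = b from f.commutes _]

/-- The reflection in the base vector. -/
noncomputable def r1 (k : ℕ) (F : Type u) [Field F] (a b : F) : GL (Idx k) F :=
  ((refl (qf k F a b) (e1 k F) : ↥(Cfsg.isometryGroup F ⇑(qf k F a b))) : GL (Idx k) F)

omit [Fintype F] in
theorem r1_mem : r1 k F a b ∈ Sim k F a b :=
  iso_le_sim _ (refl (qf k F a b) (e1 k F)).2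

omit [Fintype F] in
theorem e1_fixed (σ : F ≃+* F) (j : Idx k) : σ (e1 k F j) = e1 k F j := by
  by_cases h : j = .inr 0 <;> simp [e1, h]

omit [Fintype F] in
theorem r1_fixed {σ : F ≃+* F} (hσ : σ ∈ fixer a b) : fieldMap σ (r1 k F a b) = r1 k F a b :=
  Units.ext (by
    show (mat (refl (qf k F a b) (e1 k F))).map σ = mat (refl (qf k F a b) (e1 k F))
    rw [Reflections.mat_refl (by rw [qf_e1]; exact one_ne_zero)]
    exact reflection_fixed (qf_sigma hσ.1 hσ.2) fun j => e1_fixed σ j)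

/-- Moving a fixed similarity into the class-preserving group. -/
theorem exists_fixed_H (hk : 2 ≤ k)
    (hab : ∀ z₁ z₂ : F, z₁ ^ 2 + a * z₁ * z₂ + b * z₂ ^ 2 = 0 → z₁ = 0 ∧ z₂ = 0)
    {g : GL (Idx k) F} (hg : g ∈ Sim k F a b) :
    g ∈ H hk hab ∨ g * r1 k F a b ∈ H hk hab := by
  obtain ⟨K, _, _, i, h, hc, hh⟩ := exists_split (k := k) hab
  by_cases h1 : chi hk hh ⟨g, hg⟩ = 1
  · exact Or.inl (mem_H.2 ⟨hg, (preservesMinus_iff hk hh hc ⟨g, hg⟩).2 h1⟩)
  · refine Or.inr (mem_H.2 ⟨mul_mem hg r1_mem,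
      (preservesMinus_iff hk hh hc ⟨_, mul_mem hg r1_mem⟩).2 ?_⟩)
    rw [show (⟨g * r1 k F a b, mul_mem hg r1_mem⟩ : Sim k F a b) =
      (⟨g, hg⟩ : Sim k F a b) * ⟨r1 k F a b, r1_mem⟩ from Subtype.ext rfl, map_mul,
      Plus.eq_ofAdd_one h1, chi_refl hk hh (v := e1 k F) (by rw [qf_e1]; exact one_ne_zero)
        (g := (⟨r1 k F a b, r1_mem⟩ : Sim k F a b)) rfl]
    decide

/-- Hilbert 90 for the class-preserving similarities. -/
theorem exists_coboundary (hk : 2 ≤ k)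
    (hab : ∀ z₁ z₂ : F, z₁ ^ 2 + a * z₁ * z₂ + b * z₂ ^ 2 = 0 → z₁ = 0 ∧ z₂ = 0)
    {σ : F ≃+* F} (hσ : σ ∈ fixer a b) :
    ∀ g ∈ H hk hab, normGL σ g (orderOf σ) = 1 → ∃ h ∈ H hk hab, g = h * (fieldMap σ h)⁻¹ := by
  intro g hg hN
  haveI : Nonempty (Idx k) := ⟨.inr 0⟩
  obtain ⟨h, ν, Q₀, hh, hQ₀, hx⟩ :=
    exists_descended (qf k F a b) (nondeg hab) (qf_sigma hσ.1 hσ.2) (mem_H.1 hg).1 hN
  have hrank : Module.finrank (fixField σ) (Idx k → fixField σ) = 2 * k + 2 := by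
    rw [Module.finrank_fintype_fun_eq_card]; simp; omega
  rcases Forms59.exists_normal_form Q₀ hQ₀ with
    ⟨n, hn, e, he⟩ | ⟨n, hn, -⟩ | ⟨n, hn, ζ, e, hζ, he⟩
  · exfalso
    obtain rfl : n = k + 1 := by omega
    let L := LinearEquiv.funCongrLeft (fixField σ) (fixField σ) (pIdx k)
    obtain ⟨K₂, -, hv⟩ := assemble_two (qf k F a b)
      ((Plus.qf (k + 1) F).comp (LinearMap.funLeft F F (pIdx k))) Q₀ hx
      ((Plus.qf (k + 1) (fixField σ)).comp (LinearMap.funLeft _ _ (pIdx k)))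
      (fun x => Plus.qf_map (fixField σ).subtype (x ∘ pIdx k)) (L.trans e.symm) 1 fun x => by
        rw [he, LinearEquiv.trans_apply, e.apply_symm_apply, one_mul]
        rfl
    rw [OneMemClass.coe_one, mul_one] at hv
    refine not_split_self hab (h := (re (pIdx k).symm F (h * K₂))⁻¹) ⟨ν⁻¹, fun w => ?_⟩
    set M := re (pIdx k).symm F (h * K₂)
    have h1 := hv ((((((M⁻¹ : GL (Fin (k + 1) ⊕ Fin (k + 1)) F)) : Matrix (Fin (k + 1) ⊕ Fin (k + 1)) (Fin (k + 1) ⊕ Fin (k + 1)) F) *ᵥ w) ∘ (pIdx k).symm))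
    rw [RingHom.id_apply, RingHom.id_apply]
    have e2 : ((h * K₂ : GL (Idx k) F) : Matrix (Idx k) (Idx k) F) *ᵥ
        (((((M⁻¹ : GL (Fin (k + 1) ⊕ Fin (k + 1)) F)) : Matrix (Fin (k + 1) ⊕ Fin (k + 1)) (Fin (k + 1) ⊕ Fin (k + 1)) F) *ᵥ w) ∘ (pIdx k).symm) =
        w ∘ (pIdx k).symm := by
      have h2 : (M : Matrix (Fin (k + 1) ⊕ Fin (k + 1)) (Fin (k + 1) ⊕ Fin (k + 1)) F) *ᵥ (((M⁻¹ : GL (Fin (k + 1) ⊕ Fin (k + 1)) F) : Matrix (Fin (k + 1) ⊕ Fin (k + 1)) (Fin (k + 1) ⊕ Fin (k + 1)) F) *ᵥ w) = w := by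
        rw [mulVec_mulVec, ← Units.val_mul, mul_inv_cancel, Units.val_one, one_mulVec]
      rw [re_mulVec] at h2
      conv_rhs => rw [← h2]
      funext l
      simp
    rw [e2] at h1
    rw [h1, QuadraticMap.comp_apply, Units.val_inv_eq_inv_val, inv_mul_cancel_left₀ ν.ne_zero]
    congr 1
    funext l
    simp [LinearMap.funLeft_apply]
  · omega
  · obtain rfl : n = k := by omega
    obtain ⟨T, hT⟩ := CG26.AutPO.exists_minus_isometry (m := n) (aniso_fix hσ hab)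
      (Forms59.anisotropic_of_no_root ζ hζ)
    obtain ⟨h', hh', he'⟩ := assemble (qf n F a b) hh Q₀ hx
      (qf n (fixField σ) ⟨a, hσ.1⟩ ⟨b, hσ.2⟩)
      (fun x => qf_map (a := (⟨a, hσ.1⟩ : fixField σ)) (b := (⟨b, hσ.2⟩ : fixField σ)) (fixField σ).subtype x)
      (T.trans e.symm) 1 one_ne_zero fun x => by
        rw [he, LinearEquiv.trans_apply, e.apply_symm_apply, one_mul]
        refine (UnitaryOrthogonal.qMinus_apply n _ _ _).symm.trans ?_
        rw [hT]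
        exact UnitaryOrthogonal.qMinus_apply n _ _ _
    rcases exists_fixed_H hk hab hh' with h1 | h1
    · exact ⟨h', h1, he'⟩
    · refine ⟨h' * r1 n F a b, h1, ?_⟩
      rw [he', map_mul, r1_fixed hσ]
      group

/-- The centraliser of a standard field automorphism. -/
theorem field_centralizer (hk : 3 ≤ k)
    {hab : ∀ z₁ z₂ : F, z₁ ^ 2 + a * z₁ * z₂ + b * z₂ ^ 2 = 0 → z₁ = 0 ∧ z₂ = 0}
    {σ : F ≃+* F} (hσ : σ ∈ fixer a b) {φ : MulAut (Cfsg.POmega F (Cfsg.quadFormMinus k F a b))}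
    (hφ : Induced (R k F a b) 1 σ φ) {F₀ : Type w} [Field F₀] [Fintype F₀] (i : F₀ →+* F)
    (hi : ∀ x : F, σ x = x ↔ ∃ y, i y = x) :
    ∃ a₀ b₀ : F₀, (∀ z₁ z₂ : F₀, z₁ ^ 2 + a₀ * z₁ * z₂ + b₀ * z₂ ^ 2 = 0 → z₁ = 0 ∧ z₂ = 0) ∧
      Nonempty (↥((conjH (setting hk hab)).range ⊓ Subgroup.centralizer {φ}) ≃*
        ↥(Cfsg.inndiagPOmegaMinus k F₀ a₀ b₀)) := by
  haveI : Nonempty (Idx k) := ⟨.inr 0⟩
  have hk2 : 2 ≤ k := by omega
  obtain ⟨a₀, ha₀⟩ := (hi a).1 hσ.1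
  obtain ⟨b₀, hb₀⟩ := (hi b).1 hσ.2
  have hab₀ : ∀ z₁ z₂ : F₀, z₁ ^ 2 + a₀ * z₁ * z₂ + b₀ * z₂ ^ 2 = 0 → z₁ = 0 ∧ z₂ = 0 := by
    intro z₁ z₂ hz
    obtain ⟨h1, h2⟩ := hab (i z₁) (i z₂) (by
      rw [← ha₀, ← hb₀]; simpa using congrArg i hz)
    exact ⟨i.injective (h1.trans (map_zero i).symm), i.injective (h2.trans (map_zero i).symm)⟩
  have hQ : ∀ x, qf k F a b (i ∘ x) = i (qf k F₀ a₀ b₀ x) := fun x => by
    rw [← ha₀, ← hb₀]; exact qf_map i x
  obtain ⟨K, _, _, j, h, hc, hh⟩ := exists_split (k := k) hab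
  obtain ⟨K₀, _, _, i₀, h₀, hc₀, hh₀⟩ := exists_split (k := k) hab₀
  have hh' : IsSplit k a₀ b₀ (j.comp i) h := by
    obtain ⟨ν, hν⟩ := hh
    exact ⟨ν, fun v => by rw [hν, RingHom.comp_apply, RingHom.comp_apply, ha₀, hb₀]⟩
  letI : Algebra F₀ K := (j.comp i).toAlgebra
  letI : Algebra F₀ K₀ := i₀.toAlgebra
  haveI : Module.Finite F₀ K := Module.Finite.of_finite
  haveI : Module.Finite F₀ K₀ := Module.Finite.of_finite
  have hK₀ : Module.finrank F₀ K₀ = 2 := by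
    have h1 := Module.natCard_eq_pow_finrank (K := F₀) (V := K₀)
    rw [Nat.card_eq_fintype_card, Nat.card_eq_fintype_card, hc₀] at h1
    exact (Nat.pow_right_injective Fintype.one_lt_card h1).symm
  have hK : Module.finrank F₀ K = orderOf σ * 2 := by
    have h1 := Module.natCard_eq_pow_finrank (K := F₀) (V := K)
    have h2 := AutPSL.card_fixed_pow σ
    have h3 : Nat.card {x : F // σ x = x} = Fintype.card F₀ := by
      rw [← Nat.card_eq_fintype_card]
      exact (Nat.card_congr ((Equiv.ofInjective i i.injective).trans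
        (Equiv.subtypeEquivRight fun x => (hi x).symm))).symm
    rw [Nat.card_eq_fintype_card, Nat.card_eq_fintype_card, hc, ← Nat.card_eq_fintype_card (α := F), ← h2,
      h3, ← pow_mul] at h1
    exact (Nat.pow_right_injective Fintype.one_lt_card h1).symm
  obtain ⟨f⟩ := FiniteField.nonempty_algHom_of_finrank_dvd (F := F₀) (K := K₀) (L := K)
    (by rw [hK₀, hK]; exact dvd_mul_left 2 _)
  have hf : f.toRingHom.comp i₀ = j.comp i := RingHom.ext fun x => f.commutes x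
  have hh₁ : IsSplit k a₀ b₀ (j.comp i) (Matrix.GeneralLinearGroup.map f.toRingHom h₀) :=
    hf ▸ isSplit_map hh₀ f.toRingHom
  have hchi : ∀ g : Sim k F₀ a₀ b₀, chi hk2 hh' g = chi hk2 hh₀ g := fun g => by
    rw [chi_indep hk2 hh' hh₁ g, ← chi_map hk2 hh₀ f.toRingHom g]
    simp only [chi, MonoidHom.comp_apply]
    refine congrArg _ (Subtype.ext ?_)
    show toPlus (j.comp i) _ (g : GL (Idx k) F₀) = toPlus (f.toRingHom.comp i₀) _ (g : GL (Idx k) F₀)
    rw [hf]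
  have hmap : ∀ g, Matrix.GeneralLinearGroup.map i g ∈ H hk2 hab ↔ g ∈ H hk2 hab₀ := by
    intro g
    have hsim : Matrix.GeneralLinearGroup.map i g ∈ Sim k F a b ↔ g ∈ Sim k F₀ a₀ b₀ :=
      map_mem_sim_iff (qf k F a b) (qf k F₀ a₀ b₀) i hQ qf_e1 g
    have hc2 : ∀ (hg : g ∈ Sim k F₀ a₀ b₀),
        chi hk2 hh ⟨_, hsim.2 hg⟩ = chi hk2 hh₀ ⟨g, hg⟩ := fun hg => by
      rw [← hchi ⟨g, hg⟩]
      exact congrArg (Plus.cls (show 3 ≤ k + 1 by omega)) (Subtype.ext rfl)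
    constructor
    · intro hg
      obtain ⟨h1, h2⟩ := mem_H.1 hg
      exact mem_H.2 ⟨hsim.1 h1, (preservesMinus_iff hk2 hh₀ hc₀ ⟨g, hsim.1 h1⟩).2
        ((hc2 (hsim.1 h1)).symm.trans ((preservesMinus_iff hk2 hh hc ⟨_, h1⟩).1 h2))⟩
    · intro hg
      obtain ⟨h1, h2⟩ := mem_H.1 hg
      exact mem_H.2 ⟨hsim.2 h1, (preservesMinus_iff hk2 hh hc ⟨_, hsim.2 h1⟩).2
        ((hc2 h1).trans ((preservesMinus_iff hk2 hh₀ hc₀ ⟨g, h1⟩).1 h2))⟩
  obtain ⟨e1⟩ := exists_centralizer_equiv (setting hk hab) hσ hφ i hi (H hk2 hab₀) hmap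
  obtain ⟨e2⟩ := exists_range_equiv (setting hk hab₀)
  refine ⟨a₀, b₀, hab₀, ?_⟩
  rw [← range_eq (setting hk hab₀)]
  exact ⟨e1.trans e2.symm⟩

/-- Every class-preserving similarity is an inner one times a fixed one. -/
theorem exists_decomposition (hk : 3 ≤ k)
    (hab : ∀ z₁ z₂ : F, z₁ ^ 2 + a * z₁ * z₂ + b * z₂ ^ 2 = 0 → z₁ = 0 ∧ z₂ = 0)
    {σ : F ≃+* F} (hσ : σ ∈ fixer a b) (g : ↥(H (show 2 ≤ k by omega) hab)) :
    ∃ (s : ↥(Cfsg.Omega F (Cfsg.quadFormMinus k F a b))) (g₀ : ↥(H (show 2 ≤ k by omega) hab)) (c : Fˣ),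
      fieldMap σ (g₀ : GL (Idx k) F) = g₀ ∧
        (g : GL (Idx k) F) = R k F a b s * g₀ * scalarGL (Idx k) c := by
  classical
  have hk2 : 2 ≤ k := by omega
  have hodd := odd_order hσ hab
  obtain ⟨hgs, -⟩ := mem_H.1 g.2
  -- a fixed class-preserving similarity for each fixed multiplier
  have hD : ∀ (μ : fixField σ), μ ≠ 0 → ∃ D : ↥(H hk2 hab), fieldMap σ (D : GL (Idx k) F) = D ∧
      ∀ v, qf k F a b (((D : GL (Idx k) F) : Matrix (Idx k) (Idx k) F) *ᵥ v) = (μ : F) * qf k F a b v := by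
    intro μ hμ
    obtain ⟨s, hs1, hs2⟩ := CG26.AutPO.exists_sim_minus (aniso_fix hσ hab) hk
      (1 : fixField σ ≃+* fixField σ) hμ
    let L : (Idx k → fixField σ) →ₗ[fixField σ] (Idx k → fixField σ) :=
      { toFun := fun x => s.g x
        map_add' := fun x y => map_add s.g x y
        map_smul' := fun c x => by rw [s.map_smul', hs1]; rfl }
    have hu : IsUnit (LinearMap.toMatrix' L).det := by
      rw [LinearMap.det_toMatrix']
      exact LinearEquiv.isUnit_det' (LinearEquiv.ofInjectiveEndo L fun x y e => s.g.injective e)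
    let G := Matrix.GeneralLinearGroup.map (fixField σ).subtype (Matrix.GeneralLinearGroup.mk'' _ hu)
    have hfix : fieldMap σ G = G :=
      Units.ext (Matrix.ext fun p q => fixField_fixed (LinearMap.toMatrix' L p q))
    have hform : ∀ v, qf k F a b ((G : Matrix (Idx k) (Idx k) F) *ᵥ v) = (μ : F) * qf k F a b v := by
      have e : (qf k F a b).comp (G : Matrix (Idx k) (Idx k) F).mulVecLin = (μ : F) • qf k F a b :=
        forms_eq (fixField σ).subtype fun v => by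
          show qf k F a b ((G : Matrix (Idx k) (Idx k) F) *ᵥ _) = (μ : F) * qf k F a b _
          rw [show (G : Matrix (Idx k) (Idx k) F) *ᵥ ((fixField σ).subtype ∘ v) =
            (fixField σ).subtype ∘ (LinearMap.toMatrix' L *ᵥ v) from
              funext fun l => (RingHom.map_mulVec (fixField σ).subtype _ v l).symm,
            LinearMap.toMatrix'_mulVec]
          refine (qf_map (a := (⟨a, hσ.1⟩ : fixField σ)) (b := (⟨b, hσ.2⟩ : fixField σ))
            (fixField σ).subtype (L v)).trans ?_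
          rw [show qf k (fixField σ) ⟨a, hσ.1⟩ ⟨b, hσ.2⟩ (L v) = μ * qf k (fixField σ) ⟨a, hσ.1⟩ ⟨b, hσ.2⟩ v by
            refine (UnitaryOrthogonal.qMinus_apply k _ _ _).symm.trans ?_
            refine (s.form' v).trans ?_
            rw [hs1, hs2]
            exact congrArg _ (UnitaryOrthogonal.qMinus_apply k _ _ v), map_mul]
          exact congrArg _ (qf_map (a := (⟨a, hσ.1⟩ : fixField σ)) (b := (⟨b, hσ.2⟩ : fixField σ))
            (fixField σ).subtype v).symm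
      exact fun v => QuadraticMap.congr_fun e v
    have hμ0 : (μ : F) ≠ 0 := fun e => hμ (Subtype.ext e)
    rcases exists_fixed_H hk2 hab (g := G) ⟨Units.mk0 _ hμ0, hform⟩ with h1 | h1
    · exact ⟨⟨G, h1⟩, hfix, hform⟩
    · refine ⟨⟨_, h1⟩, by rw [map_mul, hfix, r1_fixed hσ], fun v => ?_⟩
      rw [Units.val_mul, ← mulVec_mulVec, hform]
      exact congrArg _ (mem_iso.1 (refl (qf k F a b) (e1 k F)).2 v)
  -- a fixed non-square in odd characteristic
  have hε : (2 : F) ≠ 0 → ∃ ε : fixField σ, ε ≠ 0 ∧ ¬ IsSquare (ε : F) := by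
    intro h2
    letI : Fintype (fixField σ) := Fintype.ofFinite _
    have h2' : (2 : fixField σ) ≠ 0 := fun e => h2 (by rw [← map_ofNat (fixField σ).subtype 2, e, map_zero])
    obtain ⟨ε, -, hε⟩ := Reflections.exists_nonsquare_scalar (F := fixField σ) h2'
    refine ⟨ε, fun e => hε (e ▸ IsSquare.zero), fun hs => ?_⟩
    obtain ⟨t, ht, he⟩ := exists_sqrt_fixed hodd hs (fixField_fixed ε)
    exact hε ⟨⟨t, ht⟩, Subtype.ext he⟩
  -- the multiplier
  obtain ⟨μc, hμc⟩ := hgs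
  obtain ⟨μ₀, c, hμ₀, hμ⟩ : ∃ (μ₀ : fixField σ) (c : Fˣ), μ₀ ≠ 0 ∧ (μc : F) = (μ₀ : F) * ((c : F) * c) := by
    by_cases hs : IsSquare (μc : F)
    · obtain ⟨r, hr⟩ := hs
      have hr0 : r ≠ 0 := fun h => μc.ne_zero (by rw [hr, h, zero_mul])
      exact ⟨1, Units.mk0 r hr0, one_ne_zero, by rw [hr, OneMemClass.coe_one, one_mul]; rfl⟩
    · have h2 : (2 : F) ≠ 0 := fun e => hs (Forms59.isSquare_of_two_eq_zero e _)
      obtain ⟨ε, hε0, hεns⟩ := hε h2
      have hε0' : (ε : F) ≠ 0 := fun e => hε0 (Subtype.ext e)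
      rcases Reflections.square_class hεns μc.ne_zero with ⟨t, ht, h⟩ | ⟨t, ht, h⟩
      · exact absurd ⟨t, by rw [h]; ring⟩ hs
      · exact ⟨ε, Units.mk0 t ht, hε0, by rw [h, Units.val_mk0]; ring⟩
  obtain ⟨D, hDfix, hDform⟩ := hD μ₀ hμ₀
  have hcH : scalarGL (Idx k) c ∈ H hk2 hab := (setting hk hab).scalar c
  set u : ↥(H hk2 hab) := g * (⟨_, hcH⟩ : ↥(H hk2 hab))⁻¹ * D⁻¹ with hu
  have hgu : (g : GL (Idx k) F) = u * D * scalarGL (Idx k) c := by
    rw [hu, Subgroup.coe_mul, Subgroup.coe_mul, Subgroup.coe_inv, Subgroup.coe_inv]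
    group
  have huiso : (u : GL (Idx k) F) ∈ Cfsg.isometryGroup F ⇑(qf k F a b) := by
    refine mem_iso.2 fun w => ?_
    obtain ⟨v, rfl⟩ : ∃ v, w = ((((D : GL (Idx k) F) * scalarGL (Idx k) c : GL (Idx k) F)) : Matrix (Idx k) (Idx k) F) *ᵥ v :=
      ⟨((((D : GL (Idx k) F) * scalarGL (Idx k) c)⁻¹ : GL (Idx k) F) : Matrix (Idx k) (Idx k) F) *ᵥ w, by
        rw [mulVec_mulVec, ← Units.val_mul, mul_inv_cancel, Units.val_one, one_mulVec]⟩
    rw [mulVec_mulVec, ← Units.val_mul, ← mul_assoc, ← hgu, hμc, hμ, Units.val_mul, ← mulVec_mulVec,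
      hDform, AutPSL.scalarGL_coe, smul_mulVec, one_mulVec, QuadraticMap.map_smul, smul_eq_mul]
    ring
  obtain ⟨K, _, _, i, h, hc, hh⟩ := exists_split (k := k) hab
  have hchiu : chi hk2 hh ⟨u, iso_le_sim _ huiso⟩ = 1 :=
    (preservesMinus_iff hk2 hh hc ⟨u, iso_le_sim _ huiso⟩).1 (mem_H.1 u.2).2
  let ψ : ↥(Cfsg.isometryGroup F ⇑(qf k F a b)) →* Multiplicative (ZMod 2) :=
    (chi hk2 hh).comp (Subgroup.inclusion (iso_le_sim _))
  have hψ : ∀ v, qf k F a b v ≠ 0 → ψ (refl (qf k F a b) v) = Multiplicative.ofAdd 1 := fun v hv =>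
    chi_refl hk2 hh hv rfl
  have hpar : ∀ vs : List (Idx k → F), (∀ v ∈ vs, qf k F a b v ≠ 0) →
      ψ (Forms59.reflProd (qf k F a b) vs) = Multiplicative.ofAdd (vs.length : ZMod 2) := by
    intro vs hvs
    induction vs with
    | nil => simp [Forms59.reflProd]
    | cons v vs ih =>
      rw [Forms59.reflProd_cons, map_mul, hψ v (hvs v (by simp)),
        ih (fun w hw => hvs w (by simp [hw])), ← ofAdd_add, List.length_cons, Nat.cast_succ, add_comm]
  have hn : Fintype.card F ≠ 2 ∨ Fintype.card (Idx k) ≠ 4 := Or.inr (by simp; omega)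
  obtain ⟨vs, hvs, hvse⟩ := Forms59.exists_reflProd (nondeg hab) hn
    (⟨_, huiso⟩ : ↥(Cfsg.isometryGroup F ⇑(qf k F a b)))
  have hlen : Even vs.length := by
    have h1 : ψ (Forms59.reflProd (qf k F a b) vs) = 1 := by rw [← hvse]; exact hchiu
    rwa [hpar vs hvs, ofAdd_eq_one, ZMod.natCast_eq_zero_iff_even] at h1
  have huvs : (u : GL (Idx k) F) = (Forms59.reflProd (qf k F a b) vs : GL (Idx k) F) :=
    congrArg Subtype.val hvse
  by_cases hsq : IsSquare (vs.map fun v => qf k F a b v).prod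
  · refine ⟨⟨_, Forms59.mem_omega_of_even_square (nondeg hab) hn (by simp) vs hvs hlen hsq⟩,
      D, c, hDfix, ?_⟩
    rw [hgu, huvs]
    rfl
  · have h2 : (2 : F) ≠ 0 := fun e => hsq (Forms59.isSquare_of_two_eq_zero e _)
    obtain ⟨ε, hε0, hεns⟩ := hε h2
    -- the fixed product of two reflections of spinor norm minus one
    set bv : Idx k → F := Pi.single (.inl (.inl ⟨0, by omega⟩)) (ε : F) + Pi.single (.inl (.inr ⟨0, by omega⟩)) 1
      with hbv
    have hbq : qf k F a b bv = ε := by simp [qf_apply, Cfsg.quadFormMinus, hbv, Pi.single_apply]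
    have hb0 : qf k F a b bv ≠ 0 := by rw [hbq]; exact fun e => hε0 (Subtype.ext e)
    have he0 : qf k F a b (e1 k F) ≠ 0 := by rw [qf_e1]; exact one_ne_zero
    set w₀ := refl (qf k F a b) (e1 k F) * refl (qf k F a b) bv with hw₀
    have hws : ∀ v ∈ vs ++ [bv, e1 k F], qf k F a b v ≠ 0 := by
      intro v hv
      simp only [List.mem_append, List.mem_cons, List.not_mem_nil, or_false] at hv
      rcases hv with hv | rfl | rfl
      · exact hvs v hv
      · exact hb0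
      · exact he0
    have hsq' : IsSquare ((vs ++ [bv, e1 k F]).map fun v => qf k F a b v).prod := by
      rw [List.map_append, List.prod_append]
      simp only [List.map_cons, List.map_nil, List.prod_cons, List.prod_nil, hbq, qf_e1, mul_one]
      have hne : (vs.map fun v => qf k F a b v).prod ≠ 0 := fun e => hsq (e ▸ IsSquare.zero)
      rcases Reflections.square_class hεns hne with ⟨t, ht, h⟩ | ⟨t, ht, h⟩
      · exact absurd ⟨t, by rw [h]; ring⟩ hsq
      · exact ⟨(ε : F) * t, by rw [h]; ring⟩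
    have hw₀H : (w₀ : GL (Idx k) F) ∈ H hk2 hab := by
      refine mem_H.2 ⟨iso_le_sim _ w₀.2, (preservesMinus_iff hk2 hh hc ⟨_, iso_le_sim _ w₀.2⟩).2 ?_⟩
      show ψ w₀ = 1
      rw [hw₀, map_mul, hψ _ he0, hψ _ hb0]
      decide
    have hw₀fix : fieldMap σ (w₀ : GL (Idx k) F) = w₀ := Units.ext (by
      show (mat w₀).map σ = mat w₀
      rw [hw₀, Forms59.mat_mul', Reflections.mat_refl he0, Reflections.mat_refl hb0, Matrix.map_mul,
        reflection_fixed (qf_sigma hσ.1 hσ.2) (fun j => e1_fixed σ j),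
        reflection_fixed (qf_sigma hσ.1 hσ.2)]
      intro j
      by_cases h₁ : j = .inl (.inl ⟨0, by omega⟩) <;> by_cases h₂ : j = .inl (.inr ⟨0, by omega⟩) <;>
        simp [hbv, h₁, h₂, fixField_fixed ε])
    refine ⟨⟨_, Forms59.mem_omega_of_even_square (nondeg hab) hn (by simp) _ hws
      (by rw [List.length_append]; exact hlen.add even_two) hsq'⟩,
      (⟨_, hw₀H⟩ : ↥(H hk2 hab)) * D, c, by rw [Subgroup.coe_mul, map_mul, hw₀fix, hDfix], ?_⟩
    show (g : GL (Idx k) F) = (Forms59.reflProd (qf k F a b) (vs ++ [bv, e1 k F]) : GL (Idx k) F) *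
      ((w₀ : GL (Idx k) F) * (D : GL (Idx k) F)) * scalarGL (Idx k) c
    rw [hgu, huvs, Forms59.reflProd_append, Forms59.reflProd_cons, Forms59.reflProd_cons,
      show Forms59.reflProd (qf k F a b) [] = 1 from rfl, mul_one, hw₀, Subgroup.coe_mul, Subgroup.coe_mul,
      Subgroup.coe_mul]
    simp only [mul_assoc]
    rw [← mul_assoc ((refl (qf k F a b) (e1 k F) : GL (Idx k) F)),
      show ((refl (qf k F a b) (e1 k F) : GL (Idx k) F)) * (refl (qf k F a b) (e1 k F) : GL (Idx k) F) = 1 from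
        congrArg Subtype.val (Reflections.refl_mul_self he0), one_mul,
      ← mul_assoc ((refl (qf k F a b) bv : GL (Idx k) F)),
      show ((refl (qf k F a b) bv : GL (Idx k) F)) * (refl (qf k F a b) bv : GL (Idx k) F) = 1 from
        congrArg Subtype.val (Reflections.refl_mul_self hb0), one_mul]

end Minus

end Cfsg.Agent.FieldAutGen
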