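import Mathlib
import Cfsg.Agent.FieldAutGen.MinusField

/-!
Field automorphisms of `PΩ⁻` of prime order (helper60).
-/

set_option autoImplicit false
set_option maxHeartbeats 1600000

namespace Cfsg.Agent.FieldAutGen.Minus

open Matrix
open Cfsg.Agent.AutPSL (fieldMap Induced)
open Cfsg.Agent.FieldAutGen.Orth

universe u v

variable {k : ℕ} {F : Type u} [Field F] [Fintype F] {a b : F}

theorem coset_order_iff (hk : 3 ≤ k)
    (hab : ∀ z₁ z₂ : F, z₁ ^ 2 + a * z₁ * z₂ + b * z₂ ^ 2 = 0 → z₁ = 0 ∧ z₂ = 0)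
    (x δ : MulAut (Cfsg.POmega F (Cfsg.quadFormMinus k F a b)))
    (hx : Cfsg.IsFieldAutClassPOmegaMinus k x) {r : ℕ} (hxr : orderOf x = r)
    (hδ : δ ∈ Cfsg.inndiagPOmegaMinus k F a b) :
    orderOf (δ * x) = r ↔ Cfsg.IsConjUnder (Cfsg.inndiagPOmegaMinus k F a b) x (δ * x) := by
  refine ⟨fun ho => ?_, fun ⟨h, _, e⟩ => by rw [e, AutPSL.orderOf_conj', hxr]⟩
  haveI : Nonempty (Idx k) := ⟨.inr 0⟩
  obtain ⟨a', b', ψ, σ, hab', -, ha, hb, hφ⟩ := hx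
  have hS := setting hk hab
  have hS' := setting hk hab'
  have hmap := map_range hk hab hab' ψ
  rw [← range_eq hS] at hδ ⊢
  have hφ' : Induced (R k F a' b') 1 σ (MulAut.congr ψ x) := isFieldAut_iff.1 hφ
  have hσ : orderOf σ = r := by
    rw [← orderOf_std hS' (show σ ∈ fixer a' b' from ⟨ha, hb⟩) hφ', MulEquiv.orderOf_eq, hxr]
  have h1 := field_coset hS' (show σ ∈ fixer a' b' from ⟨ha, hb⟩) hφ'
    (exists_coboundary (show 2 ≤ k by omega) hab' ⟨ha, hb⟩)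
    ((Transport.mem_iff (MulAut.congr ψ) hmap δ).2 hδ)
    (by rw [← map_mul, MulEquiv.orderOf_eq, ho, hσ])
  rw [← map_mul] at h1
  exact (Transport.isConjUnder_iff (MulAut.congr ψ) hmap x (δ * x)).1 h1

theorem field_class {p f : ℕ} (hp : p.Prime) (hF : Fintype.card F = p ^ f) (hf : 1 ≤ f) (hk : 3 ≤ k)
    (hab : ∀ z₁ z₂ : F, z₁ ^ 2 + a * z₁ * z₂ + b * z₂ ^ 2 = 0 → z₁ = 0 ∧ z₂ = 0)
    (x : MulAut (Cfsg.POmega F (Cfsg.quadFormMinus k F a b)))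
    (hx : Cfsg.IsFieldAutClassPOmegaMinus k x) {r : ℕ} (hxr : orderOf x = r)
    (F₀ : Type v) [Field F₀] [Fintype F₀] (hF₀ : Fintype.card F₀ = p ^ (f / r)) :
    Odd r ∧ r ∣ f ∧
      (∃ a₀ b₀ : F₀, (∀ z₁ z₂ : F₀, z₁ ^ 2 + a₀ * z₁ * z₂ + b₀ * z₂ ^ 2 = 0 → z₁ = 0 ∧ z₂ = 0) ∧
        Nonempty (↥(Cfsg.inndiagPOmegaMinus k F a b ⊓ Subgroup.centralizer {x}) ≃*
          ↥(Cfsg.inndiagPOmegaMinus k F₀ a₀ b₀))) ∧
      Cfsg.splitClassCount (Cfsg.inndiagPOmegaMinus k F a b)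
        (Cfsg.Inn (Cfsg.POmega F (Cfsg.quadFormMinus k F a b))) x = 1 := by
  haveI : Nonempty (Idx k) := ⟨.inr 0⟩
  obtain ⟨a', b', ψ, σ, hab', -, ha, hb, hφ⟩ := hx
  have hσm : σ ∈ fixer a' b' := ⟨ha, hb⟩
  have hS := setting hk hab
  have hS' := setting hk hab'
  have hmap := map_range hk hab hab' ψ
  have hφ' : Induced (R k F a' b') 1 σ (MulAut.congr ψ x) := isFieldAut_iff.1 hφ
  have hσ : orderOf σ = r := by
    rw [← orderOf_std hS' hσm hφ', MulEquiv.orderOf_eq, hxr]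
  obtain ⟨hrf, hfix⟩ := AutPSL.card_fixed_eq hσ hp hF hf
  obtain ⟨i, hi⟩ := AutPSL.exists_fixed_embedding σ F₀ (hF₀.trans hfix.symm)
  obtain ⟨a₀, b₀, hab₀, ⟨e⟩⟩ := field_centralizer hk (hab := hab') hσm hφ' i hi
  obtain ⟨e'⟩ := Transport.centralizer_equiv (MulAut.congr ψ) hmap x
  rw [← range_eq hS]
  refine ⟨hσ ▸ odd_order hσm hab', hrf, ⟨a₀, b₀, hab₀, ⟨e'.trans e⟩⟩, ?_⟩
  rw [← Transport.splitClassCount_eq (MulAut.congr ψ) hmap (Transport.map_inn ψ) x]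
  exact split_one hS' hσm hφ' fun g => exists_decomposition hk hab' hσm g

end Cfsg.Agent.FieldAutGen.Minus
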