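import Mathlib
import Cfsg.Agent.CG26.AutPO.D4Classes

/-!
Triality carries diagonal similarity automorphisms of `PΩ⁺_8` to diagonal ones (helper60).
-/

set_option autoImplicit false

namespace Cfsg.Agent.FieldAutGen.Plus.D4Torus

open Cfsg.Agent.UnitaryOrthogonal Cfsg.Agent.UnitaryOrthogonal.Adjoint
open Cfsg.Agent.CG26.AutPO Cfsg.Agent.CG26.AutPO.D4

universe u

/-- The weight of a basis vector: four coordinates and the multiplier. -/
def wv : I4 → Fin 5 → ℤ
  | .inl i => Pi.single i.castSucc 1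
  | .inr i => Pi.single (Fin.last 4) 1 - Pi.single i.castSucc 1

/-- The weight of a root. -/
def wr (r : Fin Cfsg.Lie.chevD4.nroots) : Fin 5 → ℤ :=
  wv (d4Pair r).1 + wv (d4Pair r).2.1 - Pi.single (Fin.last 4) 1

/-- The map of weights belonging to triality. -/
def amat : Fin 5 → Fin 5 → ℤ :=
  ![![0, 1, 1, 0, -1], ![0, 1, 0, 1, -1], ![0, 0, 1, 1, -1], ![0, 0, 0, 0, 0], ![-1, 1, 1, 1, -1]]

theorem amat_spec : ∀ (r : Fin Cfsg.Lie.chevD4.nroots) (l : Fin 5),
    ∑ j, wr r j * amat j l = wr (rho r) l := by decide +kernel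

variable {F : Type u} [Field F]

theorem zpow_sum' {α : Type*} (a : Fˣ) (z : α → ℤ) (t : Finset α) :
    a ^ ∑ j ∈ t, z j = ∏ j ∈ t, a ^ z j := by
  classical
  induction t using Finset.induction_on with
  | empty => simp
  | insert j t hj ih => rw [Finset.sum_insert hj, Finset.prod_insert hj, zpow_add, ih]

/-- Evaluation of a weight. -/
def ev (v : Fin 5 → Fˣ) (z : Fin 5 → ℤ) : Fˣ := ∏ j, v j ^ z j

theorem ev_add (v : Fin 5 → Fˣ) (z z' : Fin 5 → ℤ) : ev v (z + z') = ev v z * ev v z' := by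
  simp only [ev, Pi.add_apply, zpow_add, Finset.prod_mul_distrib]

theorem ev_sub (v : Fin 5 → Fˣ) (z z' : Fin 5 → ℤ) : ev v (z - z') = ev v z * (ev v z')⁻¹ := by
  simp only [ev, Pi.sub_apply, zpow_sub, Finset.prod_mul_distrib, Finset.prod_inv_distrib]

theorem ev_single (v : Fin 5 → Fˣ) (i : Fin 5) : ev v (Pi.single i 1) = v i := by
  rw [ev, Finset.prod_eq_single i (fun j _ hj => by rw [Pi.single_eq_of_ne hj, zpow_zero])
    (fun h => absurd (Finset.mem_univ i) h), Pi.single_eq_same, zpow_one]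

/-- Diagonal entries with a given multiplier, as values of the weights. -/
def tv (k : I4 → Fˣ) (μ : Fˣ) : Fin 5 → Fˣ := Fin.snoc (fun i => k (.inl i)) μ

theorem ev_wv {k : I4 → Fˣ} {μ : Fˣ} (hk : ∀ i : Fin 4, k (.inl i) * k (.inr i) = μ) :
    ∀ x : I4, ev (tv k μ) (wv x) = k x
  | .inl i => by rw [wv, ev_single, tv, Fin.snoc_castSucc]
  | .inr i => by
    rw [wv, ev_sub, ev_single, ev_single, tv, Fin.snoc_castSucc, Fin.snoc_last, ← hk i,
      mul_right_comm, mul_inv_cancel, one_mul]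

theorem ev_wr {k : I4 → Fˣ} {μ : Fˣ} (hk : ∀ i : Fin 4, k (.inl i) * k (.inr i) = μ)
    (r : Fin Cfsg.Lie.chevD4.nroots) :
    ev (tv k μ) (wr r) = μ⁻¹ * k (d4Pair r).1 * k (d4Pair r).2.1 := by
  rw [wr, ev_sub, ev_add, ev_wv hk, ev_wv hk, ev_single, tv, Fin.snoc_last, mul_comm, mul_assoc]

variable [Fintype F]

/-- Conjugating a diagonal similarity automorphism by triality. -/
theorem tau_diag (k : I4 → Fˣ) (μ : Fˣ) (hk : ∀ i : Fin 4, k (.inl i) * k (.inr i) = μ)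
    (s : Sim (qPlus 4 F)) (hσ : s.σ = 1) (hμ : s.μ = (μ : F))
    (hg : ∀ i, s.g (bv i) = (k i : F) • bv i) :
    ∃ (k' : I4 → Fˣ) (μ' : Fˣ) (s' : Sim (qPlus 4 F)),
      (∀ i : Fin 4, k' (.inl i) * k' (.inr i) = μ') ∧ s'.σ = 1 ∧
      (∀ v i, s'.g v i = (k' i : F) * v i) ∧ tau⁻¹ * s.aut * tau = s'.aut := by
  set v' : Fin 5 → Fˣ := fun j => ev (tv k μ) (amat j) with hv'
  set k' : I4 → Fˣ := Sum.elim (fun i => v' i.castSucc) fun i => v' (Fin.last 4) * (v' i.castSucc)⁻¹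
    with hkdef
  have hk' : ∀ i : Fin 4, k' (.inl i) * k' (.inr i) = v' (Fin.last 4) := fun i => by
    simp only [hkdef, Sum.elim_inl, Sum.elim_inr]
    rw [mul_left_comm, mul_inv_cancel, mul_one]
  have htv : tv k' (v' (Fin.last 4)) = v' := by
    funext j
    refine Fin.lastCases ?_ (fun i => ?_) j
    · rw [tv, Fin.snoc_last]
    · rw [tv, Fin.snoc_castSucc]; rfl
  obtain ⟨s', hσ', hμ', happ, hbv⟩ := exists_diag (F := F) (fun i => (k' i : F)) 1
    (v' (Fin.last 4)).ne_zero (fun i => by rw [← Units.val_mul, hk'])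
  refine ⟨k', v' (Fin.last 4), s', hk', hσ', fun v i => (happ v i).trans rfl, ext_X fun r t => ?_⟩
  have e : (v' (Fin.last 4))⁻¹ * k' (d4Pair r).1 * k' (d4Pair r).2.1 =
      μ⁻¹ * k (d4Pair (rho r)).1 * k (d4Pair (rho r)).2.1 := by
    rw [← ev_wr hk', ← ev_wr hk, htv]
    simp only [ev, hv', ← Finset.prod_zpow]
    rw [Finset.prod_comm]
    refine Finset.prod_congr rfl fun l _ => ?_
    rw [← amat_spec r l, zpow_sum']
    exact Finset.prod_congr rfl fun j _ => by rw [← zpow_mul, mul_comm]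
  have hsr : ∀ t : F, s.aut (X (rho r) t) =
      X (rho r) (((μ⁻¹ * k (d4Pair (rho r)).1 * k (d4Pair (rho r)).2.1 : Fˣ) : F) * t) :=
    fun t => by rw [diag_X hg (rho r) t, hσ, hμ]; simp
  have hs' : s'.aut (X r t) =
      X r ((((v' (Fin.last 4))⁻¹ * k' (d4Pair r).1 * k' (d4Pair r).2.1 : Fˣ) : F) * t) := by
    rw [diag_X hbv r t, hσ', hμ']; simp
  rw [hs', e, MulAut.mul_apply, MulAut.mul_apply, MulAut.inv_apply, MulEquiv.symm_apply_eq, tau_X,
    tau_X, hsr]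
  congr 1
  ring

end Cfsg.Agent.FieldAutGen.Plus.D4Torus
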