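import Mathlib
import Cfsg.Agent.FieldAutGen.PlusAut
import Cfsg.Agent.FieldAutGen.PlusChi
import Cfsg.Agent.FieldAutGen.PlusD4Torus

/-!
Every automorphism of `PΩ⁺_{2m}(q)`, `m ≥ 4`, normalises the inner-diagonal group (helper60).
-/

set_option autoImplicit false
set_option maxHeartbeats 1600000

namespace Cfsg.Agent.FieldAutGen.Plus

open Matrix QuadraticMap
open Cfsg.Agent.AutPSL (fieldMap scalarGL Induced Normalises)
open Cfsg.Agent.FieldAutGen.Orth
open Cfsg.Agent.UnitaryOrthogonal (eichGroup isometryGroupEquiv)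

universe u

variable {F : Type u} [Field F]

/-- The identification with the basis-free group, and the matrices of semisimilitudes. -/
theorem exists_transfer {ι : Type} [Fintype ι] [DecidableEq ι] [Finite F] {f : (ι → F) → F}
    {Q : QuadraticForm F (ι → F)} (hf : ∀ v, Q v = f v) (hS : CG26.AutPO.Setup Q) :
    ∃ E : Cfsg.POmega F f ≃* CG26.AutPO.PO Q, ∀ s : CG26.AutPO.Sim Q,
      ∃ G : GL ι F, (∀ v, (G : Matrix ι ι F) *ᵥ (s.σ ∘ v) = s.g v) ∧
        Cfsg.IsSemisimilarityPair f G s.σ ∧ Induced (rho f) G s.σ ((MulAut.congr E).symm s.aut) := by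
  classical
  haveI := hS.fin
  set φ := isometryGroupEquiv (f := f) Q hf with hφ
  have hmap : (Cfsg.Omega F f).map φ.toMonoidHom = eichGroup Q := by
    rw [← OrthStab.commutator_eq hS.nd (le_trans (by norm_num) hS.dim), Cfsg.Omega, commutator_def,
      Subgroup.map_commutator, Subgroup.map_top_of_surjective _ φ.surjective, commutator_def]
  let e : ↥(Cfsg.Omega F f) ≃* CG26.AutPO.Om Q :=
    (φ.subgroupMap (Cfsg.Omega F f)).trans (MulEquiv.subgroupCongr hmap)
  have hZ : (Subgroup.center ↥(Cfsg.Omega F f)).map e.toMonoidHom = Subgroup.center (CG26.AutPO.Om Q) := by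
    refine le_antisymm ?_ fun y hy => ?_
    · rintro _ ⟨x, hx, rfl⟩
      refine Subgroup.mem_center_iff.2 fun y => ?_
      have := congrArg e (Subgroup.mem_center_iff.1 hx (e.symm y))
      rw [map_mul, map_mul, e.apply_symm_apply] at this
      exact this
    · refine ⟨e.symm y, Subgroup.mem_center_iff.2 fun x => e.injective ?_, e.apply_symm_apply y⟩
      rw [map_mul, map_mul, e.apply_symm_apply]
      exact Subgroup.mem_center_iff.1 hy (e x)
  let E : Cfsg.POmega F f ≃* CG26.AutPO.PO Q := QuotientGroup.congr _ _ e hZ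
  refine ⟨E, fun s => ?_⟩
  let L : (ι → F) →ₗ[F] (ι → F) :=
    { toFun := fun x => s.g (s.σ.symm ∘ x)
      map_add' := fun x y => by
        rw [← map_add]; congr 1; funext i; exact map_add s.σ.symm _ _
      map_smul' := fun c x => by
        rw [show s.σ.symm ∘ (c • x) = s.σ.symm c • (s.σ.symm ∘ x) from
          funext fun i => map_mul s.σ.symm _ _, s.map_smul', s.σ.apply_symm_apply, RingHom.id_apply] }
  have hL : ∀ v, LinearMap.toMatrix' L *ᵥ (s.σ ∘ v) = s.g v := fun v => by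
    rw [LinearMap.toMatrix'_mulVec]
    exact congrArg s.g (funext fun i => s.σ.symm_apply_apply (v i))
  have hinj : Function.Injective L := fun x y h => funext fun i =>
    s.σ.symm.injective (congrFun (s.g.injective h) i)
  have hu : IsUnit (LinearMap.toMatrix' L).det := by
    rw [LinearMap.det_toMatrix']
    exact LinearEquiv.isUnit_det' (LinearEquiv.ofInjectiveEndo L hinj)
  let G : GL ι F := Matrix.GeneralLinearGroup.mk'' _ hu
  refine ⟨G, hL, ⟨Units.mk0 s.μ s.μ0, fun v => ?_⟩, fun t t' ht => E.injective ?_⟩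
  · show f (LinearMap.toMatrix' L *ᵥ (s.σ ∘ v)) = _
    rw [hL, ← hf, s.form', hf, Units.val_mk0]
  · show E (E.symm (s.aut (E (QuotientGroup.mk t)))) = _
    rw [E.apply_symm_apply]
    show s.aut (CG26.AutPO.piO Q (e t)) = CG26.AutPO.piO Q (e t')
    rw [s.aut_piO]
    refine congrArg _ (Subtype.ext (Subtype.ext (LinearEquiv.ext fun x => ?_)))
    obtain ⟨v, rfl⟩ := s.g.surjective x
    show s.g ((rho f t : Matrix ι ι F) *ᵥ s.g.symm (s.g v)) = (rho f t' : Matrix ι ι F) *ᵥ s.g v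
    rw [s.g.symm_apply_apply, ht, ← hL v, ← hL]
    exact (act_mulVec G s.σ (rho f t) v).symm

variable [Fintype F] {m : ℕ}

/-- A class-preserving similarity is diagonal modulo `Ω` and scalars. -/
theorem exists_omega_diag (hm : 3 ≤ m) (g : ↥(H hm F)) :
    ∃ (s : ↥(Cfsg.Omega F ⇑(qf m F))) (c : Fˣ) (d : Fin m → Fˣ) (μ : Fˣ),
      (g : GL (Fin m ⊕ Fin m) F) = rho ⇑(qf m F) s *
        (((dg m F d : ↥(Iso m F)) : GL (Fin m ⊕ Fin m) F) * delta m F μ) * scalarGL _ c := by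
  classical
  by_cases h2 : (2 : F) = 0
  · obtain ⟨s, c, h⟩ := mem_omega_scalar hm h2 g
    refine ⟨s, c, 1, 1, ?_⟩
    rw [map_one, map_one, OneMemClass.coe_one, one_mul, mul_one]
    exact h
  · obtain ⟨ε, -, hε⟩ := Reflections.exists_nonsquare_scalar (F := F) h2
    have hε0 : ε ≠ 0 := fun h => hε (h ▸ IsSquare.zero)
    obtain ⟨b, hb⟩ : ∃ b : Fˣ, etaU F b = (chiP hm h2 hε g).2 := by
      rcases Int.units_eq_one_or (chiP hm h2 hε g).2 with h | h
      · exact ⟨1, (map_one _).trans h.symm⟩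
      · exact ⟨Units.mk0 ε hε0, (etaU_of_not _ (by simpa using hε)).trans h.symm⟩
    let j₀ : Fin m := ⟨0, by omega⟩
    let D : ↥(H hm F) := ⟨_, dg_delta_mem hm (Pi.mulSingle j₀ b) (chiP hm h2 hε g).1⟩
    have hD : chiP hm h2 hε D = chiP hm h2 hε g := by
      rw [chiP_dg_delta hm h2 hε _ _ D rfl, Fintype.prod_eq_single j₀ (fun j hj => by
        rw [Pi.mulSingle_eq_of_ne hj, map_one]), Pi.mulSingle_eq_same, hb]
    obtain ⟨s, hs⟩ := (chiP_eq_one_iff hm h2 hε (g * D⁻¹)).1 (by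
      rw [map_mul, map_inv, hD, mul_inv_cancel])
    refine ⟨s, 1, Pi.mulSingle j₀ b, (chiP hm h2 hε g).1, ?_⟩
    rw [show scalarGL (F := F) (Fin m ⊕ Fin m) 1 = 1 from map_one _, mul_one, ← hs]
    exact (inv_mul_cancel_right (g : GL (Fin m ⊕ Fin m) F) (D : GL (Fin m ⊕ Fin m) F)).symm

theorem conj_inndiag4 (hS : Setting (R 4 F) (H (show 3 ≤ 4 by norm_num) F) ⊤)
    (α : MulAut (Cfsg.POmega F (Cfsg.quadFormPlus 4 F)))
    {d : MulAut (Cfsg.POmega F (Cfsg.quadFormPlus 4 F))} (hd : d ∈ (conjH hS).range) :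
    α * d * α⁻¹ ∈ (conjH hS).range := by
  obtain ⟨E, hE⟩ := exists_transfer (F := F) (fun v => UnitaryOrthogonal.qPlus_apply 4 v)
    (CG26.AutPO.setup_plus (le_refl 4))
  set C := (MulAut.congr E).symm with hC
  set t : MulAut (Cfsg.POmega F (Cfsg.quadFormPlus 4 F)) := C CG26.AutPO.D4.tau with ht
  have hsim : ∀ s : CG26.AutPO.Sim (UnitaryOrthogonal.qPlus 4 F), ∀ d ∈ (conjH hS).range,
      C s.aut * d * (C s.aut)⁻¹ ∈ (conjH hS).range := by
    intro s d hd
    obtain ⟨G, -, hG, hGi⟩ := hE s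
    exact conj_range hS (normalises_sim (semi_mem_sim hG) s.σ) hGi
      (fun h hh => conj_mem_H _ (semi_mem_sim hG) (hS.fmap h hh s.σ (Subgroup.mem_top _))) hd
  have hdiag : ∀ (d₀ : Fin 4 → Fˣ) (μ : Fˣ),
      t⁻¹ * conjH hS ⟨_, dg_delta_mem (show 3 ≤ 4 by norm_num) d₀ μ⟩ * t ∈ (conjH hS).range := by
    intro d₀ μ
    set k : Fin 4 ⊕ Fin 4 → Fˣ := Sum.elim (fun j => d₀ j * μ) fun j => (d₀ j)⁻¹ with hkdef
    have hk : ∀ i : Fin 4, k (.inl i) * k (.inr i) = μ := fun i => by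
      simp only [hkdef, Sum.elim_inl, Sum.elim_inr]
      rw [mul_right_comm, mul_inv_cancel, one_mul]
    have hmat : ∀ v, (((dg 4 F d₀ : ↥(Iso 4 F)) : GL (Fin 4 ⊕ Fin 4) F) * delta 4 F μ :
        GL (Fin 4 ⊕ Fin 4) F) *ᵥ v = fun i => (k i : F) * v i := fun v => by
      rw [Units.val_mul, ← mulVec_mulVec, delta_mulVec]
      funext l
      show Reflections.act (dg 4 F d₀) _ l = _
      rw [act_dg]
      rcases l with l | l <;> simp [hkdef, mul_assoc]
    obtain ⟨s, hσ, hμ, hv, hbv⟩ := CG26.AutPO.D4.exists_diag (F := F) (fun i => (k i : F)) 1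
      μ.ne_zero (fun i => by rw [← Units.val_mul, hk])
    obtain ⟨k', μ', s', hk', hσ', hv', he⟩ := D4Torus.tau_diag k μ hk s hσ hμ hbv
    have h1 : C s.aut = conjH hS ⟨_, dg_delta_mem (show 3 ≤ 4 by norm_num) d₀ μ⟩ := by
      obtain ⟨G, hG, -, hGi⟩ := hE s
      rw [hσ] at hGi hG
      have e : G = ((dg 4 F d₀ : ↥(Iso 4 F)) : GL (Fin 4 ⊕ Fin 4) F) * delta 4 F μ :=
        Units.ext (Matrix.ext_iff_mulVec.mpr fun v => by
          rw [hmat]; exact (hG v).trans (funext fun i => hv v i))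
      subst e
      exact eq_conjH hS _ hGi
    have h3 : ∃ h, C s'.aut = conjH hS h := by
      obtain ⟨G, hG, -, hGi⟩ := hE s'
      rw [hσ'] at hGi hG
      have e : G = ((dg 4 F fun j => (k' (.inr j))⁻¹ : ↥(Iso 4 F)) : GL (Fin 4 ⊕ Fin 4) F) *
          delta 4 F μ' := Units.ext (Matrix.ext_iff_mulVec.mpr fun v => by
        refine ((hG v).trans (funext fun i => hv' v i)).trans ?_
        rw [Units.val_mul, ← mulVec_mulVec, delta_mulVec]
        funext l
        show _ = Reflections.act (dg 4 F fun j => (k' (.inr j))⁻¹) _ l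
        rw [act_dg]
        rcases l with l | l
        · simp only [Sum.elim_inl]
          rw [← mul_assoc, ← Units.val_mul, ← hk' l, mul_comm (k' (Sum.inl l)), inv_mul_cancel_left]
        · simp only [Sum.elim_inr, inv_inv])
      subst e
      exact ⟨_, eq_conjH hS (dg_delta_mem _ _ _) hGi⟩
    obtain ⟨h, h3⟩ := h3
    rw [← h1, ht, ← map_inv, ← map_mul, ← map_mul, he, h3]
    exact ⟨h, rfl⟩
  have htau : ∀ d ∈ (conjH hS).range, t⁻¹ * d * t ∈ (conjH hS).range := by
    rintro _ ⟨g, rfl⟩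
    obtain ⟨s, c, d₀, μ, hg⟩ := exists_omega_diag (show 3 ≤ 4 by norm_num) g
    have e : conjH hS g = MulAut.conj (QuotientGroup.mk s : Cfsg.POmega F (Cfsg.quadFormPlus 4 F)) *
        conjH hS ⟨_, dg_delta_mem (show 3 ≤ 4 by norm_num) d₀ μ⟩ := by
      rw [show g = (⟨rho ⇑(qf 4 F) s, hS.rho_mem s⟩ : ↥(H (show 3 ≤ 4 by norm_num) F)) *
          ⟨_, dg_delta_mem (show 3 ≤ 4 by norm_num) d₀ μ⟩ * ⟨scalarGL _ c, hS.scalar c⟩ from
            Subtype.ext hg, map_mul, map_mul, conjH_scalar hS, mul_one]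
      exact congrArg (· * _) (conjH_rho hS s)
    have hInn : ∀ x : Cfsg.POmega F (Cfsg.quadFormPlus 4 F),
        MulAut.conj x ∈ (conjH hS).range := fun x => by
      obtain ⟨s, rfl⟩ := QuotientGroup.mk_surjective x
      exact ⟨_, conjH_rho hS s⟩
    rw [e, show t⁻¹ * (MulAut.conj (QuotientGroup.mk s : Cfsg.POmega F (Cfsg.quadFormPlus 4 F)) *
        conjH hS ⟨_, dg_delta_mem (show 3 ≤ 4 by norm_num) d₀ μ⟩) * t =
      MulAut.conj (t⁻¹ (QuotientGroup.mk s)) *
        (t⁻¹ * conjH hS ⟨_, dg_delta_mem (show 3 ≤ 4 by norm_num) d₀ μ⟩ * t) by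
          rw [show MulAut.conj (t⁻¹ (QuotientGroup.mk s : Cfsg.POmega F (Cfsg.quadFormPlus 4 F))) =
            t⁻¹ * MulAut.conj (QuotientGroup.mk s : Cfsg.POmega F (Cfsg.quadFormPlus 4 F)) * t from
              MulEquiv.ext fun y => by simp [MulAut.mul_apply, MulAut.conj_apply, map_mul, map_inv]]
          group]
    exact mul_mem (hInn _) (hdiag d₀ μ)
  have ht3 : t ^ 3 = 1 := by rw [ht, ← map_pow, CG26.AutPO.D4.tau_cube, map_one]
  have htpow : ∀ n : ℕ, ∀ d ∈ (conjH hS).range, t ^ n * d * (t ^ n)⁻¹ ∈ (conjH hS).range := by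
    have h1 : ∀ d ∈ (conjH hS).range, t * d * t⁻¹ ∈ (conjH hS).range := fun d hd => by
      have h := htau _ (htau d hd)
      have e : t⁻¹ = t * t := inv_eq_of_mul_eq_one_right (by rw [← mul_assoc, ← pow_three']; exact ht3)
      rw [e] at h ⊢
      have e3 : t * t * t = 1 := by rw [← pow_three']; exact ht3
      rw [show t * t * (t * t * d * t) * t = t * t * t * t * d * (t * t) by group, e3, one_mul] at h
      exact h
    intro n
    induction n with
    | zero => intro d hd; simpa using hd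
    | succ n ih =>
      intro d hd
      rw [pow_succ', show t * t ^ n * d * (t * t ^ n)⁻¹ = t * (t ^ n * d * (t ^ n)⁻¹) * t⁻¹ by group]
      exact h1 _ (ih d hd)
  obtain ⟨i, s, hs⟩ := CG26.AutPO.D4.exists_decomp (MulAut.congr E α)
  have hα : α = t ^ (i : ℕ) * C s.aut := by
    rw [ht, hs, ← map_pow, ← map_mul, mul_inv_cancel_left, hC, MulEquiv.symm_apply_apply]
  rw [hα, show t ^ (i : ℕ) * C s.aut * d * (t ^ (i : ℕ) * C s.aut)⁻¹ =
    t ^ (i : ℕ) * (C s.aut * d * (C s.aut)⁻¹) * (t ^ (i : ℕ))⁻¹ by group]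
  exact htpow _ _ (hsim s d hd)

theorem conj_inndiag_all (hm : 4 ≤ m) (hS : Setting (R m F) (H (show 3 ≤ m by omega) F) ⊤)
    (α : MulAut (Cfsg.POmega F (Cfsg.quadFormPlus m F)))
    {d : MulAut (Cfsg.POmega F (Cfsg.quadFormPlus m F))} (hd : d ∈ (conjH hS).range) :
    α * d * α⁻¹ ∈ (conjH hS).range := by
  rcases Nat.lt_or_ge m 5 with h | h
  · obtain rfl : m = 4 := by omega
    exact conj_inndiag4 hS α hd
  · exact conj_inndiag h hS α hd

end Cfsg.Agent.FieldAutGen.Plus
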