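import Mathlib
import Cfsg.Agent.FieldAutGen.PlusTriality
import Cfsg.Agent.FieldAutGen.GraphClass

/-!
Field automorphisms of `PΩ⁺_{2m}(q)`, `m ≥ 4`: centraliser and splitting of the class (helper60).
-/

set_option autoImplicit false
set_option maxHeartbeats 800000

namespace Cfsg.Agent.FieldAutGen.Plus

open Matrix QuadraticMap
open Cfsg.Agent.AutPSL (fieldMap scalarGL Induced)
open Cfsg.Agent.FieldAutGen.Orth
open Cfsg.Agent.Reflections (mat refl act detHom theta)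

universe u v

variable {m : ℕ} {F : Type u} [Field F]

theorem fieldMap_dg_delta {σ : F ≃+* F} {d : Fin m → Fˣ} {μ : Fˣ} (hd : ∀ j, σ (d j : F) = d j)
    (hμ : σ (μ : F) = μ) :
    fieldMap σ (((dg m F d : ↥(Iso m F)) : GL (Fin m ⊕ Fin m) F) * delta m F μ) =
      ((dg m F d : ↥(Iso m F)) : GL (Fin m ⊕ Fin m) F) * delta m F μ := by
  rw [map_mul]
  congr 1 <;> apply Units.ext <;> rw [AutPSL.fieldMap_coe]
  · rw [dg_coe, diagHom_coe, Matrix.diagonal_map (map_zero _)]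
    congr 1
    funext l
    rcases l with l | l <;> simp [hd]
  · rw [show (delta m F μ : Matrix (Fin m ⊕ Fin m) (Fin m ⊕ Fin m) F) = Matrix.diagonal fun j =>
      (((Sum.elim (fun _ => μ) fun _ => 1) j : Fˣ) : F) from rfl, Matrix.diagonal_map (map_zero _)]
    congr 1
    funext l
    rcases l with l | l <;> simp [hμ]

theorem mult_fixed (hm : 0 < m) {σ : F ≃+* F} (g : Sim m F)
    (hg : fieldMap σ (g : GL (Fin m ⊕ Fin m) F) = g) :
    σ (mult (qf m F) (qf_e1 hm) g : F) = mult (qf m F) (qf_e1 hm) g := by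
  have h1 := mult_spec (qf m F) (qf_e1 hm) g (e1 hm F)
  rw [qf_e1, mul_one] at h1
  rw [← h1, ← qf_sigma, ← map_mulVec, e1_fixed, ← AutPSL.fieldMap_coe, hg]

theorem isoPart_fixed (hm : 0 < m) {σ : F ≃+* F} (g : Sim m F)
    (hg : fieldMap σ (g : GL (Fin m ⊕ Fin m) F) = g) :
    fieldMap σ (isoPart hm g : GL (Fin m ⊕ Fin m) F) = isoPart hm g := by
  rw [isoPart_coe, map_mul, map_inv, hg]
  congr 2
  have h := fieldMap_dg_delta (σ := σ) (d := (1 : Fin m → Fˣ)) (fun j => by simp) (mult_fixed hm g hg)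
  rw [map_one, OneMemClass.coe_one, one_mul] at h
  exact h

/-- The values of multiplier and spinor norm on fixed points and scalars. -/
noncomputable def fieldPairs [DecidableEq F] [Fintype F] (m : ℕ) (K : Subgroup Fˣ) :
    ↥K × Fˣ →* Fˣ × ℤˣ :=
  ((K.subtype.prod 1).comp (MonoidHom.fst ↥K Fˣ)) *
    (((MonoidHom.id Fˣ * MonoidHom.id Fˣ).prod ((powMonoidHom m).comp (etaU F))).comp
      (MonoidHom.snd ↥K Fˣ))

theorem fieldPairs_apply [DecidableEq F] [Fintype F] (K : Subgroup Fˣ) (a : ↥K) (c : Fˣ) :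
    fieldPairs m K (a, c) = ((a : Fˣ) * (c * c), etaU F c ^ m) := by
  show ((a : Fˣ) * (c * c), (1 : ℤˣ) * etaU F c ^ m) = _
  rw [one_mul]

variable [Fintype F]

/-- Index of the values in a quadratic extension. -/
theorem field_index [DecidableEq F] (h2 : (2 : F) ≠ 0) {σ : F ≃+* F} {q₀ : ℕ} (hσ1 : σ ≠ 1)
    (hσσ : ∀ x, σ (σ x) = x) (hσ : ∀ x : F, σ x = x ^ q₀) (hq : Fintype.card F = q₀ ^ 2)
    (K : Subgroup Fˣ) (hK : ∀ a, a ∈ K ↔ σ (a : F) = a) (hKsq : ∀ a ∈ K, ∃ c : Fˣ, a = c * c) :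
    ((Odd m ∧ q₀ % 4 = 1) → (fieldPairs (F := F) m K).range.index = 2) ∧
      (¬ (Odd m ∧ q₀ % 4 = 1) → (fieldPairs (F := F) m K).range.index = 4) := by
  have hodd : q₀ % 2 = 1 := by
    have h := FiniteField.odd_card_of_char_ne_two (F := F) (fun h => h2 (by
      haveI := ringChar.of_eq h; exact CharTwo.two_eq_zero))
    rw [hq] at h
    rcases Nat.mod_two_eq_zero_or_one q₀ with h0 | h0
    · rw [Nat.pow_mod, h0] at h; norm_num at h
    · exact h0
  have h12 : ∀ x ∈ (fieldPairs (F := F) m K).range, ∃ c : Fˣ, x.1 = c * c := by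
    rintro _ ⟨⟨a, c⟩, rfl⟩
    obtain ⟨b, hb⟩ := hKsq a a.2
    exact ⟨b * c, by rw [fieldPairs_apply, hb, mul_mul_mul_comm]⟩
  have hfull : ∀ c : Fˣ, ∃ s : ℤˣ, (c * c, s) ∈ (fieldPairs (F := F) m K).range := fun c =>
    ⟨_, (1, c), by rw [fieldPairs_apply, OneMemClass.coe_one, one_mul]⟩
  obtain ⟨h2', h4'⟩ := Count.index_two_or_four h2 _ h12 hfull
  have hpow : ∀ c : Fˣ, σ (c : F) = -c → etaU F c = (-1) ^ ((q₀ + 1) / 2) := by
    intro c hc
    have h1 : (c : F) ^ (q₀ - 1) = -1 := by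
      have : (c : F) ^ (q₀ - 1) * c = -c := by
        rw [← pow_succ, show q₀ - 1 + 1 = q₀ by omega, ← hσ, hc]
      exact mul_right_cancel₀ c.ne_zero (this.trans (neg_one_mul _).symm)
    have he : Fintype.card F / 2 = (q₀ - 1) * ((q₀ + 1) / 2) := by
      obtain ⟨t, rfl⟩ : ∃ t, q₀ = 2 * t + 1 := ⟨q₀ / 2, by omega⟩
      rw [hq, Nat.add_sub_cancel, show (2 * t + 1 + 1) / 2 = t + 1 by omega]
      have : (2 * t + 1) ^ 2 = 2 * (2 * t * (t + 1)) + 1 := by ring
      omega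
    have hiff := FiniteField.isSquare_iff (F := F) (fun h => h2 (by
      haveI := ringChar.of_eq h; exact CharTwo.two_eq_zero)) c.ne_zero
    rw [he, pow_mul, h1] at hiff
    rcases Nat.even_or_odd ((q₀ + 1) / 2) with e | e
    · rw [e.neg_one_pow, etaU_eq_one_iff]; exact hiff.2 e.neg_one_pow
    · rw [e.neg_one_pow]
      refine etaU_of_not _ fun hs => ?_
      have := hiff.1 hs
      rw [e.neg_one_pow] at this
      exact h2 (by linear_combination -this)
  constructor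
  · rintro ⟨hmo, h4⟩
    obtain ⟨y, hy⟩ : ∃ y, σ y ≠ y := by
      by_contra hh
      push_neg at hh
      exact hσ1 (RingEquiv.ext hh)
    set c := Units.mk0 (y - σ y) (sub_ne_zero.2 (Ne.symm hy)) with hcdef
    have hc : σ (c : F) = -c := by
      simp only [hcdef, Units.val_mk0, map_sub, hσσ, neg_sub]
    have hcc : c * c ∈ K := (hK _).2 (by rw [Units.val_mul, map_mul, hc, neg_mul_neg])
    refine h2' ⟨(⟨(c * c)⁻¹, inv_mem hcc⟩, c), ?_⟩
    rw [fieldPairs_apply, inv_mul_cancel, hpow c hc,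
      (show Odd ((q₀ + 1) / 2) from Nat.odd_iff.2 (by omega)).neg_one_pow, hmo.neg_one_pow]
  · intro hnot
    refine h4' ?_
    rintro ⟨⟨a, c⟩, hac⟩
    rw [fieldPairs_apply, Prod.mk.injEq] at hac
    obtain ⟨h1, h3⟩ := hac
    have ha : c * c ∈ K := by
      rw [eq_inv_of_mul_eq_one_right h1]; exact inv_mem a.2
    have hsc : σ (c : F) * σ (c : F) = c * c := by
      rw [← map_mul, ← Units.val_mul]; exact (hK _).1 ha
    have hm' : Odd m := by
      rcases Nat.even_or_odd m with h | h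
      · obtain ⟨k, rfl⟩ := h
        rw [← two_mul, pow_mul, Int.units_sq, one_pow] at h3
        exact absurd h3 (by decide)
      · exact h
    have hη : etaU F c = -1 := by
      rcases Int.units_eq_one_or (etaU F c) with h | h
      · rw [h, one_pow] at h3; exact absurd h3 (by decide)
      · exact h
    rcases mul_self_eq_mul_self_iff.1 hsc with h | h
    · obtain ⟨b, hb⟩ := hKsq c ((hK c).2 h)
      rw [hb, map_mul, Int.units_mul_self] at hη
      exact absurd hη (by decide)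
    · have h4 : ¬ q₀ % 4 = 1 := fun e => hnot ⟨hm', e⟩
      rw [hpow c h, (show Even ((q₀ + 1) / 2) from Nat.even_iff.2 (by omega)).neg_one_pow] at hη
      exact absurd hη (by decide)

/-- The splitting of the class of a standard field automorphism. -/
theorem field_split {hm : 3 ≤ m} (hS : Setting (R m F) (H hm F) ⊤) {σ : F ≃+* F}
    {φ : MulAut (Cfsg.POmega F (Cfsg.quadFormPlus m F))} (hφ : Induced (R m F) 1 σ φ)
    {F₀ : Type v} [Field F₀] [Fintype F₀] (i : F₀ →+* F) (hi : ∀ x : F, σ x = x ↔ ∃ y, i y = x) :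
    ((Odd (orderOf σ) ∨ (2 : F) = 0) →
      Cfsg.splitClassCount (conjH hS).range (Cfsg.Inn (Cfsg.POmega F (Cfsg.quadFormPlus m F))) φ = 1) ∧
      ((2 : F) ≠ 0 → orderOf σ = 2 → (∀ x : F, σ x = x ^ Fintype.card F₀) →
        Fintype.card F = Fintype.card F₀ ^ 2 →
        ((Odd m ∧ Fintype.card F₀ % 4 = 1) → Cfsg.splitClassCount (conjH hS).range
          (Cfsg.Inn (Cfsg.POmega F (Cfsg.quadFormPlus m F))) φ = 2) ∧
        (¬ (Odd m ∧ Fintype.card F₀ % 4 = 1) → Cfsg.splitClassCount (conjH hS).range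
          (Cfsg.Inn (Cfsg.POmega F (Cfsg.quadFormPlus m F))) φ = 4)) := by
  classical
  have hm0 := Nat.zero_lt_of_lt hm
  haveI : Nonempty (Fin m ⊕ Fin m) := ⟨.inl ⟨0, hm0⟩⟩
  have key : ∀ (h2 : (2 : F) ≠ 0) {ε : F} (hε : ¬ IsSquare ε),
      Cfsg.splitClassCount (conjH hS).range (Cfsg.Inn (Cfsg.POmega F (Cfsg.quadFormPlus m F))) φ =
        ((((fieldMap σ).eqLocus (MonoidHom.id (GL (Fin m ⊕ Fin m) F))).subgroupOf (H hm F)).map
            (chiP hm h2 hε) ⊔ ((chiP hm h2 hε).comp (scal hm F)).range).index := fun h2 {ε} hε =>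
    splitClassCount_field hS (Subgroup.mem_top _) hφ (chiP hm h2 hε) (chiP_surjective hm h2 hε) _
      (chiP_hN hm h2 hε)
  refine ⟨fun h => ?_, fun h2 hσ2 hσq hcard => ?_⟩
  · by_cases h2 : (2 : F) = 0
    · rw [splitClassCount_field hS (Subgroup.mem_top _) hφ (1 : ↥(H hm F) →* PUnit.{u + 1})
        (fun _ => ⟨1, rfl⟩) ⊤ (fun g => ⟨fun _ => mem_omega_scalar hm h2 g, fun _ => Subgroup.mem_top _⟩),
        sup_top_eq, Subgroup.index_top]
    have hodd : Odd (orderOf σ) := h.resolve_right h2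
    have h20 : (2 : F₀) ≠ 0 := fun h => h2 (by rw [← map_ofNat i 2, h, map_zero])
    obtain ⟨η, -, hη⟩ := Reflections.exists_nonsquare_scalar (F := F₀) h20
    have hfix0 : σ (i η) = i η := (hi _).2 ⟨η, rfl⟩
    have hε : ¬ IsSquare (i η) := fun h => by
      obtain ⟨s, hs, he⟩ := exists_sqrt_fixed hodd h hfix0
      obtain ⟨t, rfl⟩ := (hi s).1 hs
      exact hη ⟨t, i.injective (by rw [map_mul]; exact he)⟩
    have hε0 : i η ≠ 0 := fun h => hε (h ▸ IsSquare.zero)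
    rw [key h2 hε, Subgroup.index_eq_one, eq_top_iff]
    rintro ⟨μ, s⟩ -
    set e := Units.mk0 (i η) hε0 with he
    have heη : etaU F e = -1 := etaU_of_not _ hε
    obtain ⟨μ₀, hμ₀, c, rfl⟩ : ∃ μ₀ : Fˣ, σ (μ₀ : F) = μ₀ ∧ ∃ c : Fˣ, μ = μ₀ * (c * c) := by
      rcases Int.units_eq_one_or (etaU F μ) with h | h
      · obtain ⟨c, hc⟩ := (etaU_eq_one_iff μ).1 h
        have hc0 : c ≠ 0 := fun h0 => μ.ne_zero (by rw [hc, h0, zero_mul])
        exact ⟨1, map_one σ, Units.mk0 c hc0, Units.ext (by simpa using hc)⟩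
      · have h' : etaU F (e⁻¹ * μ) = 1 := by rw [map_mul, map_inv, heη, h]; decide
        obtain ⟨c, hc⟩ := (etaU_eq_one_iff _).1 h'
        have hc0 : c ≠ 0 := fun h0 => (e⁻¹ * μ).ne_zero (by rw [hc, h0, zero_mul])
        refine ⟨e, hfix0, Units.mk0 c hc0, ?_⟩
        rw [← show e⁻¹ * μ = Units.mk0 c hc0 * Units.mk0 c hc0 from Units.ext hc, mul_inv_cancel_left]
    obtain ⟨b, hbfix, hb⟩ : ∃ b : Fˣ, σ (b : F) = b ∧ etaU F b = s * etaU F c ^ m := by
      rcases Int.units_eq_one_or (s * etaU F c ^ m) with h | h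
      · exact ⟨1, map_one σ, (map_one _).trans h.symm⟩
      · exact ⟨e, hfix0, heη.trans h.symm⟩
    let j₀ : Fin m := ⟨0, hm0⟩
    let D : ↥(H hm F) := ⟨_, dg_delta_mem hm (Pi.mulSingle j₀ b) μ₀⟩
    have hD : chiP hm h2 hε D = (μ₀, s * etaU F c ^ m) := by
      rw [chiP_dg_delta hm h2 hε _ _ D rfl, Fintype.prod_eq_single j₀ (fun j hj => by
        rw [Pi.mulSingle_eq_of_ne hj, map_one]), Pi.mulSingle_eq_same, hb]
    rw [show (μ₀ * (c * c), s) = (μ₀, s * etaU F c ^ m) * (c * c, etaU F c ^ m) from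
      Prod.ext rfl (by rw [Prod.mk_mul_mk, mul_assoc, Int.units_mul_self, mul_one]),
      ← hD, ← chiP_scal hm h2 hε]
    refine Subgroup.mul_mem_sup ⟨D, ?_, rfl⟩ ⟨c, rfl⟩
    refine fieldMap_dg_delta (fun j => ?_) hμ₀
    by_cases hj : j = j₀
    · rw [hj, Pi.mulSingle_eq_same]; exact hbfix
    · rw [Pi.mulSingle_eq_of_ne hj, Units.val_one, map_one]
  · obtain ⟨ε, -, hε⟩ := Reflections.exists_nonsquare_scalar (F := F) h2
    have h20 : (2 : F₀) ≠ 0 := fun h => h2 (by rw [← map_ofNat i 2, h, map_zero])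
    let K : Subgroup Fˣ := (Units.map (σ.toRingHom : F →* F)).eqLocus (MonoidHom.id Fˣ)
    have hK : ∀ a, a ∈ K ↔ σ (a : F) = a := fun a =>
      ⟨fun h => congrArg Units.val h, fun h => Units.ext h⟩
    have hKsq : ∀ a ∈ K, ∃ c : Fˣ, a = c * c := fun a ha => by
      obtain ⟨y, hy⟩ := (hi _).1 ((hK a).1 ha)
      obtain ⟨c, hc⟩ := isSquare_of_quadratic h2 i hcard y
      rw [hy] at hc
      have hc0 : c ≠ 0 := fun h0 => a.ne_zero (by rw [hc, h0, zero_mul])
      exact ⟨Units.mk0 c hc0, Units.ext hc⟩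
    have himage : (((fieldMap σ).eqLocus (MonoidHom.id (GL (Fin m ⊕ Fin m) F))).subgroupOf (H hm F)).map
        (chiP hm h2 hε) ⊔ ((chiP hm h2 hε).comp (scal hm F)).range = (fieldPairs (F := F) m K).range := by
      refine le_antisymm (sup_le ?_ ?_) ?_
      · rintro _ ⟨g, hg, rfl⟩
        set g' := Subgroup.inclusion (H_le hm) g
        have hμ := mult_fixed hm0 g' hg
        refine ⟨(⟨_, (hK _).2 hμ⟩, 1), ?_⟩
        rw [fieldPairs_apply, map_one, one_pow, mul_one, mul_one]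
        refine Prod.ext rfl ?_
        show (1 : ℤˣ) = theta (qf m F) ε (isoPart hm0 g')
        refine (MonoidHom.mem_ker.1 (Abelianization.commutator_subset_ker (theta (qf m F) ε) ?_)).symm
        exact fixed_special_mem_omega h2 (qf m F) qf_nondeg (qf m F₀) qf_nondeg (by simp; omega) i
          (qf_map i) hcard hi (congrArg Units.val (isoPart_fixed hm0 g' hg))
          (Units.ext ((Forms59.classHom_eq_one_iff_det h2 (toP (isoPart hm0 g'))).1 (cls0_isoPart hm g)))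
      · rintro _ ⟨c, rfl⟩
        exact ⟨(1, c), by rw [fieldPairs_apply, OneMemClass.coe_one, one_mul]; exact (chiP_scal hm h2 hε c).symm⟩
      · rintro _ ⟨⟨a, c⟩, rfl⟩
        let D : ↥(H hm F) := ⟨_, dg_delta_mem hm 1 (a : Fˣ)⟩
        have hD : chiP hm h2 hε D = ((a : Fˣ), 1) := by
          rw [chiP_dg_delta hm h2 hε _ _ D rfl]
          simp
        rw [fieldPairs_apply, show (((a : Fˣ) * (c * c)), etaU F c ^ m) =
          ((a : Fˣ), (1 : ℤˣ)) * (c * c, etaU F c ^ m) from Prod.ext rfl (one_mul _).symm,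
          ← hD, ← chiP_scal hm h2 hε]
        exact Subgroup.mul_mem_sup ⟨D, fieldMap_dg_delta (fun j => by simp) ((hK _).1 a.2), rfl⟩ ⟨c, rfl⟩
    have hσ1 : σ ≠ 1 := fun h => by rw [h, orderOf_one] at hσ2; omega
    have hσσ : ∀ x, σ (σ x) = x := fun x => by
      have h := DFunLike.congr_fun (hσ2 ▸ pow_orderOf_eq_one σ : σ ^ 2 = 1) x
      rwa [pow_two] at h
    obtain ⟨a, b⟩ := field_index (m := m) h2 hσ1 hσσ hσq hcard K hK hKsq
    exact ⟨fun h => by rw [key h2 hε, himage]; exact a h, fun h => by rw [key h2 hε, himage]; exact b h⟩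

theorem field_class {p f : ℕ} (hp : p.Prime) (hF : Fintype.card F = p ^ f) (hf : 1 ≤ f) (hm : 4 ≤ m)
    (x : MulAut (Cfsg.POmega F (Cfsg.quadFormPlus m F)))
    (hx : Cfsg.IsFieldAutClassPOmega (Cfsg.quadFormPlus m F) x) {r : ℕ} (hxr : orderOf x = r)
    (F₀ : Type v) [Field F₀] [Fintype F₀] (hF₀ : Fintype.card F₀ = p ^ (f / r)) :
    r ∣ f ∧ Nonempty (↥(Cfsg.inndiagPOmegaPlus m F ⊓ Subgroup.centralizer {x}) ≃*
        ↥(Cfsg.inndiagPOmegaPlus m F₀)) ∧
      ((Odd r ∨ p = 2) → Cfsg.splitClassCount (Cfsg.inndiagPOmegaPlus m F)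
        (Cfsg.Inn (Cfsg.POmega F (Cfsg.quadFormPlus m F))) x = 1) ∧
      ((r = 2 ∧ p ≠ 2 ∧ Odd m ∧ p ^ (f / 2) % 4 = 1) → Cfsg.splitClassCount (Cfsg.inndiagPOmegaPlus m F)
        (Cfsg.Inn (Cfsg.POmega F (Cfsg.quadFormPlus m F))) x = 2) ∧
      ((r = 2 ∧ p ≠ 2 ∧ ¬ (Odd m ∧ p ^ (f / 2) % 4 = 1)) → Cfsg.splitClassCount (Cfsg.inndiagPOmegaPlus m F)
        (Cfsg.Inn (Cfsg.POmega F (Cfsg.quadFormPlus m F))) x = 4) := by
  haveI : Fact p.Prime := ⟨hp⟩
  have hm3 : 3 ≤ m := by omega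
  haveI : Nonempty (Fin m ⊕ Fin m) := ⟨.inl ⟨0, by omega⟩⟩
  have hS := setting (F := F) hm3
  have hS₀ := setting (m := m) (F := F₀) hm3
  obtain ⟨α, φ, σ, -, hφ, rfl⟩ := hx
  have hφ' := isFieldAut_iff.1 hφ
  have hσ : orderOf σ = r := by
    rw [← orderOf_std hS (Subgroup.mem_top _) hφ', AutPSL.orderOf_conj', hxr]
  obtain ⟨hrf, hfix⟩ := AutPSL.card_fixed_eq hσ hp hF hf
  obtain ⟨i, hi⟩ := AutPSL.exists_fixed_embedding σ F₀ (hF₀.trans hfix.symm)
  obtain ⟨e1⟩ := exists_centralizer_equiv hS (Subgroup.mem_top _) hφ' i hi (H hm3 F₀)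
    (fun g => map_mem_H hm3 i g)
  obtain ⟨e2⟩ := exists_range_equiv hS₀
  have hH : ∀ α : MulAut (Cfsg.POmega F (Cfsg.quadFormPlus m F)), ∀ d ∈ (conjH hS).range,
      α * d * α⁻¹ ∈ (conjH hS).range := fun α d hd => conj_inndiag_all hm hS α hd
  obtain ⟨e⟩ := AutPSL.centralizer_conj_equiv (conjH hS).range hH α x
  obtain ⟨h1, h24⟩ := field_split hS hφ' i hi
  have h2 := two_eq_zero_iff hp hF
  rw [← range_eq hm3 hS, ← range_eq hm3 hS₀]
  rw [AutPSL.splitClassCount_conj (X := MulAut (Cfsg.POmega F (Cfsg.quadFormPlus m F))) _ _ hH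
    (fun α d hd => AutPSL.inn_conj α d hd)] at h1 h24
  refine ⟨hrf, ⟨e.trans (e1.trans e2.symm)⟩, fun h => h1 (h.imp (hσ.symm ▸ ·) h2.2), ?_, ?_⟩
  all_goals
    intro h
    obtain ⟨hr2, hp2, hcase⟩ := h
    subst hr2
    obtain ⟨a, b⟩ := h24 (fun z => hp2 (h2.1 z)) hσ
      (fun z => by rw [hF₀]; exact AutPSL.involution_eq_pow hσ hp hF hf z)
      (by rw [hF, hF₀, ← pow_mul, Nat.div_mul_cancel hrf])
    rw [hF₀] at a b
  · exact a hcase
  · exact b hcase

end Cfsg.Agent.FieldAutGen.Plus
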